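import Cfsg.Agent.H0.TRX
import Cfsg.Agent.H16.Prim

/-! Bit matrices acting on a 20-dimensional `𝔽₂`-module. -/

set_option autoImplicit false
set_option linter.unusedSectionVars false

namespace H10.SE
open H16 H0.TR

/-- a matrix (the list of its columns) applied to a bit vector -/
noncomputable def ap (M : List ℕ) : ℕ → ℕ :=
  List.rec (motive := fun _ => ℕ → ℕ) (fun _ => nat_lit 0) (fun c _ ih n =>
    force n fun n => Nat.xor (Nat.mul c (Nat.land n (nat_lit 1))) (ih (Nat.shiftRight n (nat_lit 1)))) M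

theorem ap_cons (c : ℕ) (M : List ℕ) (n : ℕ) : ap (c :: M) n = c * (n % 2) ^^^ ap M (n / 2) := by
  rw [← Nat.and_one_is_mod, ← Nat.shiftRight_one]
  exact force_eq n fun n => Nat.xor (Nat.mul c (Nat.land n 1)) (ap M (Nat.shiftRight n 1))

theorem ap_ind {S : ℕ → Prop} (h0 : S 0) (hx : ∀ a b, S a → S b → S (a ^^^ b)) {M : List ℕ} (h : ∀ c ∈ M, S c)
    (n : ℕ) : S (ap M n) := by
  induction M generalizing n with
  | nil => exact h0
  | cons c M ih =>
    rw [ap_cons]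
    refine hx _ _ ?_ (ih (fun d hd => h d (List.mem_cons_of_mem _ hd)) _)
    rcases Nat.mod_two_eq_zero_or_one n with e | e <;> simp [e, h0, h]

theorem ap_lt {M : List ℕ} {m : ℕ} (h : ltAll (2 ^ m) M = 0) (n : ℕ) : ap M n < 2 ^ m :=
  ap_ind (S := (· < 2 ^ m)) (Nat.two_pow_pos m) (fun _ _ => Nat.xor_lt_two_pow) (ltAll_zero h) n

/-- additive for `xor` -/
def XL (f : ℕ → ℕ) : Prop := ∀ x y, f (x ^^^ y) = f x ^^^ f y

theorem XL.zero {f : ℕ → ℕ} (h : XL f) : f 0 = 0 := by simpa using h 0 0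
theorem XL.id : XL fun n => n := fun _ _ => rfl
theorem XL.comp {f g : ℕ → ℕ} (h : XL f) (k : XL g) : XL fun n => f (g n) := fun x y => by simp only [k x y, h _ _]
theorem XL.xor {f g : ℕ → ℕ} (h : XL f) (k : XL g) : XL fun n => f n ^^^ g n := fun x y => by
  simp only [h x y, k x y]; ac_rfl

theorem ap_xl (M : List ℕ) : XL (ap M) := by
  induction M with
  | nil => exact fun _ _ => (Nat.xor_self 0).symm
  | cons c M ih =>
    intro x y
    have : c * ((x ^^^ y) % 2) = c * (x % 2) ^^^ c * (y % 2) := by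
      rw [show (x ^^^ y) % 2 = x % 2 ^^^ y % 2 from Nat.xor_mod_two_pow (n := 1)]
      rcases Nat.mod_two_eq_zero_or_one x with e | e <;> rcases Nat.mod_two_eq_zero_or_one y with e' | e' <;>
        simp [e, e']
    rw [ap_cons, ap_cons, ap_cons, this, Nat.xor_div_two, ih]; ac_rfl

theorem lin_ind {S : ℕ → Prop} (h0 : S 0) (hx : ∀ a b, S a → S b → S (a ^^^ b)) {k : ℕ}
    (h : ∀ i < k, S (2 ^ i)) : ∀ n < 2 ^ k, S n := by
  induction k with
  | zero => intro n hn; obtain rfl : n = 0 := by omega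
            exact h0
  | succ k ih =>
    intro n hn
    have ih := ih fun i hi => h i (by omega)
    by_cases l : n < 2 ^ k
    · exact ih n l
    have : n = (n ^^^ 2 ^ k) ^^^ 2 ^ k := by rw [Nat.xor_xor_cancel_right]
    refine this ▸ hx _ _ (ih _ (Nat.lt_pow_two_of_testBit _ fun i hi => ?_)) (h k (by omega))
    rcases hi.eq_or_lt with rfl | hi
    · simp [Nat.testBit_of_two_pow_le_and_two_pow_add_one_gt (not_lt.1 l) hn]
    · simp [Nat.testBit_lt_two_pow (hn.trans_le (Nat.pow_le_pow_right two_pos hi)), Nat.testBit_two_pow_of_ne hi.ne]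

/-- `2 ^ i` -/
noncomputable def tp (i : ℕ) : ℕ := Nat.shiftLeft (nat_lit 1) i
theorem tp_eq (i : ℕ) : tp i = 2 ^ i := Nat.one_shiftLeft i
theorem xz {a b : ℕ} (h : Nat.xor a b = 0) : a = b := Nat.eq_of_xor_eq_zero h

theorem XL.ext {f g : ℕ → ℕ} (hf : XL f) (hg : XL g) {k : ℕ}
    (h : allZ (fun i => Nat.xor (f (tp i)) (g (tp i))) 0 k = true) : ∀ n < 2 ^ k, f n = g n :=
  lin_ind (S := fun n => f n = g n) (hf.zero.trans hg.zero.symm) (fun a b ha hb => by rw [hf, hg, ha, hb])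
    fun i hi => tp_eq i ▸ xz (allZ_sound0 h i hi)

/-- a word in the matrices `Ms` -/
noncomputable def apM (Ms : List (List ℕ)) (W : List ℕ) : ℕ → ℕ := apW (fun k => ap (nth [] Ms k)) W

theorem apM_xl (Ms : List (List ℕ)) (W : List ℕ) : XL (apM Ms W) := by
  induction W with
  | nil => exact XL.id
  | cons k W ih => exact ih.comp (ap_xl _)

variable {G V : Type*} [Group G] [AddCommGroup V] [DistribMulAction G V] {b : ℕ → V}

def vec (b : ℕ → V) (n : ℕ) : V := ∑ i ∈ Finset.range 20, if n.testBit i then b i else 0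

theorem vec_zero : vec b 0 = 0 := by simp [vec]
theorem vec_tp {i : ℕ} (h : i < 20) : vec b (2 ^ i) = b i := by simp [vec, Nat.testBit_two_pow, h]
theorem vec_smul (g : G) (n : ℕ) : vec (fun i => g • b i) n = g • vec b n := by
  simp [vec, Finset.smul_sum, apply_ite (g • ·)]

theorem vec_xor (h2 : ∀ v : V, v + v = 0) (x y : ℕ) : vec b (x ^^^ y) = vec b x + vec b y := by
  rw [vec, vec, vec, ← Finset.sum_add_distrib]
  refine Finset.sum_congr rfl fun i _ => ?_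
  cases e : x.testBit i <;> cases e' : y.testBit i <;> simp [e, e', h2]

/-- `g` acts by the function `f` -/
def Af (b : ℕ → V) (g : G) (f : ℕ → ℕ) : Prop := ∀ n < 2 ^ 20, f n < 2 ^ 20 ∧ g • vec b n = vec b (f n)
/-- the letters `e k` act by the matrices `Ms` -/
def AcF (b : ℕ → V) (e : ℕ → G) (Ms : List (List ℕ)) (r : ℕ) : Prop := Act e (vec b) (fun k => ap (nth [] Ms k)) (2 ^ 20) r

theorem af_of (h2 : ∀ v : V, v + v = 0) {g : G} {M : List ℕ} (hM : ltAll (2 ^ 20) M = 0)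
    (h : ∀ i < 20, g • b i = vec b (ap M (tp i))) : Af b g (ap M) := fun n hn => ⟨ap_lt hM n,
  lin_ind (S := fun n => g • vec b n = vec b (ap M n)) (by rw [(ap_xl M).zero, vec_zero, smul_zero])
    (fun a c ha hc => by rw [ap_xl, vec_xor h2, vec_xor h2, smul_add, ha, hc])
    (fun i hi => by rw [vec_tp hi, h i hi, tp_eq]) n hn⟩

theorem AcF.word {e : ℕ → G} {Ms : List (List ℕ)} {r : ℕ} (h : AcF b e Ms r) {W : List ℕ} (hW : ltAll r W = 0) :
    Af b (evA e W) (apM Ms W) := fun _ hn => Act.apW h (ltAll_zero hW) hn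

theorem AcF.af {e : ℕ → G} {Ms : List (List ℕ)} {r k : ℕ} (h : AcF b e Ms r) (hk : k < r) :
    Af b (e k) (ap (nth [] Ms k)) := h k hk

noncomputable def matE (Ms Ws Mw : List (List ℕ)) (k i : ℕ) : ℕ :=
  Nat.xor (apM Ms (nth [] Ws k) (tp i)) (ap (nth [] Mw k) (tp i))

theorem AcF.wds {e : ℕ → G} {Ms Ws Mw : List (List ℕ)} {r n : ℕ} (h : AcF b e Ms r)
    (hW : allL (ltAll r) Ws = true) (hc : ∀ k < n, ∀ i < 20, matE Ms Ws Mw k i = 0) : AcF b (wds e Ws) Mw n := by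
  intro k hk m hm
  have := lin_ind (S := fun m => apM Ms (nth [] Ws k) m = ap (nth [] Mw k) m)
    ((apM_xl _ _).zero.trans (ap_xl _).zero.symm) (fun a c ha hc => by rw [apM_xl, ap_xl, ha, hc])
    (fun i hi => tp_eq i ▸ xz (hc k hk i hi)) m hm
  beta_reduce
  exact this ▸ Act.apW h (nth_lt hW k) hm

structure Bas (b : ℕ → V) : Prop where
  h2 : ∀ v : V, v + v = 0
  inj : PtInj (vec b) (2 ^ 20)
  surj : ∀ v, ∃ n < 2 ^ 20, v = vec b n

theorem Bas.of_inj (h2 : ∀ v : V, v + v = 0) (hc : Nat.card V = 2 ^ 20) (h : ∀ n < 2 ^ 20, vec b n = 0 → n = 0) :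
    Bas b := by
  have i : PtInj (vec b) (2 ^ 20) := fun x hx y hy e =>
    Nat.eq_of_xor_eq_zero (h _ (Nat.xor_lt_two_pow hx hy) (by rw [vec_xor h2, e, h2]))
  have : Finite V := Nat.finite_of_card_ne_zero (by rw [hc]; decide)
  have := (Nat.bijective_iff_injective_and_card fun n : Fin (2 ^ 20) => vec b n).2
    ⟨fun x y e => Fin.ext (i _ x.2 _ y.2 e), by rw [hc, Nat.card_fin]⟩
  exact ⟨h2, i, fun v => by obtain ⟨n, e⟩ := this.2 v; exact ⟨n, n.2, e.symm⟩⟩

theorem Bas.smul (h : Bas b) (g : G) : Bas fun i => g • b i := by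
  refine ⟨h.h2, fun x hx y hy e => h.inj x hx y hy ?_, fun v => ?_⟩
  · rwa [vec_smul, vec_smul, smul_left_cancel_iff] at e
  obtain ⟨n, hn, e⟩ := h.surj (g⁻¹ • v)
  exact ⟨n, hn, by rw [vec_smul, ← e, smul_inv_smul]⟩

theorem AcF.cj {e : ℕ → G} {Ms : List (List ℕ)} {r : ℕ} (h : AcF b e Ms r) (g : G) :
    AcF (fun i => g • b i) (cj g e) Ms r := fun k hk n hn => ⟨(h k hk n hn).1, by
  rw [vec_smul, vec_smul, ← (h k hk n hn).2, H0.TR.cj, mul_smul, mul_smul, inv_smul_smul]⟩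

theorem Bas.fix (h : Bas b) {g : G} {f : ℕ → ℕ} (a : Af b g f) {n : ℕ} (hn : n < 2 ^ 20) :
    g • vec b n = vec b n ↔ f n = n :=
  ⟨fun e => h.inj _ (a n hn).1 _ hn ((a n hn).2.symm.trans e), fun e => by rw [(a n hn).2, e]⟩

/-- `∑ Z (M n + n)` -/
noncomputable def sx (L : List (List ℕ × List ℕ)) (n : ℕ) : ℕ :=
  List.rec (motive := fun _ => ℕ) (nat_lit 0) (fun p _ ih => Nat.xor (ap p.2 (Nat.xor (ap p.1 n) n)) ih) L

theorem sx_xl (L : List (List ℕ × List ℕ)) : XL (sx L) := by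
  induction L with
  | nil => exact fun _ _ => (Nat.xor_self 0).symm
  | cons p L ih => exact ((ap_xl p.2).comp ((ap_xl p.1).xor XL.id)).xor ih

theorem sx_zero {L : List (List ℕ × List ℕ)} {n : ℕ} (h : ∀ p ∈ L, ap p.1 n = n) : sx L n = 0 := by
  induction L with
  | nil => rfl
  | cons p L ih =>
    have : sx (p :: L) n = ap p.2 (ap p.1 n ^^^ n) ^^^ sx L n := rfl
    rw [this, h p List.mem_cons_self, ih fun q hq => h q (List.mem_cons_of_mem _ hq)]
    simp [(ap_xl _).zero]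

noncomputable def kerC (L : List (List ℕ × List ℕ)) (La Ra : List ℕ) (m : ℕ) : Bool :=
  allZ (fun i => Nat.xor (tp i) (Nat.xor (ap La (ap Ra (tp i))) (sx L (tp i)))) 0 20 && Nat.beq (ltAll (2 ^ m) Ra) 0

/-- the common fixed vectors of the matrices lie in the span of `La` -/
theorem kerle {L : List (List ℕ × List ℕ)} {La Ra : List ℕ} {m : ℕ} (h : kerC L La Ra m = true) {n : ℕ}
    (hn : n < 2 ^ 20) (f : ∀ p ∈ L, ap p.1 n = n) : ∃ u < 2 ^ m, n = ap La u := by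
  obtain ⟨h1, h2⟩ := Bool.and_eq_true_iff.1 h
  have := XL.id.ext (((ap_xl La).comp (ap_xl Ra)).xor (sx_xl L)) h1 n hn
  exact ⟨_, ap_lt (Nat.eq_of_beq_eq_true h2) n, by simpa [sx_zero f] using this⟩

/-- the fixed vectors of `g` -/
def Fi (V : Type*) [AddCommGroup V] [DistribMulAction G V] (g : G) : AddSubgroup V where
  carrier := {v | g • v = v}
  zero_mem' := smul_zero g
  add_mem' := fun h k => by rw [Set.mem_ofPred, smul_add, h, k]
  neg_mem' := fun h => by rw [Set.mem_ofPred, smul_neg, h]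

theorem card_le_of (U : AddSubgroup V) {m : ℕ} {f : ℕ → V} (h : ∀ v ∈ U, ∃ u < m, v = f u) : Nat.card U ≤ m := by
  choose u hu e using h
  rw [← Nat.card_fin m]
  exact Nat.card_le_card_of_injective (fun v : U => (⟨u v v.2, hu v v.2⟩ : Fin m)) fun v w q =>
    Subtype.ext (by rw [e v v.2, e w w.2, show u v v.2 = u w w.2 from congrArg Fin.val q])

/-- `v k` is centralized by an element of order divisible by three of the semidirect product -/
def Gd (k : G) (v : V) : Prop := ∃ (x : G) (w : V), x ^ 3 = 1 ∧ x ≠ 1 ∧ x * k = k * x ∧ x • v + w = v + k • w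

theorem Gd.cent {k c : G} {v : V} (e : c * k = k * c) (h : Gd k (c • v)) : Gd k v := by
  obtain ⟨x, w, h1, h2, h3, h4⟩ := h
  have e' : Commute c k := e
  refine ⟨c⁻¹ * x * c⁻¹⁻¹, c⁻¹ • w, by rw [conj_pow, h1]; simp, fun q => h2 (by simpa using conj_eq_one_iff.1 q),
    ((e'.inv_left.mul_left h3).mul_left e'.inv_left.inv_left).eq, ?_⟩
  rw [mul_smul, mul_smul, inv_inv, ← smul_add, h4, smul_add, inv_smul_smul, ← mul_smul, e'.inv_left.eq, mul_smul]

theorem Gd.tr (h2 : ∀ v : V, v + v = 0) {k : G} {v : V} (h : Gd k v) (u : V) : Gd k (v + (k • u + u)) := by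
  obtain ⟨x, w, h1, h3, h4, h5⟩ := h
  have h2' (a c : V) : a + (a + c) = c := by rw [← add_assoc, h2, zero_add]
  refine ⟨x, w + x • u + u, h1, h3, h4, ?_⟩
  rw [← eq_sub_iff_add_eq, sub_eq_add_neg, neg_eq_of_add_eq_zero_right (h2 w)] at h5
  simp only [smul_add, h5, ← mul_smul, h4]
  simp only [add_assoc, add_comm, add_left_comm, h2, h2', add_zero]

/-- data for a fixed involution `k`: letters `e` commuting with `k`, the first `s` of order three -/
structure Ck (b : ℕ → V) (k : G) (K : List ℕ) (e : ℕ → G) (Ms : List (List ℕ)) (r s : ℕ) : Prop where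
  bas : Bas b
  ak : Af b k (ap K)
  ae : AcF b e Ms r
  cm : ∀ j < r, e j * k = k * e j
  o3 : ∀ j < s, j < r ∧ e j ^ 3 = 1 ∧ e j ≠ 1

noncomputable def leaf (K : List ℕ) (Ms : List (List ℕ)) (r s n : ℕ) (c : List ℕ × ℕ × ℕ) : ℕ :=
  Nat.add (ltAll r c.1) (Nat.add (ltAll s [c.2.1]) (Nat.add (ltAll (2 ^ 20) [c.2.2])
    (force (apM Ms c.1 n) fun m => Nat.xor (Nat.xor (ap (nth [] Ms c.2.1) m) c.2.2) (Nat.xor m (ap K c.2.2)))))

namespace Ck
variable {k : G} {K : List ℕ} {e : ℕ → G} {Ms : List (List ℕ)} {r s : ℕ} (h : Ck b k K e Ms r s)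
include h

theorem word {W : List ℕ} (hW : ltAll r W = 0) {n : ℕ} (hn : n < 2 ^ 20) (g : Gd k (vec b (apM Ms W n))) :
    Gd k (vec b n) :=
  Gd.cent (c := evA e W) (Subgroup.mem_centralizer_singleton_iff.1 (evA_mem e fun j hj =>
    Subgroup.mem_centralizer_singleton_iff.2 (h.cm j (ltAll_zero hW j hj)))) ((h.ae.word hW n hn).2 ▸ g)

theorem lf {n : ℕ} (hn : n < 2 ^ 20) {c : List ℕ × ℕ × ℕ} (l : leaf K Ms r s n c = 0) : Gd k (vec b n) := by
  simp only [leaf, Nat.add_eq, Nat.add_eq_zero_iff, force_eq] at l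
  obtain ⟨l1, l2, l3, l4⟩ := l
  obtain ⟨j1, j2, j3⟩ := h.o3 _ (ltAll_zero l2 _ List.mem_cons_self)
  have m := (h.ae.word l1 n hn).1
  refine h.word l1 hn ⟨e c.2.1, vec b c.2.2, j2, j3, h.cm _ j1, ?_⟩
  rw [(h.ae.af j1 _ m).2, (h.ak _ (ltAll_zero l3 _ List.mem_cons_self)).2, ← vec_xor h.bas.h2, ← vec_xor h.bas.h2]
  exact congrArg _ (xz l4)

/-- all fixed vectors are good -/
theorem tate {Wm La Ra Z : List ℕ} {m : ℕ} {C : List (List ℕ × ℕ × ℕ)}
    (h1 : allZ (fun i => Nat.xor (tp i) (Nat.xor (Nat.xor (ap La (ap Ra (tp i)))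
      (Nat.xor (ap K (ap Wm (tp i))) (ap Wm (tp i)))) (sx [(K, Z)] (tp i)))) 0 20 = true ∧
      ltAll (2 ^ m) Ra = 0 ∧ ltAll (2 ^ 20) La = 0 ∧ ltAll (2 ^ 20) Wm = 0)
    (h3 : ∀ u < 2 ^ m, leaf K Ms r s (ap La u) (nth ([], 0, 0) C u) = 0) {v : V} (f : k • v = v) : Gd k v := by
  obtain ⟨n, hn, rfl⟩ := h.bas.surj v
  have := XL.id.ext ((((ap_xl La).comp (ap_xl Ra)).xor (((ap_xl K).comp (ap_xl Wm)).xor (ap_xl Wm))).xor (sx_xl _))
    h1.1 n hn
  rw [sx_zero (by simpa using (h.bas.fix h.ak hn).1 f), Nat.xor_zero] at this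
  rw [this, vec_xor h.bas.h2, vec_xor h.bas.h2, ← (h.ak _ (ap_lt h1.2.2.2 n)).2]
  exact (h.lf (ap_lt h1.2.2.1 _) (h3 _ (ap_lt h1.2.1 n))).tr h.bas.h2 _
end Ck

end H10.SE
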