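import Cfsg.Agent.H10.SE.A

/-! Orbit certificates along an invariant flag, permutation models on vectors, fixed point counts. -/

set_option autoImplicit false
set_option linter.unusedSectionVars false

namespace H10.SE
open H16 H0.TR MulAction

variable {G V : Type*} [Group G] [AddCommGroup V] [DistribMulAction G V] {b : ℕ → V}

inductive FT
  | leaf (c : List ℕ × ℕ × ℕ)
  | split (l r : FT)
  | fuse (W : List ℕ) (T : FT)

noncomputable def FT.chk (K : List ℕ) (Ms Mu : List (List ℕ)) (r s ru : ℕ) (T : FT) : ℕ → ℕ → ℕ :=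
  FT.rec (motive := fun _ => ℕ → ℕ → ℕ) (fun x i c => Nat.add i (H10.SE.leaf K Ms r s c x))
    (fun _ _ l r i c => Nat.add (Nat.sub 1 i) (force (Nat.pred i) fun i => force (Nat.mul 2 c) fun c =>
      Nat.add (l i c) (r i (Nat.succ c))))
    (fun W _ t i c => Nat.add (Nat.sub 1 i) (force (Nat.pred i) fun i => force (Nat.mul 2 c) fun c =>
      Nat.add (Nat.add (ltAll ru W) (Nat.xor (Nat.shiftRight (apM Mu W (Nat.shiftLeft (Nat.succ c) i)) i) c)) (t i c))) T

theorem tri {Mu : List (List ℕ)} {ru : ℕ}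
    (h : allZ2 (fun j i => Nat.shiftRight (ap (nth [] Mu j) (tp i)) (Nat.succ i)) ru 20 = true) {i : ℕ} (hi : i ≤ 20)
    {W : List ℕ} (hW : ∀ k ∈ W, k < ru) : ∀ n < 2 ^ i, apM Mu W n < 2 ^ i := by
  induction W with
  | nil => exact fun _ h => h
  | cons k W ih =>
    refine fun n hn => ih (fun j hj => hW j (List.mem_cons_of_mem _ hj)) _ (lin_ind (S := fun n => ap _ n < 2 ^ i)
      (by rw [(ap_xl _).zero]; positivity) (fun a c ha hc => ap_xl _ a c ▸ Nat.xor_lt_two_pow ha hc) (fun j hj => ?_) n hn)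
    have : ap (nth [] Mu k) (tp j) >>> (j + 1) = 0 := allZ2_sound h k (hW k List.mem_cons_self) j (by omega)
    rw [Nat.shiftRight_eq_div_pow, Nat.div_eq_zero_iff_lt (by positivity), tp_eq] at this
    exact this.trans_le (Nat.pow_le_pow_right two_pos hj)

theorem FT.sound {k : G} {K : List ℕ} {e u : ℕ → G} {Ms Mu : List (List ℕ)} {r s ru : ℕ} (h : Ck b k K e Ms r s)
    (hu : Ck b k K u Mu ru 0) (ht : allZ2 (fun j i => Nat.shiftRight (ap (nth [] Mu j) (tp i)) (Nat.succ i)) ru 20 = true)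
    (T : FT) : ∀ i ≤ 20, ∀ c, T.chk K Ms Mu r s ru i c = 0 → ∀ n < 2 ^ 20, n >>> i = c → Gd k (vec b n) := by
  have q : ∀ {n i : ℕ}, 1 - i = 0 → n >>> i.pred = 2 * n >>> i ∨ n >>> i.pred = (2 * n >>> i).succ := fun {n i} hi => by
    obtain ⟨i, rfl⟩ : ∃ j, i = j + 1 := ⟨i - 1, by omega⟩
    rw [Nat.shiftRight_succ, Nat.pred_succ]; omega
  induction T with
  | leaf x =>
    rintro i - c hc n hn rfl
    obtain ⟨rfl, hc⟩ := Nat.add_eq_zero_iff.1 hc
    exact h.lf hn hc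
  | split l r il ir =>
    rintro i hi c hc n hn rfl
    obtain ⟨h1, hc⟩ := Nat.add_eq_zero_iff.1 hc
    rw [force_eq, force_eq] at hc
    obtain ⟨h2, h3⟩ := Nat.add_eq_zero_iff.1 hc
    rcases q (n := n) h1 with e | e
    exacts [il _ (i.pred_le.trans hi) _ h2 n hn e, ir _ (i.pred_le.trans hi) _ h3 n hn e]
  | fuse W T it =>
    rintro i hi c hc n hn rfl
    obtain ⟨h1, hc⟩ := Nat.add_eq_zero_iff.1 hc
    rw [force_eq, force_eq] at hc
    obtain ⟨h5, h4⟩ := Nat.add_eq_zero_iff.1 hc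
    obtain ⟨h2, h3⟩ := Nat.add_eq_zero_iff.1 h5
    clear hc h5
    have hi := i.pred_le.trans hi
    rcases q (n := n) h1 with e | e
    · exact it _ hi _ h4 n hn e
    refine hu.word h2 hn (it _ hi _ h4 _ (hu.ae.word h2 n hn).1 ?_)
    generalize i.pred = j at *
    set m := (2 * n >>> i).succ <<< j
    have l : m ^^^ n < 2 ^ j := by
      rw [← Nat.div_eq_zero_iff_lt (by positivity), ← Nat.shiftRight_eq_div_pow, Nat.shiftRight_xor_distrib, e,
        Nat.shiftLeft_shiftRight, Nat.xor_self]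
    have := tri ht hi (ltAll_zero h2) _ l
    rw [← Nat.div_eq_zero_iff_lt (by positivity), ← Nat.shiftRight_eq_div_pow] at this
    rw [(congrArg (apM Mu W) (Nat.xor_xor_cancel_left m n).symm).trans (apM_xl _ _ _ _), Nat.shiftRight_xor_distrib,
      this, Nat.xor_zero]
    exact xz h3

theorem vec_ap (h2 : ∀ v : V, v + v = 0) (Pm : List ℕ) : ∀ n < 2 ^ 20,
    vec (fun i => vec b (ap Pm (tp i))) n = vec b (ap Pm n) :=
  lin_ind (by rw [(ap_xl _).zero, vec_zero, vec_zero]) (fun a c ha hc => by rw [ap_xl, vec_xor h2, vec_xor h2, ha, hc])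
    fun i hi => by rw [vec_tp hi, tp_eq]

/-- change of basis -/
theorem Bas.chg (h : Bas b) {Pm Qm : List ℕ} (hP : ltAll (2 ^ 20) Pm = 0 ∧ ltAll (2 ^ 20) Qm = 0 ∧
    allZ (fun i => Nat.xor (ap Qm (ap Pm (tp i))) (tp i)) 0 20 = true ∧
    allZ (fun i => Nat.xor (ap Pm (ap Qm (tp i))) (tp i)) 0 20 = true) : Bas fun i => vec b (ap Pm (tp i)) := by
  have e1 := ((ap_xl Qm).comp (ap_xl Pm)).ext XL.id hP.2.2.1
  have e2 := ((ap_xl Pm).comp (ap_xl Qm)).ext XL.id hP.2.2.2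
  refine ⟨h.h2, fun x hx y hy e => ?_, fun v => ?_⟩
  · rw [vec_ap h.h2 _ _ hx, vec_ap h.h2 _ _ hy] at e
    rw [← e1 x hx, ← e1 y hy, h.inj _ (ap_lt hP.1 _) _ (ap_lt hP.1 _) e]
  obtain ⟨n, hn, rfl⟩ := h.surj v
  exact ⟨_, ap_lt hP.2.1 n, by rw [vec_ap h.h2 _ _ (ap_lt hP.2.1 n), e2 n hn]⟩

theorem AcF.chg (h2 : ∀ v : V, v + v = 0) {e : ℕ → G} {Ms Ms' : List (List ℕ)} {r : ℕ} (h : AcF b e Ms r)
    {Pm : List ℕ} (hP : ltAll (2 ^ 20) Pm = 0 ∧ allL (ltAll (2 ^ 20)) Ms' = true ∧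
      allZ2 (fun k i => Nat.xor (ap (nth [] Ms k) (ap Pm (tp i))) (ap Pm (ap (nth [] Ms' k) (tp i)))) r 20 = true) :
    AcF (fun i => vec b (ap Pm (tp i))) e Ms' r := fun k hk => by
  have l : ltAll (2 ^ 20) (nth [] Ms' k) = 0 := by
    rcases nth_mem [] Ms' k with q | q
    exacts [q.symm ▸ rfl, allL_sound hP.2.1 _ q]
  refine af_of h2 l fun i hi => ?_
  rw [vec_ap h2 _ _ (ap_lt l _), (h.af hk _ (ap_lt hP.1 _)).2]
  exact congrArg _ (xz (allZ2_sound hP.2.2 k hk i hi))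

noncomputable def omE (Ms : List (List ℕ)) (Om : ℕ → ℕ) (P : ℕ → ℕ → ℕ) (N k i : ℕ) : ℕ :=
  force (P k i) fun j => Nat.add (Nat.sub (Nat.succ j) N) (Nat.xor (ap (nth [] Ms k) (Om i)) (Om j))

/-- the permutation model on an invariant spanning set of vectors -/
theorem md_of [Finite G] (h : Bas b) {e : ℕ → G} {Ms : List (List ℕ)} {r c N : ℕ} (a : AcF b e Ms r) (top : gen e r = ⊤)
    (hc : Nat.card G = c) (ff : ∀ g : G, (∀ v : V, g • v = v) → g = 1) {Om : ℕ → ℕ} {P : ℕ → ℕ → ℕ} {B Q : List ℕ}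
    (h1 : ∀ k < r, ∀ i < N, omE Ms Om P N k i = 0)
    (h2 : allZ (fun i => Nat.sub (Nat.succ (Om i)) (Om (Nat.succ i))) 0 N = true ∧ Om N ≤ 2 ^ 20 ∧ ltAll N B = 0 ∧
      allZ (fun i => Nat.xor (ap (B.map Om) (nth 0 Q i)) (tp i)) 0 20 = true) :
    Md e (fun i => vec b (Om i)) P N r B c := by
  have m : ∀ j ≤ N, ∀ i < j, Om i < Om j := fun j hj => by
    induction j with
    | zero => omega
    | succ j ih =>
      have : Om j + 1 - Om (j + 1) = 0 := allZ_sound0 h2.1 j hj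
      intro i hi
      rcases (Nat.lt_succ_iff.1 hi).eq_or_lt with rfl | l
      · omega
      · have := ih (by omega) i l; omega
  have lt : ∀ i < N, Om i < 2 ^ 20 := fun i hi => (m N le_rfl i hi).trans_le h2.2.1
  refine ⟨fun k hk i hi => ?_, fun i hi j hj q => ?_, top, hc, inferInstance, fun g _ f => ff g fun v => ?_, h2.2.2.1⟩
  · have := h1 k hk i hi
    rw [omE, force_eq] at this
    obtain ⟨q1, q2⟩ := Nat.add_eq_zero_iff.1 this
    exact ⟨by have : P k i + 1 - N = 0 := q1; omega, by rw [(a.af hk _ (lt i hi)).2, xz q2]⟩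
  · have := h.inj _ (lt i hi) _ (lt j hj) q
    by_contra n
    rcases Nat.lt_or_gt_of_ne n with l | l
    exacts [(m j hj.le i l).ne this, (m i hi.le j l).ne' this]
  obtain ⟨n, hn, rfl⟩ := h.surj v
  have x : ∀ a c, g • vec b a = vec b a → g • vec b c = vec b c → g • vec b (a ^^^ c) = vec b (a ^^^ c) :=
    fun a c ha hc => by rw [vec_xor h.h2, smul_add, ha, hc]
  refine lin_ind (S := fun n => g • vec b n = vec b n) (by rw [vec_zero, smul_zero]) x (fun i hi => ?_) n hn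
  rw [← tp_eq, ← xz (allZ_sound0 h2.2.2.2 i hi)]
  refine ap_ind (S := fun n => g • vec b n = vec b n) (by rw [vec_zero, smul_zero]) x (fun c hc => ?_) _
  obtain ⟨β, hβ, rfl⟩ := List.mem_map.1 hc
  exact f β hβ

section
variable {Ω : Type*} [MulAction G Ω] {g : ℕ → G} {pt : ℕ → Ω} {P : ℕ → ℕ → ℕ} {N K c : ℕ} {B : List ℕ}

theorem rebase (M : Md g pt P N K B c) {h : ℕ → G} {B' : List ℕ} (S : Stage ⊤ h pt N [] B') (l : ltAll N B' = 0) :
    Md g pt P N K B' c := { M with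
  ltB := l
  base := fun a _ f => by simpa [topK, gen] using (S.fix a).2 ⟨trivial, f⟩ }

/-- the number of fixed points -/
noncomputable def cnt (f : ℕ → ℕ) (n : ℕ) : ℕ :=
  Nat.rec (nat_lit 0) (fun i ih => Nat.add ih (Nat.sub 1 (Nat.xor (f i) i))) n

theorem cnt_eq (f : ℕ → ℕ) (n : ℕ) : cnt f n = ((Finset.range n).filter fun i => f i = i).card := by
  induction n with
  | zero => rfl
  | succ n ih =>
    rw [Finset.range_add_one, Finset.filter_insert]
    change cnt f n + (1 - (f n ^^^ n)) = _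
    split_ifs with e
    · rw [Finset.card_insert_of_notMem (by simp), ih, e, Nat.xor_self]
    · have := mt Nat.eq_of_xor_eq_zero e
      omega

theorem fix_cnt (M : Md g pt P N K B c) : ∃ _ : MulAction G (Fin N),
    ∀ (a : G) f, Rp a pt N f → Nat.card (fixedBy (Fin N) a) = cnt f N := by
  have : ∀ (a : G) (i : Fin N), ∃ j < N, a • pt i = pt j :=
    fun a i => M.act.exists_smul (M.top ▸ Subgroup.mem_top a) i.2
  choose s hs e using this
  let I : MulAction G (Fin N) :=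
    { smul := fun a i => ⟨s a i, hs a i⟩
      one_smul := fun i => Fin.ext (M.inj _ (hs 1 i) _ i.2 ((e 1 i).symm.trans (one_smul G _)))
      mul_smul := fun x y i => Fin.ext (M.inj _ (hs (x * y) i) _ (hs x ⟨_, hs y i⟩)
        ((e _ i).symm.trans ((mul_smul x y _).trans ((congrArg (x • ·) (e y i)).trans (e x ⟨_, hs y i⟩))))) }
  refine ⟨I, fun a f r => ?_⟩
  have q : ∀ i : Fin N, s a i = f i := fun i => M.inj _ (hs _ _) _ (r i i.2).1 ((e a i).symm.trans (r i i.2).2)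
  rw [cnt_eq, ← Nat.card_eq_finsetCard]
  exact Nat.card_congr ⟨fun i => ⟨i.1.1, Finset.mem_filter.2 ⟨Finset.mem_range.2 i.1.2, (q _).symm.trans (congrArg Fin.val i.2)⟩⟩,
    fun i => ⟨⟨i.1, Finset.mem_range.1 (Finset.mem_filter.1 i.2).1⟩,
      Fin.ext ((q _).trans (Finset.mem_filter.1 i.2).2)⟩, fun _ => rfl, fun _ => rfl⟩
end

end H10.SE
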