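import Cfsg.Agent.H10.SE.B

/-! Weight spaces of a `2 ^ 20`-element module for elements of order three. -/

set_option autoImplicit false
set_option linter.unusedSectionVars false

namespace H10.SE
open H16 H0.TR

variable {G V : Type*} [Group G] [AddCommGroup V] [DistribMulAction G V] {z p y : G} {u v w : V}

/-- `(1 + g + g²) v` -/
def Nm (g : G) (v : V) : V := v + g • v + g • g • v

theorem Nm.add (g : G) (u v : V) : Nm g (u + v) = Nm g u + Nm g v := by simp only [Nm, smul_add]; abel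
theorem Nm.zero (g : G) : Nm g (0 : V) = 0 := by simp [Nm]
theorem Nm.comm {g c : G} (h : c * g = g * c) (v : V) : Nm g (c • v) = c • Nm g v := by
  simp only [Nm, smul_add, ← mul_smul, ← h, ← mul_assoc]
theorem Nm.fix (h2 : ∀ v : V, v + v = 0) {g : G} (h : g • v = v) : Nm g v = v := by rw [Nm, h, h, h2, zero_add]
theorem s3 {g : G} (h : g ^ 3 = 1) (v : V) : g • g • g • v = v := by
  rw [← mul_smul, ← mul_smul, ← pow_three', h, one_smul]
theorem Nm.smul {g : G} (h : g ^ 3 = 1) (v : V) : g • Nm g v = Nm g v := by simp only [Nm, smul_add, s3 h]; abel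
theorem Nm.one (c : z * p = p * z) (e : p • w = z • w) : Nm p w = Nm z w := by
  rw [Nm, e, ← mul_smul, ← c, mul_smul, e, Nm]
theorem Nm.two (h : z ^ 3 = 1) (c : z * p = p * z) (e : p • w = z • z • w) : Nm p w = Nm z w := by
  have c (v : V) : p • z • v = z • p • v := by rw [← mul_smul, ← c, mul_smul]
  rw [Nm, e, c, c, e, s3 h, Nm, add_right_comm]

/-- the kernel of `1 + g + g²` -/
def Kn (V : Type*) [AddCommGroup V] [DistribMulAction G V] (g : G) : AddSubgroup V where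
  carrier := {v | Nm g v = 0}
  zero_mem' := Nm.zero g
  add_mem' := fun h k => by rw [Set.mem_ofPred, Nm.add, h, k, add_zero]
  neg_mem' := fun {v} h => by
    rw [Set.mem_ofPred, ← zero_add (Nm g _), ← (show Nm g v = 0 from h).symm.symm, ← Nm.add, add_neg_cancel, Nm.zero, h]

theorem Nm.nm {g c : G} (h : c * g = g * c) (v : V) : Nm c (Nm g v) = Nm g (Nm c v) := by
  rw [show Nm c v = v + c • v + c • c • v from rfl, Nm.add, Nm.add, Nm.comm h, Nm.comm h, Nm.comm h]; rfl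

section
variable (h2 : ∀ v : V, v + v = 0)
include h2

theorem eig (hz : z ^ 3 = 1) (hp : p ^ 3 = 1) (c : Commute z p) (h : Nm z u = 0) (h0 : u ≠ 0) :
    ∃ j < 3, ∃ w : V, w ≠ 0 ∧ Nm z w = 0 ∧ (p * z ^ j) • w = w ∧
      ∀ g : G, Commute g p → Commute g z → g • u = u → g • w = w := by
  have : ∃ j < 3, Nm (p * z ^ j) u ≠ 0 := by
    by_contra! n
    have c (v : V) : z • p • v = p • z • v := by rw [← mul_smul, c.eq, mul_smul]
    have : Nm (p * z ^ 0) u + Nm (p * z ^ 1) u + Nm (p * z ^ 2) u = u + (u + u) + p • Nm z u + p • p • Nm z u := by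
      simp only [Nm, pow_two, pow_one, pow_zero, mul_one, mul_smul, c, s3 hz, smul_add]; abel
    rw [n 0 (by decide), n 1 (by decide), n 2 (by decide)] at this
    exact h0 (by simpa [h, h2] using this.symm)
  obtain ⟨j, hj, n⟩ := this
  refine ⟨j, hj, _, n, ?_, Nm.smul ?_ _, fun g a b e => by rw [← Nm.comm (a.mul_right (b.pow_right j)).eq, e]⟩
  · rw [Nm.nm (c.mul_right ((Commute.refl z).pow_right j)).eq, h, Nm.zero]
  · rw [(c.symm.pow_right j).mul_pow, hp, ← pow_mul, mul_comm j, pow_mul, hz]; simp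

theorem heis (hz : z ^ 3 = 1) (hp : p ^ 3 = 1) (c : Commute z p) (d : Commute z y) (r : p * y = z * y * p)
    (h : Nm z u = 0) (h0 : u ≠ 0) : ∃ w : V, w ≠ 0 ∧ Nm z w = 0 ∧ p • w = w ∧
      ∀ g : G, Commute g p → Commute g z → Commute g y → g • u = u → g • w = w := by
  obtain ⟨j, -, w, a, b, e, f⟩ := eig h2 hz hp c h h0
  have : p * y ^ j = y ^ j * (p * z ^ j) := by
    clear e
    induction j with
    | zero => simp
    | succ j ih =>
      rw [pow_succ', ← mul_assoc, r, mul_assoc, ih, d.eq, mul_assoc y, mul_assoc y, ← mul_assoc z,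
        (d.pow_right j).eq, mul_assoc, ← mul_assoc z, c.eq, mul_assoc, pow_succ']
  refine ⟨y ^ j • w, (smul_ne_zero_iff_ne _).2 a, by rw [Nm.comm (d.symm.pow_left j).eq, b, smul_zero],
    by rw [← mul_smul, this, mul_smul, e], fun g g1 g2 g3 g4 => ?_⟩
  rw [← mul_smul, (g3.pow_right j).eq, mul_smul, f g g1 g2 g4]

theorem cube [Finite V] (hz : z ^ 3 = 1) (c : Commute z p) (d : Commute z y) (r : p * y = z * y * p) (U : AddSubgroup V)
    (hy : ∀ u ∈ U, y • u ∈ U) (hU : U ≤ Kn V z) : Nat.card (U ⊓ Fi V p :) ^ 3 ≤ Nat.card U := by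
  have r (v : V) : p • y • v = z • y • p • v := by rw [← mul_smul, r, mul_smul, mul_smul]
  have d (v : V) : y • z • v = z • y • v := by rw [← mul_smul, ← d.eq, mul_smul]
  have k1 {b : V} (h : b ∈ U ⊓ Fi V p) : Nm p (y • b) = 0 :=
    (Nm.one c (by rw [r, show p • b = b from h.2])).trans (hU (hy _ h.1))
  have k2 {b : V} (h : b ∈ U ⊓ Fi V p) : Nm p (y • y • b) = 0 :=
    (Nm.two hz c (by rw [r, r, show p • b = b from h.2, d])).trans (hU (hy _ (hy _ h.1)))
  rw [pow_three, ← Nat.card_prod, ← Nat.card_prod]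
  refine Nat.card_le_card_of_injective (fun a => (⟨a.1 + y • (a.2.1 + y • a.2.2 : V), U.add_mem a.1.2.1
    (hy _ (U.add_mem a.2.1.2.1 (hy _ a.2.2.2.1)))⟩ : U)) ?_
  rintro ⟨a, b, c⟩ ⟨a', b', c'⟩ e
  replace e : a.1 + y • (b.1 + y • c.1) = a' + y • (b'.1 + y • c'.1) := congrArg Subtype.val e
  have e1 := congrArg (Nm p) e
  simp only [smul_add, Nm.add, k1 b.2, k1 b'.2, k2 c.2, k2 c'.2, Nm.fix h2 a.2.2, Nm.fix h2 a'.2.2, add_zero] at e1
  rw [e1, add_right_inj, smul_left_cancel_iff] at e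
  have e2 := congrArg (Nm p) e
  simp only [Nm.add, k1 c.2, k1 c'.2, Nm.fix h2 b.2.2, Nm.fix h2 b'.2.2, add_zero] at e2
  rw [e2, add_right_inj, smul_left_cancel_iff] at e
  rw [Subtype.ext e, Subtype.ext e1, Subtype.ext e2]

theorem sum_le [Finite V] (z : G) : Nat.card (Fi V z) * Nat.card (Kn V z) ≤ Nat.card V := by
  rw [← Nat.card_prod]
  refine Nat.card_le_card_of_injective (fun a => a.1.1 + a.2.1) ?_
  rintro ⟨a, b⟩ ⟨a', b'⟩ (e : a.1 + b.1 = a' + b')
  have e1 := congrArg (Nm z) e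
  rw [Nm.add, Nm.add, b.2, b'.2, Nm.fix h2 a.2, Nm.fix h2 a'.2, add_left_inj] at e1
  rw [e1, add_right_inj] at e
  rw [Subtype.ext e, Subtype.ext e1]

theorem nd (h : Nm z v = 0) (h0 : v ≠ 0) : z • v ≠ v ∧ z • z • v = v + z • v ∧ z • z • v ≠ v := by
  have e : z • z • v = v + z • v := by rw [← zero_add (v + _), ← h, Nm, add_right_comm, h2, zero_add]
  exact ⟨fun e => h0 (Nm.fix h2 e ▸ h), e, by simpa [e, smul_eq_zero_iff_eq]⟩

/-- a subgroup containing `v` and `z v` has at least four elements, and is spanned by them if it has at most four -/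
theorem four [Finite V] (h : Nm z v = 0) (h0 : v ≠ 0) (U : AddSubgroup V) (h1 : v ∈ U) (h3 : z • v ∈ U) :
    4 ≤ Nat.card U ∧ (Nat.card U ≤ 4 → ∀ w ∈ U, w ≠ 0 → w = v ∨ w = z • v ∨ w = z • z • v) := by
  classical
  obtain ⟨a, b, c⟩ := nd h2 h h0
  have s : ({0, v, z • v, z • z • v} : Set V) ⊆ U := by simp [Set.insert_subset_iff, h1, h3, b, U.add_mem]
  have n : ({0, v, z • v, z • z • v} : Set V).ncard = 4 := by
    have := (smul_ne_zero_iff_ne z).2 h0
    exact Set.ncard_eq_four.2 ⟨_, _, _, _, h0.symm, this.symm, ((smul_ne_zero_iff_ne z).2 this).symm, a.symm, c.symm,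
      fun e => a (smul_left_cancel z e).symm, rfl⟩
  refine ⟨n ▸ Set.ncard_le_ncard s, fun l w hw w0 => ?_⟩
  simpa [w0] using (Set.eq_of_subset_of_ncard_le s (n ▸ l)).ge hw

/-- the pointwise stabilizer of `v` and `z v` -/
def St (z : G) (v : V) : Subgroup G := MulAction.stabilizer G v ⊓ MulAction.stabilizer G (z • v)

theorem St.zs (h : Nm z v = 0) (h0 : v ≠ 0) : St z v ≤ St z (z • v) := fun g hg => ⟨hg.2, by
  change _ = _; rw [(nd h2 h h0).2.1, smul_add, hg.1, hg.2]⟩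

omit h2 in
theorem St.mk {g : G} (c : g * z = z * g) (h : g • v = v) : g ∈ St z v :=
  ⟨h, by change _ = _; rw [← mul_smul, c, mul_smul, h]⟩

/-- the fixed vectors of `A` are spanned by `v` and `z v` -/
def Sp (A z : G) (v : V) : Prop := ∀ w : V, A • w = w → w ≠ 0 → w = v ∨ w = z • v ∨ w = z • z • v

theorem fiA [Finite V] (h : Nm z v = 0) (h0 : v ≠ 0) (hz : Nat.card (Fi V z) ≤ 4) {A π : G} (e : z * π = π * A)
    (hA : A ∈ St z v) : Sp A z v := (four h2 h h0 (Fi V A) hA.1 hA.2).2 <| le_trans (Nat.card_le_card_of_injective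
  (fun w => (⟨π • w.1, by change _ = _; rw [← mul_smul, e, mul_smul, w.2]⟩ : Fi V z))
    fun a c q => Subtype.ext (by simpa using q)) hz

theorem wrong (h : Nm z v = 0) (h0 : v ≠ 0) {A ρ B : G} (s : Sp A z v) (hA : A ∈ St z v) (e : A * ρ = ρ * A)
    (e' : z * ρ = ρ * B) (hB : B ∈ St z v) : False := by
  have n := (smul_ne_zero_iff_ne ρ).2 h0
  refine n (.trans (Nm.fix h2 (g := z) (by rw [← mul_smul, e', mul_smul, hB.1])).symm ?_)
  rcases s (ρ • v) (by rw [← mul_smul, e, mul_smul, hA.1]) n with q | q | q <;> simp [q, Nm.comm, h]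

theorem tau (hz : z ^ 3 = 1) (h : Nm z v = 0) (h0 : v ≠ 0) {A τ B : G} (s : Sp A z v) (hA : A ∈ St z v)
    (e : A * τ = τ * A) (e' : τ * z = z * τ * B) (hB : B ∈ St z v) (t : τ * τ = 1) : τ ∈ St z v := by
  have a : τ • z • v = z • τ • v := by rw [← mul_smul, e', mul_smul, mul_smul, hB.1]
  have b : τ • z • z • v = z • z • τ • v := by rw [← mul_smul, e', mul_smul, mul_smul, hB.2, a]
  have t : τ • τ • v = v := by rw [← mul_smul, t, one_smul]
  obtain ⟨n1, -, n2⟩ := nd h2 h h0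
  rcases s (τ • v) (by rw [← mul_smul, e, mul_smul, hA.1]) ((smul_ne_zero_iff_ne τ).2 h0) with q | q | q
  · exact ⟨q, a.trans (congrArg _ q)⟩
  · exact (n2 (by rwa [q, a, q] at t)).elim
  · exact (n1 (by rwa [q, b, q, s3 hz] at t)).elim

theorem sig (hz : z ^ 3 = 1) (h : Nm z v = 0) (h0 : v ≠ 0) {A σ B : G} (s : Sp A z v) (hA : A ∈ St z v)
    (e : A * σ = σ * A * A) (e' : σ * z = z * z * σ * B) (hB : B ∈ St z v) :
    ∃ w : V, w ≠ 0 ∧ Nm z w = 0 ∧ St z v ≤ St z w ∧ σ • w = w := by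
  have a : σ • z • v = z • z • σ • v := by rw [← mul_smul, e', mul_smul, mul_smul, mul_smul, hB.1]
  have b : σ • z • z • v = z • σ • v := by rw [← mul_smul, e', mul_smul, mul_smul, mul_smul, hB.2, a, s3 hz]
  have n1 := (smul_ne_zero_iff_ne z).2 h0
  have m1 : Nm z (z • v) = 0 := by rw [Nm.comm rfl, h, smul_zero]
  rcases s (σ • v) (by rw [← mul_smul, e, mul_smul, mul_smul, hA.1, hA.1]) ((smul_ne_zero_iff_ne σ).2 h0) with q | q | q
  · exact ⟨v, h0, h, le_rfl, q⟩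
  · exact ⟨_, (smul_ne_zero_iff_ne z).2 n1, by rw [Nm.comm rfl, m1, smul_zero], (St.zs h2 h h0).trans (St.zs h2 m1 n1),
      by rw [b, q]⟩
  · exact ⟨_, n1, m1, St.zs h2 h h0, by rw [a, q, s3 hz]⟩

/-- a weight vector for two commuting Heisenberg groups with centre `z` -/
theorem wt (hc : Nat.card V = 2 ^ 20) {p' y' q : G} (hz : z ^ 3 = 1) (hp : p ^ 3 = 1) (hp' : p' ^ 3 = 1)
    (hq : q ^ 3 = 1) (c : Commute z p) (d : Commute z y) (r : p * y = z * y * p) (c' : Commute z p') (d' : Commute z y')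
    (r' : p' * y' = z * y' * p') (c1 : Commute p p') (c2 : Commute p y') (c3 : Commute z q) (c4 : Commute p q)
    (c5 : Commute p' q) (nt : z • u ≠ u) : Nat.card (Fi V z) ≤ 4 ∧ ∃ v : V, v ≠ 0 ∧ Nm z v = 0 ∧ p ∈ St z v ∧
      p' ∈ St z v ∧ ∃ j < 3, q * z ^ j ∈ St z v := by
  have : Finite V := Nat.finite_of_card_ne_zero (by rw [hc]; decide)
  obtain ⟨v, a0, a1, a2, -⟩ := heis h2 hz hp c d r (u := u + z • u) (by
    rw [Nm.add, Nm.comm rfl, Nm.smul hz, h2]) fun e => nt (by rw [← neg_eq_of_add_eq_zero_right e, neg_eq_of_add_eq_zero_right (h2 u)])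
  obtain ⟨v, b0, b1, b2, b3⟩ := heis h2 hz hp' c' d' r' a1 a0
  obtain ⟨j, hj, v, e0, e1, e2, e3⟩ := eig h2 hz hq c3 b1 b0
  have f1 := St.mk c.symm (e3 p c4 c.symm (b3 p c1 c.symm c2 a2))
  have f2 := St.mk c'.symm (e3 p' c5 c'.symm b2)
  refine ⟨?_, v, e0, e1, f1, f2, j, hj, St.mk (c3.symm.mul_left ((Commute.refl z).pow_left j)) e2⟩
  have k {g : G} (c : Commute z g) (u : V) (h : u ∈ Kn V z) : g • u ∈ Kn V z := by
    change _ = _; rw [Nm.comm c.symm, h, smul_zero]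
  have l1 := sum_le h2 z
  have l2 := cube h2 hz c d r _ (k d) le_rfl
  have l3 := cube h2 hz c' d' r' (Kn V z ⊓ Fi V p) (fun u h => ⟨k d' u h.1, by
    change _ = _; rw [← mul_smul, c2.eq, mul_smul, h.2]⟩) inf_le_left
  have l4 := (four h2 e1 e0 (Kn V z ⊓ Fi V p ⊓ Fi V p') ⟨⟨e1, f1.1⟩, f2.1⟩ ⟨⟨k rfl v e1, f1.2⟩, f2.2⟩).1
  have := (Nat.pow_le_pow_left ((Nat.pow_le_pow_left l4 3).trans l3) 3).trans l2
  nlinarith
end

end H10.SE
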