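import Cfsg.Agent.H10.SE.C

/-! The matrices of monomial elements in a basis of weight vectors; one more generator. -/

set_option autoImplicit false
set_option linter.unusedSectionVars false

namespace H10.SE
open H16 H0.TR

variable {G V : Type*} [Group G] [AddCommGroup V] [DistribMulAction G V] {x : ℕ → G} {b : ℕ → V} {v : V}
  {Ms : List (List ℕ)} {r : ℕ} {E : List ℕ → List ℕ → ℕ}

noncomputable def bw (z : ℕ) (Pi : List (List ℕ)) (a j : ℕ) : List ℕ := List.replicate j z ++ nth [] Pi a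
noncomputable def cd (a j : ℕ) : ℕ := ap [tp (2 * a), tp (2 * a + 1)] (j + 1)
/-- the basis -/
noncomputable def bs (x : ℕ → G) (z : ℕ) (Pi : List (List ℕ)) (v : V) (i : ℕ) : V := evA x (bw z Pi (i / 2) (i % 2)) • v

theorem vec_cd (h2 : ∀ v : V, v + v = 0) {z a j : ℕ} {Pi : List (List ℕ)} (h : Nm (x z) v = 0) (h0 : v ≠ 0) (ha : a < 10)
    (hj : j < 3) : vec (bs x z Pi v) (cd a j) = evA x (bw z Pi a j) • v := by
  have e0 := vec_tp (b := bs x z Pi v) (i := 2 * a) (by omega)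
  have e1 := vec_tp (b := bs x z Pi v) (i := 2 * a + 1) (by omega)
  rw [bs, show 2 * a / 2 = a by omega, show 2 * a % 2 = 0 by omega] at e0
  rw [bs, show (2 * a + 1) / 2 = a by omega, show (2 * a + 1) % 2 = 1 by omega] at e1
  have z0 (n : ℕ) : ap [] n = 0 := rfl
  interval_cases j <;> simp [cd, ap_cons, z0, tp_eq, vec_xor h2, e0, e1]
  simp [bw, evA_append, mul_smul, (nd h2 h h0).2.1]

noncomputable def tabE (E : List ℕ → List ℕ → ℕ) (z : ℕ) (Pi Ms : List (List ℕ)) (yl : ℕ → ℕ)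
    (T : List (List (ℕ × ℕ × List ℕ))) (k i : ℕ) : ℕ :=
  (fun c : ℕ × ℕ × List ℕ => Nat.add (Nat.add (ltAll 10 [c.1]) (ltAll 3 [c.2.1]))
    (Nat.add (E (bw z Pi (i / 2) (i % 2) ++ [k]) (c.2.2.map yl ++ bw z Pi c.1 c.2.1))
      (Nat.xor (ap (nth [] Ms k) (tp i)) (cd c.1 c.2.1)))) (nth (0, 0, []) (nth [] T k) i)

theorem tab (h2 : ∀ v : V, v + v = 0) (hE : ∀ U W, E U W = 0 → evA x U = evA x W) {z : ℕ} {Pi : List (List ℕ)}
    (h : Nm (x z) v = 0) (h0 : v ≠ 0) {yl : ℕ → ℕ} (hY : ∀ k, x (yl k) • v = v) {T : List (List (ℕ × ℕ × List ℕ))}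
    (hM : allL (ltAll (2 ^ 20)) Ms = true) (c : ∀ k < r, ∀ i < 20, tabE E z Pi Ms yl T k i = 0) :
    AcF (bs x z Pi v) x Ms r := fun k hk => by
  refine af_of h2 ?_ fun i hi => ?_
  · rcases nth_mem [] Ms k with q | q
    exacts [q.symm ▸ rfl, allL_sound hM _ q]
  have := c k hk i hi
  simp only [tabE, Nat.add_eq, Nat.add_eq_zero_iff] at this
  obtain ⟨⟨c1, c2⟩, c3, c4⟩ := this
  rw [xz c4, vec_cd h2 h h0 (ltAll_zero c1 _ List.mem_cons_self) (ltAll_zero c2 _ List.mem_cons_self), bs, ← mul_smul]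
  have := hE _ _ c3
  rw [evA_append, evA_append, evA_cons, evA_nil, one_mul] at this
  rw [this, mul_smul, evA_mem (A := MulAction.stabilizer G v) x fun j hj => ?_]
  obtain ⟨j, -, rfl⟩ := List.mem_map.1 hj
  exact hY j

noncomputable def injE (Ms ZW : List (List ℕ)) (a i : ℕ) : ℕ :=
  Nat.xor (Nat.xor (Nat.xor (tp i) (apM Ms (nth [] ZW a) (tp i))) (apM Ms (nth [] ZW a) (apM Ms (nth [] ZW a) (tp i))))
    (ap [tp (2 * a), tp (2 * a + 1)] (Nat.shiftRight (tp i) (2 * a)))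

theorem bas_of (h2 : ∀ v : V, v + v = 0) (hc : Nat.card V = 2 ^ 20) (a : AcF b x Ms r) {ZW : List (List ℕ)}
    (c : allL (ltAll r) ZW = true ∧ allZ2 (injE Ms ZW) 10 20 = true) (nz : ∀ a < 10, ∀ j < 3, vec b (cd a j) ≠ 0) :
    Bas b := Bas.of_inj h2 hc fun n hn e => by
  have k (j : ℕ) (hj : j < 10) : n >>> (2 * j) % 4 = 0 := by
    have w : Af b _ (apM Ms (nth [] ZW j)) := fun _ hn => Act.apW a (nth_lt c.1 j) hn
    have := lin_ind (S := fun n => n ^^^ apM Ms (nth [] ZW j) n ^^^ apM Ms (nth [] ZW j) (apM Ms (nth [] ZW j) n) =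
      ap [tp (2 * j), tp (2 * j + 1)] (n >>> (2 * j))) (by simp [(apM_xl _ _).zero, (ap_xl _).zero])
      (fun a c ha hc => by rw [Nat.shiftRight_xor_distrib, ap_xl, ← ha, ← hc, apM_xl, apM_xl]; ac_rfl)
      (fun i hi => tp_eq i ▸ xz (allZ2_sound c.2 j hj i hi)) n hn
    have q := congrArg (vec b) this
    rw [vec_xor h2, vec_xor h2, ← (w _ (w n hn).1).2, ← (w n hn).2, e, smul_zero, smul_zero, add_zero, add_zero] at q
    by_contra l
    refine nz j hj (n >>> (2 * j) % 4 - 1) (by omega) (.trans (congrArg _ ?_) q.symm)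
    rw [cd, Nat.sub_add_cancel (by omega), ap_cons, ap_cons, ap_cons, ap_cons]
    rw [Nat.mod_mod_of_dvd _ (by decide), show n >>> (2 * j) % 4 / 2 % 2 = n >>> (2 * j) / 2 % 2 by omega]; rfl
  refine Nat.zero_of_testBit_eq_false fun i => ?_
  by_cases l : i < 20
  · have := k (i / 2) (by omega)
    rw [Nat.testBit_eq_decide_div_mod_eq, ← Nat.shiftRight_eq_div_pow, decide_eq_false_iff_not]
    rcases Nat.mod_two_eq_zero_or_one i with q | q
    · rw [show i = 2 * (i / 2) by omega]; omega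
    · rw [show i = 2 * (i / 2) + 1 by omega, Nat.shiftRight_succ]; omega
  · exact Nat.testBit_lt_two_pow (hn.trans_le (Nat.pow_le_pow_right two_pos (by omega)))

theorem AcF.col (a : AcF b x Ms r) {g : G} {U W : List ℕ} {s n : ℕ} (e : g * evA x U = evA x W * g) (hs : s < 2 ^ 20)
    (hn : n < 2 ^ 20) (h : g • vec b s = vec b n) (c : ltAll r U = 0) (c' : ltAll r W = 0) :
    g • vec b (apM Ms U s) = vec b (apM Ms W n) := by
  rw [← (a.word c s hs).2, ← (a.word c' n hn).2, ← mul_smul, e, mul_smul, h]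

theorem AcF.snoc (a : AcF b x Ms r) (l : Ms.length = r) {X : List ℕ} (h : Af b (x r) (ap X)) :
    AcF b x (Ms ++ [X]) (r + 1) := fun k hk => by
  rcases (Nat.lt_succ_iff.1 hk).eq_or_lt with rfl | q
  · simpa [nth_eq_getD, ← l, Af] using h
  · simpa [nth_eq_getD, List.getElem?_append_left (l ▸ q)] using a k q

/-- `1` if all the tests pass -/
noncomputable def kil (Ms : List (List ℕ)) (T : List (List ℕ × List ℕ × ℕ)) : ℕ :=
  List.rec (motive := fun _ => ℕ) 1 (fun t _ ih => ifz (Nat.xor (apM Ms t.1 (tp t.2.2)) (apM Ms t.2.1 (tp t.2.2))) ih 0) T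

theorem kil_one (hb : Bas b) (a : AcF b x Ms r) (hE : ∀ U W, E U W = 0 → evA x U = evA x W)
    {T : List (List ℕ × List ℕ × ℕ)} (c : ∀ t ∈ T, E t.1 t.2.1 = 0 ∧ ltAll r t.1 = 0 ∧ ltAll r t.2.1 = 0 ∧ t.2.2 < 20) :
    kil Ms T = 1 := by
  induction T with
  | nil => rfl
  | cons t T ih =>
    obtain ⟨c1, c2, c3, c4⟩ := c t List.mem_cons_self
    have l : tp t.2.2 < 2 ^ 20 := (tp_eq _).trans_lt (Nat.pow_lt_pow_right one_lt_two c4)
    have := hb.inj _ (a.word c2 _ l).1 _ (a.word c3 _ l).1 (by rw [← (a.word c2 _ l).2, ← (a.word c3 _ l).2, hE _ _ c1])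
    change ifz (Nat.xor _ _) (kil Ms T) 0 = 1
    rw [this, ifz_eq, if_pos (H0.TR.xor_self _), ih fun s hs => c s (List.mem_cons_of_mem _ hs)]

section
variable (hb : Bas b) (a : AcF b x Ms r) {g : G} (hg : ∀ U W, E U W = 0 → g * evA x U = evA x W * g)
include hb a hg

theorem span_of {s m : ℕ} {L : List ((List ℕ × List ℕ) × List ℕ × List ℕ)} {La Ra : List ℕ}
    (c : s < 2 ^ 20 ∧ kerC (L.map Prod.snd) La Ra m = true ∧ ∀ t ∈ L, E t.1.1 t.1.2 = 0 ∧ ltAll r t.1.1 = 0 ∧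
      ltAll r t.1.2 = 0 ∧ apM Ms t.1.1 s = s ∧ allZ (fun i => Nat.xor (apM Ms t.1.2 (tp i)) (ap t.2.1 (tp i))) 0 20 = true) :
    ∃ u < 2 ^ m, g • vec b s = vec b (ap La u) := by
  obtain ⟨n, hn, e⟩ := hb.surj (g • vec b s)
  obtain ⟨u, hu, q⟩ := kerle c.2.1 hn fun p hp => by
    obtain ⟨t, ht, rfl⟩ := List.mem_map.1 hp
    obtain ⟨c1, c2, c3, c4, c5⟩ := c.2.2 t ht
    have := a.col (hg _ _ c1) c.1 hn e c2 c3
    rw [c4, e] at this
    exact ((apM_xl _ _).ext (ap_xl _) c5 n hn).symm.trans (hb.inj _ hn _ (a.word c3 n hn).1 this).symm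
  exact ⟨u, hu, q ▸ e⟩

theorem af_cols {S n : ℕ → ℕ} (h : ∀ t, S t < 2 ^ 20 ∧ n t < 2 ^ 20 ∧ g • vec b (S t) = vec b (n t))
    {T : List (ℕ × List ℕ × List ℕ)} (c : ∀ i < 20, ∀ t ∈ [nth (0, [], []) T i], E t.2.1 t.2.2 = 0 ∧
      ltAll r t.2.1 = 0 ∧ ltAll r t.2.2 = 0 ∧ apM Ms t.2.1 (S t.1) = tp i) {X : List ℕ} (l : ltAll (2 ^ 20) X = 0)
    (c' : ∀ i < 20, Nat.xor (ap X (tp i)) (apM Ms (nth (0, [], []) T i).2.2 (n (nth (0, [], []) T i).1)) = 0) :
    Af b g (ap X) := af_of hb.h2 l fun i hi => by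
  obtain ⟨c1, c2, c3, c4⟩ := c i hi _ List.mem_cons_self
  obtain ⟨h1, h2, h3⟩ := h (nth (0, [], []) T i).1
  rw [xz (c' i hi), ← a.col (hg _ _ c1) h1 h2 h3 c2 c3, c4, tp_eq, vec_tp hi]
end

end H10.SE
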