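import Cfsg.Agent.H10.SE.D1

/-! Generated by tools/h10/se/d4.py. -/

set_option maxRecDepth 100000
set_option maxHeartbeats 0

namespace H10.SE.D
open H16 H0.TR H0.Am
open scoped commutatorElement

noncomputable def tAW : List (List ℕ) := [[nat_lit 3, nat_lit 3, nat_lit 3, nat_lit 3],
  [nat_lit 5, nat_lit 1, nat_lit 7, nat_lit 0, nat_lit 6, nat_lit 2, nat_lit 5, nat_lit 8, nat_lit 1, nat_lit 3],
  [nat_lit 7, nat_lit 2, nat_lit 7, nat_lit 3, nat_lit 3, nat_lit 7, nat_lit 8, nat_lit 3, nat_lit 5, nat_lit 7, nat_lit 8, nat_lit 4],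
  [nat_lit 4, nat_lit 4, nat_lit 3, nat_lit 6, nat_lit 8, nat_lit 9, nat_lit 4, nat_lit 3],
  [nat_lit 0]]
noncomputable def tAM : List (List ℕ) := [[nat_lit 657400, nat_lit 985436, nat_lit 1044802, nat_lit 348803, nat_lit 817421, nat_lit 302598, nat_lit 952099, nat_lit 510257, nat_lit 279446, nat_lit 557547, nat_lit 177355, nat_lit 251981, nat_lit 400530, nat_lit 730339, nat_lit 209341, nat_lit 70358, nat_lit 349204, nat_lit 698408, nat_lit 63860, nat_lit 24216],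
  [nat_lit 41281, nat_lit 62082, nat_lit 21444, nat_lit 41288, nat_lit 983088, nat_lit 327696, nat_lit 20679, nat_lit 41033, nat_lit 21255, nat_lit 41225, nat_lit 329728, nat_lit 658432, nat_lit 8521, nat_lit 12942, nat_lit 33097, nat_lit 49806, nat_lit 264208, nat_lit 527392, nat_lit 67600, nat_lit 134176],
  [nat_lit 487870, nat_lit 627415, nat_lit 877045, nat_lit 438874, nat_lit 698428, nat_lit 1047572, nat_lit 946927, nat_lit 496501, nat_lit 678968, nat_lit 1025052, nat_lit 746086, nat_lit 897979, nat_lit 323, nat_lit 641, nat_lit 418711, nat_lit 766441, nat_lit 619357, nat_lit 954790, nat_lit 717876, nat_lit 1005592],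
  [nat_lit 611091, nat_lit 69357, nat_lit 334929, nat_lit 173129, nat_lit 639189, nat_lit 226520, nat_lit 504839, nat_lit 193640, nat_lit 703528, nat_lit 234699, nat_lit 385569, nat_lit 321910, nat_lit 813469, nat_lit 347073, nat_lit 786866, nat_lit 525153, nat_lit 111624, nat_lit 1043646, nat_lit 843175, nat_lit 332772],
  [nat_lit 78016, nat_lit 135232, nat_lit 35364, nat_lit 53048, nat_lit 525596, nat_lit 789028, nat_lit 135170, nat_lit 204803, nat_lit 540956, nat_lit 819748, nat_lit 541724, nat_lit 821284, nat_lit 131138, nat_lit 196739, nat_lit 541964, nat_lit 821764, nat_lit 12481, nat_lit 4162, nat_lit 315184, nat_lit 541968]]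
noncomputable def tAWm : List ℕ := [nat_lit 0, nat_lit 0, nat_lit 0, nat_lit 0, nat_lit 0, nat_lit 0, nat_lit 0, nat_lit 0, nat_lit 0, nat_lit 0, nat_lit 0, nat_lit 0, nat_lit 0, nat_lit 0, nat_lit 12, nat_lit 4, nat_lit 1, nat_lit 2, nat_lit 48, nat_lit 16]
noncomputable def tALa : List ℕ := [nat_lit 66, nat_lit 131, nat_lit 284, nat_lit 548, nat_lit 1052, nat_lit 2084, nat_lit 4098, nat_lit 8195]
noncomputable def tARa : List ℕ := [nat_lit 0, nat_lit 0, nat_lit 0, nat_lit 0, nat_lit 0, nat_lit 0, nat_lit 1, nat_lit 2, nat_lit 4, nat_lit 8, nat_lit 16, nat_lit 32, nat_lit 64, nat_lit 128, nat_lit 20, nat_lit 40, nat_lit 195, nat_lit 65, nat_lit 60, nat_lit 20]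
noncomputable def tAZ : List ℕ := [nat_lit 0, nat_lit 0, nat_lit 0, nat_lit 0, nat_lit 0, nat_lit 0, nat_lit 0, nat_lit 0, nat_lit 0, nat_lit 0, nat_lit 0, nat_lit 0, nat_lit 0, nat_lit 0, nat_lit 12, nat_lit 4, nat_lit 1, nat_lit 2, nat_lit 48, nat_lit 16]
noncomputable def tAC : List (List ℕ × ℕ × ℕ) := [([], (nat_lit 0), (nat_lit 0)),
  ([nat_lit 0, nat_lit 2, nat_lit 3, nat_lit 2], (nat_lit 1), (nat_lit 53)),
  ([nat_lit 0, nat_lit 2, nat_lit 3, nat_lit 2], (nat_lit 1), (nat_lit 53)),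
  ([nat_lit 0, nat_lit 2, nat_lit 3, nat_lit 2], (nat_lit 1), (nat_lit 0)),
  ([], (nat_lit 1), (nat_lit 39)),
  ([nat_lit 0, nat_lit 0, nat_lit 3, nat_lit 3], (nat_lit 1), (nat_lit 53)),
  ([nat_lit 1, nat_lit 3], (nat_lit 1), (nat_lit 53)),
  ([nat_lit 2, nat_lit 1, nat_lit 3], (nat_lit 1), (nat_lit 18)),
  ([], (nat_lit 1), (nat_lit 57)),
  ([nat_lit 1, nat_lit 3], (nat_lit 1), (nat_lit 35)),
  ([nat_lit 2, nat_lit 1, nat_lit 3], (nat_lit 1), (nat_lit 49)),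
  ([nat_lit 0, nat_lit 0, nat_lit 3, nat_lit 3], (nat_lit 1), (nat_lit 0)),
  ([], (nat_lit 1), (nat_lit 30)),
  ([nat_lit 2, nat_lit 1, nat_lit 3], (nat_lit 1), (nat_lit 35)),
  ([nat_lit 0, nat_lit 0, nat_lit 3, nat_lit 3], (nat_lit 1), (nat_lit 53)),
  ([nat_lit 1, nat_lit 3], (nat_lit 1), (nat_lit 22)),
  ([nat_lit 2, nat_lit 1], (nat_lit 0), (nat_lit 0)),
  ([nat_lit 0, nat_lit 1, nat_lit 2], (nat_lit 0), (nat_lit 14)),
  ([nat_lit 0], (nat_lit 1), (nat_lit 30)),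
  ([nat_lit 1], (nat_lit 0), (nat_lit 50)),
  ([nat_lit 0, nat_lit 1, nat_lit 0], (nat_lit 1), (nat_lit 22)),
  ([nat_lit 1, nat_lit 3], (nat_lit 1), (nat_lit 0)),
  ([nat_lit 0], (nat_lit 1), (nat_lit 61)),
  ([nat_lit 1, nat_lit 2], (nat_lit 1), (nat_lit 61)),
  ([nat_lit 0, nat_lit 1, nat_lit 0], (nat_lit 1), (nat_lit 39)),
  ([nat_lit 3], (nat_lit 1), (nat_lit 53)),
  ([nat_lit 0], (nat_lit 1), (nat_lit 47)),
  ([nat_lit 1, nat_lit 2], (nat_lit 1), (nat_lit 47)),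
  ([nat_lit 1, nat_lit 3], (nat_lit 1), (nat_lit 35)),
  ([nat_lit 1, nat_lit 1, nat_lit 3], (nat_lit 1), (nat_lit 53)),
  ([nat_lit 0], (nat_lit 1), (nat_lit 12)),
  ([nat_lit 1, nat_lit 2], (nat_lit 1), (nat_lit 12)),
  ([nat_lit 2, nat_lit 1], (nat_lit 0), (nat_lit 0)),
  ([nat_lit 1], (nat_lit 0), (nat_lit 19)),
  ([nat_lit 0, nat_lit 1, nat_lit 2], (nat_lit 0), (nat_lit 7)),
  ([nat_lit 0], (nat_lit 1), (nat_lit 39)),
  ([nat_lit 0, nat_lit 1, nat_lit 0], (nat_lit 1), (nat_lit 26)),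
  ([nat_lit 1, nat_lit 2], (nat_lit 1), (nat_lit 4)),
  ([nat_lit 3], (nat_lit 1), (nat_lit 8)),
  ([nat_lit 0], (nat_lit 1), (nat_lit 4)),
  ([nat_lit 1, nat_lit 3], (nat_lit 1), (nat_lit 0)),
  ([nat_lit 1, nat_lit 2], (nat_lit 1), (nat_lit 22)),
  ([nat_lit 1, nat_lit 1, nat_lit 3], (nat_lit 1), (nat_lit 61)),
  ([nat_lit 0], (nat_lit 1), (nat_lit 22)),
  ([nat_lit 0, nat_lit 1, nat_lit 0], (nat_lit 1), (nat_lit 57)),
  ([nat_lit 1, nat_lit 2], (nat_lit 1), (nat_lit 53)),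
  ([nat_lit 1, nat_lit 3], (nat_lit 1), (nat_lit 53)),
  ([nat_lit 0], (nat_lit 1), (nat_lit 53)),
  ([nat_lit 2, nat_lit 1], (nat_lit 0), (nat_lit 0)),
  ([nat_lit 0], (nat_lit 1), (nat_lit 57)),
  ([nat_lit 1], (nat_lit 0), (nat_lit 33)),
  ([nat_lit 0, nat_lit 1, nat_lit 2], (nat_lit 0), (nat_lit 9)),
  ([nat_lit 1, nat_lit 3], (nat_lit 1), (nat_lit 35)),
  ([nat_lit 0], (nat_lit 1), (nat_lit 26)),
  ([nat_lit 1, nat_lit 2], (nat_lit 1), (nat_lit 26)),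
  ([nat_lit 1, nat_lit 1, nat_lit 3], (nat_lit 1), (nat_lit 8)),
  ([nat_lit 0, nat_lit 1, nat_lit 0], (nat_lit 1), (nat_lit 47)),
  ([nat_lit 0], (nat_lit 1), (nat_lit 8)),
  ([nat_lit 1, nat_lit 2], (nat_lit 1), (nat_lit 8)),
  ([nat_lit 1, nat_lit 3], (nat_lit 1), (nat_lit 53)),
  ([nat_lit 0, nat_lit 1, nat_lit 0], (nat_lit 1), (nat_lit 61)),
  ([nat_lit 0], (nat_lit 1), (nat_lit 43)),
  ([nat_lit 1, nat_lit 2], (nat_lit 1), (nat_lit 43)),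
  ([nat_lit 3], (nat_lit 1), (nat_lit 61)),
  ([nat_lit 1, nat_lit 3, nat_lit 2], (nat_lit 1), (nat_lit 4)),
  ([nat_lit 3, nat_lit 2], (nat_lit 1), (nat_lit 0)),
  ([nat_lit 1, nat_lit 2], (nat_lit 0), (nat_lit 45)),
  ([nat_lit 2], (nat_lit 0), (nat_lit 27)),
  ([nat_lit 1, nat_lit 1, nat_lit 2, nat_lit 3], (nat_lit 1), (nat_lit 30)),
  ([nat_lit 2, nat_lit 3, nat_lit 3], (nat_lit 1), (nat_lit 30)),
  ([nat_lit 3], (nat_lit 1), (nat_lit 57)),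
  ([nat_lit 0, nat_lit 0], (nat_lit 1), (nat_lit 49)),
  ([nat_lit 2, nat_lit 1, nat_lit 3, nat_lit 0], (nat_lit 1), (nat_lit 26)),
  ([nat_lit 2, nat_lit 2, nat_lit 3], (nat_lit 1), (nat_lit 30)),
  ([nat_lit 0, nat_lit 2, nat_lit 3], (nat_lit 1), (nat_lit 39)),
  ([nat_lit 0, nat_lit 0], (nat_lit 1), (nat_lit 61)),
  ([nat_lit 3, nat_lit 2], (nat_lit 0), (nat_lit 10)),
  ([nat_lit 1, nat_lit 0, nat_lit 3, nat_lit 3], (nat_lit 1), (nat_lit 30)),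
  ([nat_lit 1, nat_lit 0, nat_lit 0], (nat_lit 1), (nat_lit 61)),
  ([nat_lit 0, nat_lit 0], (nat_lit 1), (nat_lit 57)),
  ([nat_lit 0, nat_lit 2, nat_lit 1], (nat_lit 0), (nat_lit 28)),
  ([], (nat_lit 1), (nat_lit 22)),
  ([nat_lit 3, nat_lit 2], (nat_lit 1), (nat_lit 18)),
  ([nat_lit 1, nat_lit 3, nat_lit 2], (nat_lit 1), (nat_lit 57)),
  ([nat_lit 0, nat_lit 1, nat_lit 3], (nat_lit 1), (nat_lit 26)),
  ([], (nat_lit 1), (nat_lit 49)),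
  ([nat_lit 1, nat_lit 1, nat_lit 3], (nat_lit 1), (nat_lit 22)),
  ([nat_lit 3, nat_lit 1, nat_lit 2], (nat_lit 0), (nat_lit 8)),
  ([nat_lit 2, nat_lit 3], (nat_lit 1), (nat_lit 39)),
  ([], (nat_lit 1), (nat_lit 47)),
  ([nat_lit 0, nat_lit 1, nat_lit 2, nat_lit 3], (nat_lit 1), (nat_lit 49)),
  ([nat_lit 3, nat_lit 1, nat_lit 0], (nat_lit 1), (nat_lit 57)),
  ([nat_lit 3, nat_lit 3], (nat_lit 1), (nat_lit 4)),
  ([], (nat_lit 1), (nat_lit 8)),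
  ([nat_lit 0, nat_lit 0, nat_lit 2, nat_lit 3, nat_lit 3], (nat_lit 1), (nat_lit 35)),
  ([nat_lit 3], (nat_lit 1), (nat_lit 12)),
  ([], (nat_lit 0), (nat_lit 5)),
  ([nat_lit 1, nat_lit 1], (nat_lit 0), (nat_lit 0)),
  ([nat_lit 1, nat_lit 1, nat_lit 3, nat_lit 2], (nat_lit 1), (nat_lit 22)),
  ([nat_lit 2, nat_lit 3, nat_lit 2], (nat_lit 1), (nat_lit 47)),
  ([nat_lit 2], (nat_lit 1), (nat_lit 61)),
  ([nat_lit 1, nat_lit 1, nat_lit 2], (nat_lit 1), (nat_lit 12)),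
  ([nat_lit 2, nat_lit 3], (nat_lit 1), (nat_lit 47)),
  ([nat_lit 1, nat_lit 3, nat_lit 0], (nat_lit 1), (nat_lit 35)),
  ([nat_lit 2], (nat_lit 1), (nat_lit 18)),
  ([nat_lit 1, nat_lit 1, nat_lit 2], (nat_lit 1), (nat_lit 53)),
  ([nat_lit 3, nat_lit 3, nat_lit 0], (nat_lit 1), (nat_lit 18)),
  ([nat_lit 0, nat_lit 3, nat_lit 3], (nat_lit 1), (nat_lit 0)),
  ([nat_lit 2], (nat_lit 1), (nat_lit 39)),
  ([nat_lit 1, nat_lit 1, nat_lit 2], (nat_lit 1), (nat_lit 43)),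
  ([nat_lit 3, nat_lit 3], (nat_lit 1), (nat_lit 26)),
  ([nat_lit 0, nat_lit 2, nat_lit 3], (nat_lit 1), (nat_lit 39)),
  ([nat_lit 1, nat_lit 0], (nat_lit 1), (nat_lit 35)),
  ([nat_lit 1, nat_lit 1, nat_lit 0], (nat_lit 1), (nat_lit 53)),
  ([nat_lit 1, nat_lit 3, nat_lit 2], (nat_lit 1), (nat_lit 43)),
  ([nat_lit 3, nat_lit 2], (nat_lit 1), (nat_lit 18)),
  ([nat_lit 1, nat_lit 0], (nat_lit 1), (nat_lit 4)),
  ([nat_lit 0, nat_lit 1, nat_lit 3], (nat_lit 1), (nat_lit 57)),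
  ([nat_lit 2, nat_lit 3, nat_lit 0], (nat_lit 1), (nat_lit 39)),
  ([nat_lit 1, nat_lit 2, nat_lit 3], (nat_lit 1), (nat_lit 12)),
  ([nat_lit 1, nat_lit 0], (nat_lit 1), (nat_lit 26)),
  ([nat_lit 3], (nat_lit 1), (nat_lit 4)),
  ([nat_lit 3, nat_lit 2, nat_lit 1], (nat_lit 0), (nat_lit 24)),
  ([nat_lit 0, nat_lit 2, nat_lit 3, nat_lit 3], (nat_lit 1), (nat_lit 61)),
  ([nat_lit 1, nat_lit 0], (nat_lit 1), (nat_lit 61)),
  ([nat_lit 2, nat_lit 3], (nat_lit 1), (nat_lit 39)),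
  ([nat_lit 3, nat_lit 0], (nat_lit 1), (nat_lit 18)),
  ([nat_lit 1, nat_lit 3, nat_lit 3], (nat_lit 1), (nat_lit 35)),
  ([nat_lit 1, nat_lit 3, nat_lit 2], (nat_lit 1), (nat_lit 4)),
  ([nat_lit 2], (nat_lit 0), (nat_lit 45)),
  ([nat_lit 3, nat_lit 2], (nat_lit 1), (nat_lit 12)),
  ([nat_lit 1, nat_lit 2], (nat_lit 0), (nat_lit 54)),
  ([nat_lit 2, nat_lit 1, nat_lit 3, nat_lit 0], (nat_lit 1), (nat_lit 47)),
  ([nat_lit 0, nat_lit 0], (nat_lit 1), (nat_lit 30)),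
  ([nat_lit 2, nat_lit 2, nat_lit 3], (nat_lit 1), (nat_lit 35)),
  ([nat_lit 0, nat_lit 2, nat_lit 3], (nat_lit 1), (nat_lit 53)),
  ([nat_lit 3, nat_lit 2], (nat_lit 0), (nat_lit 30)),
  ([nat_lit 0, nat_lit 0], (nat_lit 1), (nat_lit 18)),
  ([nat_lit 1, nat_lit 0, nat_lit 3, nat_lit 3], (nat_lit 1), (nat_lit 61)),
  ([nat_lit 1, nat_lit 0, nat_lit 0], (nat_lit 1), (nat_lit 49)),
  ([nat_lit 1, nat_lit 1, nat_lit 2, nat_lit 3], (nat_lit 1), (nat_lit 39)),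
  ([nat_lit 0, nat_lit 0], (nat_lit 1), (nat_lit 22)),
  ([nat_lit 2, nat_lit 3, nat_lit 3], (nat_lit 1), (nat_lit 39)),
  ([nat_lit 3], (nat_lit 1), (nat_lit 26)),
  ([nat_lit 1, nat_lit 0], (nat_lit 1), (nat_lit 49)),
  ([nat_lit 3, nat_lit 2], (nat_lit 1), (nat_lit 30)),
  ([nat_lit 1, nat_lit 1, nat_lit 0], (nat_lit 1), (nat_lit 26)),
  ([nat_lit 1, nat_lit 3, nat_lit 2], (nat_lit 1), (nat_lit 57)),
  ([nat_lit 1, nat_lit 0], (nat_lit 1), (nat_lit 22)),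
  ([nat_lit 0, nat_lit 2, nat_lit 3, nat_lit 3], (nat_lit 1), (nat_lit 26)),
  ([nat_lit 3], (nat_lit 1), (nat_lit 47)),
  ([nat_lit 3, nat_lit 2, nat_lit 1], (nat_lit 0), (nat_lit 47)),
  ([nat_lit 1, nat_lit 0], (nat_lit 1), (nat_lit 8)),
  ([nat_lit 1, nat_lit 3, nat_lit 3], (nat_lit 1), (nat_lit 35)),
  ([nat_lit 2, nat_lit 3], (nat_lit 1), (nat_lit 18)),
  ([nat_lit 3, nat_lit 0], (nat_lit 1), (nat_lit 30)),
  ([nat_lit 1, nat_lit 0], (nat_lit 1), (nat_lit 47)),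
  ([nat_lit 1, nat_lit 2, nat_lit 3], (nat_lit 1), (nat_lit 35)),
  ([nat_lit 0, nat_lit 1, nat_lit 3], (nat_lit 1), (nat_lit 18)),
  ([nat_lit 2, nat_lit 3, nat_lit 0], (nat_lit 1), (nat_lit 0)),
  ([nat_lit 0, nat_lit 2, nat_lit 1], (nat_lit 0), (nat_lit 36)),
  ([nat_lit 1, nat_lit 3, nat_lit 2], (nat_lit 1), (nat_lit 22)),
  ([], (nat_lit 1), (nat_lit 43)),
  ([nat_lit 3, nat_lit 2], (nat_lit 1), (nat_lit 12)),
  ([nat_lit 2, nat_lit 3], (nat_lit 1), (nat_lit 26)),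
  ([nat_lit 3, nat_lit 1, nat_lit 0], (nat_lit 1), (nat_lit 26)),
  ([], (nat_lit 1), (nat_lit 12)),
  ([nat_lit 0, nat_lit 1, nat_lit 2, nat_lit 3], (nat_lit 1), (nat_lit 0)),
  ([nat_lit 3, nat_lit 3], (nat_lit 1), (nat_lit 43)),
  ([nat_lit 3], (nat_lit 1), (nat_lit 18)),
  ([], (nat_lit 1), (nat_lit 18)),
  ([nat_lit 0, nat_lit 0, nat_lit 2, nat_lit 3, nat_lit 3], (nat_lit 1), (nat_lit 12)),
  ([nat_lit 0, nat_lit 1, nat_lit 3], (nat_lit 1), (nat_lit 8)),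
  ([nat_lit 3, nat_lit 1, nat_lit 2], (nat_lit 0), (nat_lit 18)),
  ([], (nat_lit 1), (nat_lit 53)),
  ([nat_lit 1, nat_lit 1, nat_lit 3], (nat_lit 1), (nat_lit 12)),
  ([], (nat_lit 0), (nat_lit 10)),
  ([nat_lit 2, nat_lit 3, nat_lit 2], (nat_lit 1), (nat_lit 12)),
  ([nat_lit 1, nat_lit 1], (nat_lit 0), (nat_lit 0)),
  ([nat_lit 1, nat_lit 1, nat_lit 3, nat_lit 2], (nat_lit 1), (nat_lit 53)),
  ([nat_lit 2], (nat_lit 1), (nat_lit 57)),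
  ([nat_lit 0, nat_lit 3, nat_lit 3], (nat_lit 1), (nat_lit 57)),
  ([nat_lit 1, nat_lit 1, nat_lit 2], (nat_lit 1), (nat_lit 61)),
  ([nat_lit 3, nat_lit 3, nat_lit 0], (nat_lit 1), (nat_lit 0)),
  ([nat_lit 2], (nat_lit 1), (nat_lit 22)),
  ([nat_lit 0, nat_lit 2, nat_lit 3], (nat_lit 1), (nat_lit 8)),
  ([nat_lit 1, nat_lit 1, nat_lit 2], (nat_lit 1), (nat_lit 4)),
  ([nat_lit 3, nat_lit 3], (nat_lit 1), (nat_lit 61)),
  ([nat_lit 2], (nat_lit 1), (nat_lit 35)),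
  ([nat_lit 1, nat_lit 3, nat_lit 0], (nat_lit 1), (nat_lit 47)),
  ([nat_lit 1, nat_lit 1, nat_lit 2], (nat_lit 1), (nat_lit 26)),
  ([nat_lit 2, nat_lit 3], (nat_lit 1), (nat_lit 18)),
  ([nat_lit 1, nat_lit 3, nat_lit 2], (nat_lit 1), (nat_lit 0)),
  ([nat_lit 1, nat_lit 2], (nat_lit 0), (nat_lit 27)),
  ([nat_lit 2], (nat_lit 0), (nat_lit 54)),
  ([nat_lit 3, nat_lit 2], (nat_lit 1), (nat_lit 12)),
  ([nat_lit 3, nat_lit 2], (nat_lit 0), (nat_lit 20)),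
  ([nat_lit 1, nat_lit 0, nat_lit 0], (nat_lit 1), (nat_lit 12)),
  ([nat_lit 0, nat_lit 0], (nat_lit 1), (nat_lit 43)),
  ([nat_lit 1, nat_lit 0, nat_lit 3, nat_lit 3], (nat_lit 1), (nat_lit 35)),
  ([nat_lit 1, nat_lit 1, nat_lit 2, nat_lit 3], (nat_lit 1), (nat_lit 57)),
  ([nat_lit 3], (nat_lit 1), (nat_lit 35)),
  ([nat_lit 0, nat_lit 0], (nat_lit 1), (nat_lit 39)),
  ([nat_lit 2, nat_lit 3, nat_lit 3], (nat_lit 1), (nat_lit 57)),
  ([nat_lit 2, nat_lit 1, nat_lit 3, nat_lit 0], (nat_lit 1), (nat_lit 53)),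
  ([nat_lit 0, nat_lit 2, nat_lit 3], (nat_lit 1), (nat_lit 18)),
  ([nat_lit 0, nat_lit 0], (nat_lit 1), (nat_lit 35)),
  ([nat_lit 2, nat_lit 2, nat_lit 3], (nat_lit 1), (nat_lit 61)),
  ([], (nat_lit 0), (nat_lit 15)),
  ([nat_lit 1, nat_lit 1, nat_lit 3, nat_lit 2], (nat_lit 1), (nat_lit 35)),
  ([nat_lit 2, nat_lit 3, nat_lit 2], (nat_lit 1), (nat_lit 35)),
  ([nat_lit 1, nat_lit 1], (nat_lit 0), (nat_lit 0)),
  ([nat_lit 2], (nat_lit 1), (nat_lit 49)),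
  ([nat_lit 3, nat_lit 3], (nat_lit 1), (nat_lit 39)),
  ([nat_lit 0, nat_lit 2, nat_lit 3], (nat_lit 1), (nat_lit 47)),
  ([nat_lit 1, nat_lit 1, nat_lit 2], (nat_lit 1), (nat_lit 47)),
  ([nat_lit 2], (nat_lit 1), (nat_lit 30)),
  ([nat_lit 2, nat_lit 3], (nat_lit 1), (nat_lit 61)),
  ([nat_lit 1, nat_lit 3, nat_lit 0], (nat_lit 1), (nat_lit 12)),
  ([nat_lit 1, nat_lit 1, nat_lit 2], (nat_lit 1), (nat_lit 22)),
  ([nat_lit 2], (nat_lit 1), (nat_lit 43)),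
  ([nat_lit 3, nat_lit 3, nat_lit 0], (nat_lit 1), (nat_lit 18)),
  ([nat_lit 0, nat_lit 3, nat_lit 3], (nat_lit 1), (nat_lit 57)),
  ([nat_lit 1, nat_lit 1, nat_lit 2], (nat_lit 1), (nat_lit 8)),
  ([nat_lit 1, nat_lit 0], (nat_lit 1), (nat_lit 18)),
  ([nat_lit 1, nat_lit 3, nat_lit 2], (nat_lit 1), (nat_lit 18)),
  ([nat_lit 3, nat_lit 2], (nat_lit 1), (nat_lit 12)),
  ([nat_lit 1, nat_lit 1, nat_lit 0], (nat_lit 1), (nat_lit 47)),
  ([nat_lit 1, nat_lit 0], (nat_lit 1), (nat_lit 53)),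
  ([nat_lit 3, nat_lit 0], (nat_lit 1), (nat_lit 12)),
  ([nat_lit 1, nat_lit 3, nat_lit 3], (nat_lit 1), (nat_lit 0)),
  ([nat_lit 2, nat_lit 3], (nat_lit 1), (nat_lit 53)),
  ([nat_lit 1, nat_lit 0], (nat_lit 1), (nat_lit 43)),
  ([nat_lit 2, nat_lit 3, nat_lit 0], (nat_lit 1), (nat_lit 39)),
  ([nat_lit 1, nat_lit 2, nat_lit 3], (nat_lit 1), (nat_lit 47)),
  ([nat_lit 0, nat_lit 1, nat_lit 3], (nat_lit 1), (nat_lit 43)),
  ([nat_lit 1, nat_lit 0], (nat_lit 1), (nat_lit 12)),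
  ([nat_lit 3, nat_lit 2, nat_lit 1], (nat_lit 0), (nat_lit 55)),
  ([nat_lit 0, nat_lit 2, nat_lit 3, nat_lit 3], (nat_lit 1), (nat_lit 39)),
  ([nat_lit 3], (nat_lit 1), (nat_lit 43)),
  ([nat_lit 0, nat_lit 2, nat_lit 1], (nat_lit 0), (nat_lit 56)),
  ([nat_lit 3, nat_lit 2], (nat_lit 1), (nat_lit 30)),
  ([nat_lit 1, nat_lit 3, nat_lit 2], (nat_lit 1), (nat_lit 47)),
  ([], (nat_lit 1), (nat_lit 61)),
  ([nat_lit 3, nat_lit 3], (nat_lit 1), (nat_lit 47)),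
  ([nat_lit 0, nat_lit 0, nat_lit 2, nat_lit 3, nat_lit 3], (nat_lit 1), (nat_lit 47)),
  ([nat_lit 3], (nat_lit 1), (nat_lit 30)),
  ([], (nat_lit 1), (nat_lit 26)),
  ([nat_lit 0, nat_lit 1, nat_lit 3], (nat_lit 1), (nat_lit 18)),
  ([nat_lit 1, nat_lit 1, nat_lit 3], (nat_lit 1), (nat_lit 26)),
  ([nat_lit 3, nat_lit 1, nat_lit 2], (nat_lit 0), (nat_lit 26)),
  ([], (nat_lit 1), (nat_lit 4)),
  ([nat_lit 2, nat_lit 3], (nat_lit 1), (nat_lit 61)),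
  ([nat_lit 0, nat_lit 1, nat_lit 2, nat_lit 3], (nat_lit 1), (nat_lit 49)),
  ([nat_lit 3, nat_lit 1, nat_lit 0], (nat_lit 1), (nat_lit 35)),
  ([], (nat_lit 1), (nat_lit 35))]
noncomputable def tCW : List (List ℕ) := [[nat_lit 2, nat_lit 5, nat_lit 7, nat_lit 0, nat_lit 2, nat_lit 7, nat_lit 2, nat_lit 8, nat_lit 0, nat_lit 9, nat_lit 8, nat_lit 5],
  [nat_lit 0, nat_lit 6, nat_lit 0, nat_lit 7, nat_lit 9]]
noncomputable def tCM : List (List ℕ) := [[nat_lit 517013, nat_lit 648107, nat_lit 252740, nat_lit 490037, nat_lit 920596, nat_lit 518652, nat_lit 578987, nat_lit 842165, nat_lit 242100, nat_lit 477813, nat_lit 305796, nat_lit 489589, nat_lit 499141, nat_lit 628171, nat_lit 628643, nat_lit 498610, nat_lit 108523, nat_lit 175093, nat_lit 283636, nat_lit 473717],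
  [nat_lit 618533, nat_lit 954398, nat_lit 730489, nat_lit 266115, nat_lit 240378, nat_lit 222585, nat_lit 675940, nat_lit 516280, nat_lit 956452, nat_lit 619548, nat_lit 897572, nat_lit 676124, nat_lit 317818, nat_lit 12163, nat_lit 518753, nat_lit 517586, nat_lit 378617, nat_lit 444794, nat_lit 3979, nat_lit 518725]]
noncomputable def tCWm : List ℕ := [nat_lit 0, nat_lit 0, nat_lit 0, nat_lit 0, nat_lit 0, nat_lit 0, nat_lit 4410, nat_lit 8963, nat_lit 0, nat_lit 0, nat_lit 513, nat_lit 258, nat_lit 0, nat_lit 0, nat_lit 4896, nat_lit 13072, nat_lit 37, nat_lit 30, nat_lit 8200, nat_lit 4868]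
noncomputable def tCLa : List ℕ := []
noncomputable def tCRa : List ℕ := [nat_lit 0, nat_lit 0, nat_lit 0, nat_lit 0, nat_lit 0, nat_lit 0, nat_lit 0, nat_lit 0, nat_lit 0, nat_lit 0, nat_lit 0, nat_lit 0, nat_lit 0, nat_lit 0, nat_lit 0, nat_lit 0, nat_lit 0, nat_lit 0, nat_lit 0, nat_lit 0]
noncomputable def tCZ : List ℕ := [nat_lit 0, nat_lit 0, nat_lit 0, nat_lit 0, nat_lit 0, nat_lit 0, nat_lit 4410, nat_lit 8963, nat_lit 0, nat_lit 0, nat_lit 513, nat_lit 258, nat_lit 0, nat_lit 0, nat_lit 4896, nat_lit 13072, nat_lit 37, nat_lit 30, nat_lit 8200, nat_lit 4868]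
noncomputable def tCC : List (List ℕ × ℕ × ℕ) := [([], (nat_lit 0), (nat_lit 0))]
noncomputable def tDW : List (List ℕ) := [[nat_lit 7, nat_lit 3, nat_lit 7, nat_lit 8, nat_lit 5, nat_lit 6, nat_lit 1, nat_lit 6],
  [nat_lit 3, nat_lit 0, nat_lit 6, nat_lit 0, nat_lit 7, nat_lit 8, nat_lit 5, nat_lit 6, nat_lit 8, nat_lit 1],
  [nat_lit 1, nat_lit 5, nat_lit 1, nat_lit 6, nat_lit 0, nat_lit 2, nat_lit 9, nat_lit 8, nat_lit 3, nat_lit 8, nat_lit 9, nat_lit 1, nat_lit 7, nat_lit 2],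
  [nat_lit 4, nat_lit 7, nat_lit 1, nat_lit 4, nat_lit 8, nat_lit 5, nat_lit 8, nat_lit 9, nat_lit 6, nat_lit 10]]
noncomputable def tDM : List (List ℕ) := [[nat_lit 70736, nat_lit 141472, nat_lit 55124, nat_lit 27048, nat_lit 306089, nat_lit 589310, nat_lit 421272, nat_lit 767724, nat_lit 237246, nat_lit 124887, nat_lit 322217, nat_lit 557054, nat_lit 419256, nat_lit 768732, nat_lit 241278, nat_lit 128919, nat_lit 560688, nat_lit 837392, nat_lit 54083, nat_lit 24961],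
  [nat_lit 62828, nat_lit 23220, nat_lit 637810, nat_lit 974227, nat_lit 327683, nat_lit 655361, nat_lit 943987, nat_lit 506257, nat_lit 615826, nat_lit 965347, nat_lit 890785, nat_lit 453106, nat_lit 44732, nat_lit 63444, nat_lit 63160, nat_lit 23516, nat_lit 425890, nat_lit 759283, nat_lit 884209, nat_lit 431698],
  [nat_lit 658317, nat_lit 770286, nat_lit 1044754, nat_lit 302554, nat_lit 746017, nat_lit 300653, nat_lit 999513, nat_lit 854922, nat_lit 1002796, nat_lit 150159, nat_lit 771608, nat_lit 117131, nat_lit 843816, nat_lit 552988, nat_lit 257053, nat_lit 733544, nat_lit 364277, nat_lit 427382, nat_lit 226346, nat_lit 991964],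
  [nat_lit 866149, nat_lit 333142, nat_lit 533044, nat_lit 390939, nat_lit 494730, nat_lit 936141, nat_lit 533104, nat_lit 391059, nat_lit 236750, nat_lit 123975, nat_lit 598576, nat_lit 512871, nat_lit 166350, nat_lit 116295, nat_lit 882532, nat_lit 365908, nat_lit 534064, nat_lit 319335, nat_lit 166042, nat_lit 115831]]
noncomputable def tDWm : List ℕ := [nat_lit 0, nat_lit 0, nat_lit 0, nat_lit 0, nat_lit 0, nat_lit 0, nat_lit 0, nat_lit 0, nat_lit 0, nat_lit 0, nat_lit 0, nat_lit 0, nat_lit 0, nat_lit 0, nat_lit 2064, nat_lit 2074, nat_lit 57, nat_lit 2056, nat_lit 59, nat_lit 3]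
noncomputable def tDLa : List ℕ := [nat_lit 7, nat_lit 67, nat_lit 136, nat_lit 299, nat_lit 563, nat_lit 1082, nat_lit 4114, nat_lit 8243]
noncomputable def tDRa : List ℕ := [nat_lit 0, nat_lit 0, nat_lit 1, nat_lit 0, nat_lit 0, nat_lit 0, nat_lit 2, nat_lit 4, nat_lit 8, nat_lit 16, nat_lit 32, nat_lit 0, nat_lit 64, nat_lit 128, nat_lit 127, nat_lit 236, nat_lit 32, nat_lit 163, nat_lit 75, nat_lit 144]
noncomputable def tDZ : List ℕ := [nat_lit 0, nat_lit 0, nat_lit 0, nat_lit 0, nat_lit 0, nat_lit 0, nat_lit 0, nat_lit 0, nat_lit 0, nat_lit 0, nat_lit 0, nat_lit 0, nat_lit 0, nat_lit 0, nat_lit 2064, nat_lit 2074, nat_lit 57, nat_lit 2056, nat_lit 59, nat_lit 3]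
noncomputable def tDC : List (List ℕ × ℕ × ℕ) := [([], (nat_lit 0), (nat_lit 0)),
  ([nat_lit 0, nat_lit 0], (nat_lit 1), (nat_lit 2090)),
  ([nat_lit 2], (nat_lit 1), (nat_lit 2096)),
  ([nat_lit 1, nat_lit 2, nat_lit 2], (nat_lit 1), (nat_lit 2090)),
  ([nat_lit 0, nat_lit 2, nat_lit 2], (nat_lit 1), (nat_lit 2075)),
  ([nat_lit 1, nat_lit 1, nat_lit 0], (nat_lit 1), (nat_lit 2090)),
  ([nat_lit 0, nat_lit 1, nat_lit 2], (nat_lit 1), (nat_lit 2088)),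
  ([nat_lit 0, nat_lit 2], (nat_lit 1), (nat_lit 2098)),
  ([nat_lit 0, nat_lit 2, nat_lit 0, nat_lit 2], (nat_lit 1), (nat_lit 24)),
  ([nat_lit 1], (nat_lit 2), (nat_lit 57)),
  ([nat_lit 2, nat_lit 2], (nat_lit 1), (nat_lit 2090)),
  ([nat_lit 1, nat_lit 1], (nat_lit 2), (nat_lit 2048)),
  ([nat_lit 2, nat_lit 1, nat_lit 2], (nat_lit 1), (nat_lit 51)),
  ([nat_lit 1, nat_lit 0, nat_lit 2], (nat_lit 1), (nat_lit 2096)),
  ([nat_lit 0], (nat_lit 1), (nat_lit 0)),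
  ([nat_lit 0, nat_lit 2, nat_lit 1], (nat_lit 2), (nat_lit 27)),
  ([nat_lit 0, nat_lit 1], (nat_lit 2), (nat_lit 2066)),
  ([nat_lit 0, nat_lit 1, nat_lit 0], (nat_lit 2), (nat_lit 25)),
  ([nat_lit 0], (nat_lit 1), (nat_lit 0)),
  ([nat_lit 2, nat_lit 1, nat_lit 0], (nat_lit 1), (nat_lit 49)),
  ([nat_lit 0, nat_lit 0], (nat_lit 2), (nat_lit 2065)),
  ([nat_lit 1, nat_lit 0, nat_lit 0], (nat_lit 1), (nat_lit 0)),
  ([nat_lit 0, nat_lit 1, nat_lit 1, nat_lit 2], (nat_lit 1), (nat_lit 2098)),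
  ([nat_lit 1, nat_lit 0], (nat_lit 1), (nat_lit 43)),
  ([nat_lit 2, nat_lit 0, nat_lit 0], (nat_lit 1), (nat_lit 2098)),
  ([], (nat_lit 1), (nat_lit 2)),
  ([nat_lit 0, nat_lit 0, nat_lit 1, nat_lit 0], (nat_lit 1), (nat_lit 2049)),
  ([nat_lit 1, nat_lit 1, nat_lit 2], (nat_lit 1), (nat_lit 2098)),
  ([nat_lit 0], (nat_lit 1), (nat_lit 0)),
  ([nat_lit 0, nat_lit 0], (nat_lit 2), (nat_lit 2056)),
  ([nat_lit 2], (nat_lit 1), (nat_lit 2)),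
  ([nat_lit 0, nat_lit 1, nat_lit 2], (nat_lit 1), (nat_lit 2098)),
  ([nat_lit 0, nat_lit 1, nat_lit 0], (nat_lit 1), (nat_lit 2)),
  ([nat_lit 1, nat_lit 0], (nat_lit 1), (nat_lit 49)),
  ([nat_lit 0, nat_lit 0, nat_lit 1, nat_lit 0], (nat_lit 2), (nat_lit 2091)),
  ([nat_lit 1, nat_lit 1, nat_lit 2], (nat_lit 1), (nat_lit 2088)),
  ([nat_lit 1, nat_lit 2, nat_lit 2], (nat_lit 1), (nat_lit 2)),
  ([], (nat_lit 1), (nat_lit 2088)),
  ([nat_lit 1, nat_lit 2], (nat_lit 1), (nat_lit 24)),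
  ([nat_lit 1, nat_lit 0, nat_lit 0], (nat_lit 1), (nat_lit 41)),
  ([nat_lit 2], (nat_lit 1), (nat_lit 2088)),
  ([nat_lit 2, nat_lit 2, nat_lit 1], (nat_lit 2), (nat_lit 2049)),
  ([nat_lit 2], (nat_lit 1), (nat_lit 24)),
  ([nat_lit 2, nat_lit 0], (nat_lit 1), (nat_lit 2051)),
  ([nat_lit 1, nat_lit 1, nat_lit 0, nat_lit 0], (nat_lit 1), (nat_lit 2)),
  ([nat_lit 1, nat_lit 0, nat_lit 0], (nat_lit 1), (nat_lit 41)),
  ([nat_lit 0, nat_lit 2, nat_lit 0, nat_lit 0], (nat_lit 1), (nat_lit 0)),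
  ([nat_lit 0, nat_lit 0, nat_lit 2], (nat_lit 1), (nat_lit 49)),
  ([nat_lit 0, nat_lit 2, nat_lit 2], (nat_lit 1), (nat_lit 43)),
  ([nat_lit 1, nat_lit 2], (nat_lit 1), (nat_lit 51)),
  ([nat_lit 2, nat_lit 0], (nat_lit 1), (nat_lit 2098)),
  ([nat_lit 1, nat_lit 0], (nat_lit 2), (nat_lit 2048)),
  ([nat_lit 2], (nat_lit 1), (nat_lit 26)),
  ([nat_lit 0, nat_lit 0, nat_lit 1, nat_lit 2], (nat_lit 1), (nat_lit 2049)),
  ([nat_lit 2], (nat_lit 1), (nat_lit 2090)),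
  ([nat_lit 0, nat_lit 2, nat_lit 0], (nat_lit 1), (nat_lit 51)),
  ([nat_lit 0, nat_lit 0], (nat_lit 1), (nat_lit 2049)),
  ([nat_lit 0, nat_lit 0], (nat_lit 1), (nat_lit 43)),
  ([nat_lit 2, nat_lit 0], (nat_lit 2), (nat_lit 32)),
  ([nat_lit 2, nat_lit 2], (nat_lit 1), (nat_lit 2096)),
  ([], (nat_lit 1), (nat_lit 2090)),
  ([nat_lit 2, nat_lit 0, nat_lit 0], (nat_lit 1), (nat_lit 0)),
  ([nat_lit 0, nat_lit 2], (nat_lit 1), (nat_lit 2073)),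
  ([nat_lit 1, nat_lit 0, nat_lit 2], (nat_lit 1), (nat_lit 2051)),
  ([nat_lit 0, nat_lit 1, nat_lit 0, nat_lit 0], (nat_lit 1), (nat_lit 51)),
  ([nat_lit 2], (nat_lit 1), (nat_lit 49)),
  ([nat_lit 0, nat_lit 1, nat_lit 0], (nat_lit 1), (nat_lit 24)),
  ([nat_lit 2], (nat_lit 1), (nat_lit 2049)),
  ([nat_lit 0], (nat_lit 1), (nat_lit 0)),
  ([nat_lit 0], (nat_lit 2), (nat_lit 19)),
  ([nat_lit 1, nat_lit 0, nat_lit 0], (nat_lit 1), (nat_lit 0)),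
  ([nat_lit 2, nat_lit 1, nat_lit 0], (nat_lit 1), (nat_lit 0)),
  ([nat_lit 2, nat_lit 1], (nat_lit 2), (nat_lit 2098)),
  ([], (nat_lit 1), (nat_lit 51)),
  ([nat_lit 0], (nat_lit 1), (nat_lit 0)),
  ([nat_lit 0, nat_lit 1, nat_lit 2], (nat_lit 1), (nat_lit 26)),
  ([nat_lit 1, nat_lit 0, nat_lit 0], (nat_lit 1), (nat_lit 0)),
  ([nat_lit 2, nat_lit 0], (nat_lit 1), (nat_lit 2051)),
  ([nat_lit 1, nat_lit 0, nat_lit 0], (nat_lit 2), (nat_lit 2088)),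
  ([nat_lit 1, nat_lit 0], (nat_lit 1), (nat_lit 43)),
  ([], (nat_lit 1), (nat_lit 49)),
  ([], (nat_lit 2), (nat_lit 2096)),
  ([nat_lit 0, nat_lit 0], (nat_lit 1), (nat_lit 2051)),
  ([nat_lit 0, nat_lit 0], (nat_lit 1), (nat_lit 41)),
  ([nat_lit 2, nat_lit 0], (nat_lit 1), (nat_lit 2098)),
  ([nat_lit 1, nat_lit 0, nat_lit 2], (nat_lit 1), (nat_lit 2096)),
  ([nat_lit 0], (nat_lit 1), (nat_lit 0)),
  ([nat_lit 2, nat_lit 0, nat_lit 0], (nat_lit 1), (nat_lit 49)),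
  ([nat_lit 0], (nat_lit 1), (nat_lit 0)),
  ([nat_lit 1, nat_lit 0, nat_lit 0], (nat_lit 1), (nat_lit 0)),
  ([nat_lit 1, nat_lit 2, nat_lit 0], (nat_lit 2), (nat_lit 19)),
  ([nat_lit 0, nat_lit 2], (nat_lit 1), (nat_lit 0)),
  ([nat_lit 0, nat_lit 2], (nat_lit 1), (nat_lit 2098)),
  ([nat_lit 2], (nat_lit 1), (nat_lit 2051)),
  ([nat_lit 0, nat_lit 0, nat_lit 2], (nat_lit 1), (nat_lit 49)),
  ([nat_lit 2], (nat_lit 1), (nat_lit 51)),
  ([nat_lit 2, nat_lit 0, nat_lit 2], (nat_lit 1), (nat_lit 51)),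
  ([nat_lit 1, nat_lit 0, nat_lit 0], (nat_lit 1), (nat_lit 41)),
  ([nat_lit 0, nat_lit 2], (nat_lit 1), (nat_lit 43)),
  ([nat_lit 2, nat_lit 2], (nat_lit 1), (nat_lit 2096)),
  ([nat_lit 2, nat_lit 0, nat_lit 1, nat_lit 2], (nat_lit 1), (nat_lit 0)),
  ([nat_lit 0, nat_lit 2], (nat_lit 1), (nat_lit 2073)),
  ([nat_lit 2, nat_lit 0], (nat_lit 1), (nat_lit 0)),
  ([nat_lit 1, nat_lit 0, nat_lit 2], (nat_lit 1), (nat_lit 2051)),
  ([nat_lit 1, nat_lit 1, nat_lit 2, nat_lit 2], (nat_lit 1), (nat_lit 2075)),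
  ([nat_lit 2], (nat_lit 1), (nat_lit 2073)),
  ([nat_lit 0, nat_lit 0], (nat_lit 1), (nat_lit 2)),
  ([nat_lit 2], (nat_lit 1), (nat_lit 41)),
  ([], (nat_lit 1), (nat_lit 2075)),
  ([nat_lit 2, nat_lit 0, nat_lit 2], (nat_lit 1), (nat_lit 2073)),
  ([nat_lit 1, nat_lit 0], (nat_lit 1), (nat_lit 26)),
  ([nat_lit 0, nat_lit 0, nat_lit 1, nat_lit 0], (nat_lit 1), (nat_lit 2)),
  ([nat_lit 0, nat_lit 0, nat_lit 2, nat_lit 0], (nat_lit 1), (nat_lit 2073)),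
  ([nat_lit 0, nat_lit 0, nat_lit 2], (nat_lit 1), (nat_lit 0)),
  ([nat_lit 1, nat_lit 1, nat_lit 0], (nat_lit 1), (nat_lit 51)),
  ([nat_lit 2, nat_lit 1, nat_lit 1], (nat_lit 2), (nat_lit 2073)),
  ([nat_lit 1, nat_lit 0, nat_lit 0], (nat_lit 1), (nat_lit 41)),
  ([], (nat_lit 1), (nat_lit 2073)),
  ([nat_lit 2, nat_lit 1, nat_lit 1], (nat_lit 2), (nat_lit 59)),
  ([nat_lit 2], (nat_lit 1), (nat_lit 2075)),
  ([nat_lit 1, nat_lit 0, nat_lit 1, nat_lit 2], (nat_lit 1), (nat_lit 2090)),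
  ([nat_lit 1, nat_lit 0], (nat_lit 1), (nat_lit 49)),
  ([nat_lit 0, nat_lit 0, nat_lit 2, nat_lit 2], (nat_lit 1), (nat_lit 41)),
  ([nat_lit 0, nat_lit 0, nat_lit 2], (nat_lit 1), (nat_lit 2096)),
  ([nat_lit 0, nat_lit 2, nat_lit 0], (nat_lit 1), (nat_lit 2)),
  ([nat_lit 0, nat_lit 2, nat_lit 0], (nat_lit 1), (nat_lit 0)),
  ([nat_lit 1, nat_lit 0, nat_lit 0], (nat_lit 1), (nat_lit 41)),
  ([nat_lit 2, nat_lit 0], (nat_lit 1), (nat_lit 49)),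
  ([nat_lit 0, nat_lit 1, nat_lit 0], (nat_lit 1), (nat_lit 51)),
  ([nat_lit 0, nat_lit 1, nat_lit 0], (nat_lit 1), (nat_lit 2088)),
  ([nat_lit 1, nat_lit 0, nat_lit 2], (nat_lit 1), (nat_lit 2073)),
  ([nat_lit 0], (nat_lit 1), (nat_lit 0)),
  ([nat_lit 1, nat_lit 1], (nat_lit 2), (nat_lit 33)),
  ([nat_lit 0, nat_lit 0, nat_lit 2], (nat_lit 1), (nat_lit 41)),
  ([nat_lit 0, nat_lit 1, nat_lit 0, nat_lit 2], (nat_lit 1), (nat_lit 2073)),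
  ([nat_lit 0, nat_lit 1, nat_lit 2], (nat_lit 1), (nat_lit 49)),
  ([nat_lit 1, nat_lit 1, nat_lit 0], (nat_lit 1), (nat_lit 2051)),
  ([nat_lit 0, nat_lit 2], (nat_lit 1), (nat_lit 2051)),
  ([nat_lit 2, nat_lit 0, nat_lit 0], (nat_lit 1), (nat_lit 26)),
  ([nat_lit 2, nat_lit 1, nat_lit 0], (nat_lit 2), (nat_lit 2049)),
  ([], (nat_lit 1), (nat_lit 2098)),
  ([nat_lit 0], (nat_lit 1), (nat_lit 0)),
  ([nat_lit 0, nat_lit 2], (nat_lit 1), (nat_lit 49)),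
  ([nat_lit 1, nat_lit 1], (nat_lit 2), (nat_lit 2081)),
  ([nat_lit 0, nat_lit 1, nat_lit 2, nat_lit 2], (nat_lit 1), (nat_lit 2098)),
  ([nat_lit 0], (nat_lit 1), (nat_lit 0)),
  ([nat_lit 2, nat_lit 2], (nat_lit 1), (nat_lit 43)),
  ([nat_lit 1, nat_lit 1, nat_lit 0, nat_lit 0], (nat_lit 1), (nat_lit 24)),
  ([nat_lit 1, nat_lit 2], (nat_lit 1), (nat_lit 2049)),
  ([], (nat_lit 1), (nat_lit 2096)),
  ([nat_lit 2, nat_lit 0], (nat_lit 2), (nat_lit 1)),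
  ([nat_lit 0, nat_lit 2, nat_lit 1, nat_lit 2], (nat_lit 1), (nat_lit 43)),
  ([nat_lit 0, nat_lit 0], (nat_lit 1), (nat_lit 51)),
  ([nat_lit 0, nat_lit 0], (nat_lit 1), (nat_lit 2073)),
  ([nat_lit 1, nat_lit 0], (nat_lit 1), (nat_lit 2090)),
  ([nat_lit 2, nat_lit 0, nat_lit 0, nat_lit 2], (nat_lit 1), (nat_lit 26)),
  ([nat_lit 0, nat_lit 2, nat_lit 0], (nat_lit 1), (nat_lit 26)),
  ([nat_lit 0, nat_lit 2, nat_lit 0], (nat_lit 1), (nat_lit 24)),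
  ([nat_lit 0, nat_lit 1, nat_lit 2], (nat_lit 1), (nat_lit 43)),
  ([nat_lit 0], (nat_lit 1), (nat_lit 0)),
  ([nat_lit 0, nat_lit 0], (nat_lit 1), (nat_lit 2098)),
  ([nat_lit 0, nat_lit 0], (nat_lit 1), (nat_lit 24)),
  ([nat_lit 1, nat_lit 1, nat_lit 0], (nat_lit 1), (nat_lit 2096)),
  ([nat_lit 2, nat_lit 2], (nat_lit 1), (nat_lit 49)),
  ([nat_lit 2, nat_lit 2, nat_lit 0, nat_lit 0], (nat_lit 1), (nat_lit 2075)),
  ([nat_lit 1, nat_lit 2], (nat_lit 1), (nat_lit 2098)),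
  ([nat_lit 2, nat_lit 0], (nat_lit 1), (nat_lit 2090)),
  ([nat_lit 1, nat_lit 1, nat_lit 0], (nat_lit 1), (nat_lit 26)),
  ([nat_lit 0], (nat_lit 2), (nat_lit 2064)),
  ([], (nat_lit 1), (nat_lit 26)),
  ([nat_lit 0, nat_lit 0, nat_lit 2], (nat_lit 1), (nat_lit 24)),
  ([nat_lit 0, nat_lit 2, nat_lit 0], (nat_lit 1), (nat_lit 41)),
  ([nat_lit 1, nat_lit 0], (nat_lit 1), (nat_lit 2096)),
  ([nat_lit 0, nat_lit 1, nat_lit 0], (nat_lit 2), (nat_lit 35)),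
  ([nat_lit 0, nat_lit 0, nat_lit 1], (nat_lit 2), (nat_lit 2)),
  ([nat_lit 2, nat_lit 0, nat_lit 0], (nat_lit 1), (nat_lit 2088)),
  ([], (nat_lit 1), (nat_lit 24)),
  ([nat_lit 0, nat_lit 0, nat_lit 2, nat_lit 0, nat_lit 0], (nat_lit 1), (nat_lit 24)),
  ([nat_lit 1, nat_lit 2], (nat_lit 1), (nat_lit 2073)),
  ([nat_lit 2, nat_lit 1, nat_lit 0], (nat_lit 1), (nat_lit 24)),
  ([nat_lit 2, nat_lit 0, nat_lit 1, nat_lit 2], (nat_lit 1), (nat_lit 2088)),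
  ([], (nat_lit 2), (nat_lit 2105)),
  ([nat_lit 1, nat_lit 0, nat_lit 2, nat_lit 2], (nat_lit 1), (nat_lit 24)),
  ([nat_lit 1], (nat_lit 2), (nat_lit 35)),
  ([nat_lit 0, nat_lit 1, nat_lit 1], (nat_lit 2), (nat_lit 33)),
  ([nat_lit 1, nat_lit 1, nat_lit 2], (nat_lit 1), (nat_lit 2096)),
  ([nat_lit 2, nat_lit 0, nat_lit 2], (nat_lit 1), (nat_lit 2090)),
  ([nat_lit 1, nat_lit 0], (nat_lit 1), (nat_lit 2075)),
  ([nat_lit 0, nat_lit 1, nat_lit 0], (nat_lit 2), (nat_lit 58)),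
  ([nat_lit 1, nat_lit 0, nat_lit 2], (nat_lit 1), (nat_lit 26)),
  ([nat_lit 1], (nat_lit 2), (nat_lit 26)),
  ([nat_lit 2, nat_lit 0], (nat_lit 1), (nat_lit 2075)),
  ([nat_lit 2, nat_lit 0], (nat_lit 1), (nat_lit 2090)),
  ([nat_lit 0, nat_lit 0, nat_lit 2, nat_lit 2], (nat_lit 1), (nat_lit 49)),
  ([nat_lit 1, nat_lit 0], (nat_lit 1), (nat_lit 2090)),
  ([nat_lit 1, nat_lit 0], (nat_lit 2), (nat_lit 42)),
  ([nat_lit 2, nat_lit 2, nat_lit 0], (nat_lit 1), (nat_lit 2088)),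
  ([], (nat_lit 1), (nat_lit 2049)),
  ([nat_lit 2, nat_lit 1], (nat_lit 2), (nat_lit 2090)),
  ([nat_lit 0], (nat_lit 1), (nat_lit 0)),
  ([nat_lit 1, nat_lit 2, nat_lit 2], (nat_lit 1), (nat_lit 0)),
  ([nat_lit 0], (nat_lit 1), (nat_lit 0)),
  ([nat_lit 0, nat_lit 0], (nat_lit 1), (nat_lit 2096)),
  ([nat_lit 0, nat_lit 0], (nat_lit 1), (nat_lit 26)),
  ([nat_lit 0, nat_lit 1, nat_lit 2], (nat_lit 1), (nat_lit 43)),
  ([nat_lit 0, nat_lit 0, nat_lit 2, nat_lit 0], (nat_lit 1), (nat_lit 2073)),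
  ([nat_lit 1, nat_lit 0, nat_lit 0, nat_lit 2], (nat_lit 1), (nat_lit 2096)),
  ([nat_lit 0, nat_lit 0, nat_lit 2, nat_lit 0], (nat_lit 2), (nat_lit 2106)),
  ([nat_lit 1, nat_lit 2], (nat_lit 1), (nat_lit 2096)),
  ([nat_lit 0, nat_lit 0, nat_lit 2], (nat_lit 1), (nat_lit 2088)),
  ([nat_lit 0, nat_lit 2], (nat_lit 1), (nat_lit 2051)),
  ([nat_lit 0, nat_lit 1, nat_lit 2], (nat_lit 1), (nat_lit 2073)),
  ([nat_lit 0, nat_lit 2, nat_lit 0, nat_lit 0], (nat_lit 1), (nat_lit 0)),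
  ([nat_lit 0], (nat_lit 1), (nat_lit 0)),
  ([nat_lit 0, nat_lit 2, nat_lit 0], (nat_lit 1), (nat_lit 41)),
  ([nat_lit 0, nat_lit 2, nat_lit 0], (nat_lit 1), (nat_lit 43)),
  ([nat_lit 0, nat_lit 2, nat_lit 2], (nat_lit 1), (nat_lit 51)),
  ([nat_lit 2, nat_lit 0], (nat_lit 1), (nat_lit 2075)),
  ([nat_lit 1, nat_lit 0, nat_lit 2], (nat_lit 1), (nat_lit 2073)),
  ([nat_lit 0], (nat_lit 1), (nat_lit 0)),
  ([], (nat_lit 1), (nat_lit 2051)),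
  ([nat_lit 2, nat_lit 0, nat_lit 0], (nat_lit 1), (nat_lit 43)),
  ([nat_lit 0, nat_lit 2, nat_lit 1], (nat_lit 2), (nat_lit 2072)),
  ([nat_lit 0, nat_lit 0, nat_lit 1, nat_lit 2], (nat_lit 1), (nat_lit 26)),
  ([], (nat_lit 1), (nat_lit 41)),
  ([nat_lit 1, nat_lit 2], (nat_lit 1), (nat_lit 2051)),
  ([nat_lit 0, nat_lit 1, nat_lit 0], (nat_lit 1), (nat_lit 41)),
  ([nat_lit 1, nat_lit 0], (nat_lit 1), (nat_lit 2075)),
  ([], (nat_lit 2), (nat_lit 9)),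
  ([nat_lit 0, nat_lit 1, nat_lit 1], (nat_lit 2), (nat_lit 35)),
  ([nat_lit 0, nat_lit 2, nat_lit 0, nat_lit 0], (nat_lit 1), (nat_lit 0)),
  ([nat_lit 2, nat_lit 1, nat_lit 0], (nat_lit 1), (nat_lit 41)),
  ([nat_lit 0, nat_lit 2, nat_lit 2], (nat_lit 1), (nat_lit 24)),
  ([nat_lit 0, nat_lit 0, nat_lit 1, nat_lit 2], (nat_lit 1), (nat_lit 43)),
  ([nat_lit 0, nat_lit 0, nat_lit 1, nat_lit 2], (nat_lit 1), (nat_lit 2075)),
  ([nat_lit 0, nat_lit 2], (nat_lit 1), (nat_lit 2088)),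
  ([nat_lit 0, nat_lit 2], (nat_lit 1), (nat_lit 26)),
  ([nat_lit 0], (nat_lit 2), (nat_lit 2051)),
  ([nat_lit 2, nat_lit 0, nat_lit 2], (nat_lit 1), (nat_lit 0)),
  ([nat_lit 1, nat_lit 1, nat_lit 2], (nat_lit 1), (nat_lit 49)),
  ([nat_lit 1, nat_lit 0], (nat_lit 2), (nat_lit 2090)),
  ([nat_lit 2, nat_lit 2], (nat_lit 1), (nat_lit 2075)),
  ([nat_lit 0, nat_lit 0], (nat_lit 1), (nat_lit 49)),
  ([nat_lit 0, nat_lit 0], (nat_lit 1), (nat_lit 2075)),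
  ([nat_lit 0, nat_lit 1], (nat_lit 2), (nat_lit 10)),
  ([nat_lit 0, nat_lit 2, nat_lit 0], (nat_lit 2), (nat_lit 2058)),
  ([nat_lit 1, nat_lit 2], (nat_lit 1), (nat_lit 2088)),
  ([nat_lit 2, nat_lit 2, nat_lit 0, nat_lit 0], (nat_lit 1), (nat_lit 2073)),
  ([nat_lit 2, nat_lit 0, nat_lit 0], (nat_lit 1), (nat_lit 2073)),
  ([], (nat_lit 1), (nat_lit 43)),
  ([nat_lit 1, nat_lit 1, nat_lit 0], (nat_lit 1), (nat_lit 2096)),
  ([nat_lit 2, nat_lit 2], (nat_lit 1), (nat_lit 49)),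
  ([nat_lit 0, nat_lit 0, nat_lit 2, nat_lit 0], (nat_lit 1), (nat_lit 49)),
  ([nat_lit 1, nat_lit 2, nat_lit 0], (nat_lit 2), (nat_lit 2105)),
  ([nat_lit 0, nat_lit 0, nat_lit 2], (nat_lit 1), (nat_lit 2073)),
  ([nat_lit 1, nat_lit 1, nat_lit 0], (nat_lit 1), (nat_lit 26))]
noncomputable def tEW : List (List ℕ) := [[nat_lit 0, nat_lit 3, nat_lit 6, nat_lit 0, nat_lit 8, nat_lit 0, nat_lit 7, nat_lit 0, nat_lit 3],
  [nat_lit 10]]
noncomputable def tEM : List (List ℕ) := [[nat_lit 64, nat_lit 128, nat_lit 16384, nat_lit 32768, nat_lit 262144, nat_lit 524288, nat_lit 256, nat_lit 512, nat_lit 1, nat_lit 2, nat_lit 1024, nat_lit 2048, nat_lit 4, nat_lit 8, nat_lit 4096, nat_lit 8192, nat_lit 16, nat_lit 32, nat_lit 65536, nat_lit 131072],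
  [nat_lit 1, nat_lit 3, nat_lit 4, nat_lit 12, nat_lit 16, nat_lit 48, nat_lit 64, nat_lit 192, nat_lit 256, nat_lit 768, nat_lit 1024, nat_lit 3072, nat_lit 4096, nat_lit 12288, nat_lit 16384, nat_lit 49152, nat_lit 65536, nat_lit 196608, nat_lit 262144, nat_lit 786432]]
noncomputable def tEWm : List ℕ := [nat_lit 2, nat_lit 0, nat_lit 8, nat_lit 0, nat_lit 32, nat_lit 0, nat_lit 128, nat_lit 0, nat_lit 512, nat_lit 0, nat_lit 2048, nat_lit 0, nat_lit 8192, nat_lit 0, nat_lit 32768, nat_lit 0, nat_lit 131072, nat_lit 0, nat_lit 524288, nat_lit 0]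
noncomputable def tELa : List ℕ := []
noncomputable def tERa : List ℕ := [nat_lit 0, nat_lit 0, nat_lit 0, nat_lit 0, nat_lit 0, nat_lit 0, nat_lit 0, nat_lit 0, nat_lit 0, nat_lit 0, nat_lit 0, nat_lit 0, nat_lit 0, nat_lit 0, nat_lit 0, nat_lit 0, nat_lit 0, nat_lit 0, nat_lit 0, nat_lit 0]
noncomputable def tEZ : List ℕ := [nat_lit 2, nat_lit 0, nat_lit 8, nat_lit 0, nat_lit 32, nat_lit 0, nat_lit 128, nat_lit 0, nat_lit 512, nat_lit 0, nat_lit 2048, nat_lit 0, nat_lit 8192, nat_lit 0, nat_lit 32768, nat_lit 0, nat_lit 131072, nat_lit 0, nat_lit 524288, nat_lit 0]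
noncomputable def tEC : List (List ℕ × ℕ × ℕ) := [([], (nat_lit 0), (nat_lit 0))]
noncomputable def tBW : List (List ℕ) := [[nat_lit 3, nat_lit 3, nat_lit 3, nat_lit 3],
  [nat_lit 7, nat_lit 0, nat_lit 2, nat_lit 6, nat_lit 3, nat_lit 4],
  [nat_lit 6, nat_lit 9, nat_lit 4, nat_lit 7, nat_lit 3, nat_lit 7, nat_lit 9],
  [nat_lit 6, nat_lit 5, nat_lit 6, nat_lit 3, nat_lit 6, nat_lit 9],
  [nat_lit 7, nat_lit 2, nat_lit 6, nat_lit 3, nat_lit 3, nat_lit 3, nat_lit 9],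
  [nat_lit 0, nat_lit 1, nat_lit 4, nat_lit 6, nat_lit 0, nat_lit 3, nat_lit 8, nat_lit 0, nat_lit 9, nat_lit 8, nat_lit 5],
  [nat_lit 0, nat_lit 9]]
noncomputable def tBM : List (List ℕ) := [[nat_lit 657400, nat_lit 985436, nat_lit 1044802, nat_lit 348803, nat_lit 817421, nat_lit 302598, nat_lit 952099, nat_lit 510257, nat_lit 279446, nat_lit 557547, nat_lit 177355, nat_lit 251981, nat_lit 400530, nat_lit 730339, nat_lit 209341, nat_lit 70358, nat_lit 349204, nat_lit 698408, nat_lit 63860, nat_lit 24216],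
  [nat_lit 835840, nat_lit 279040, nat_lit 132328, nat_lit 198780, nat_lit 14460, nat_lit 7316, nat_lit 209020, nat_lit 69780, nat_lit 835585, nat_lit 278530, nat_lit 140328, nat_lit 211004, nat_lit 140512, nat_lit 211056, nat_lit 33539, nat_lit 49409, nat_lit 211020, nat_lit 72836, nat_lit 786689, nat_lit 262658],
  [nat_lit 369527, nat_lit 717209, nat_lit 905558, nat_lit 418475, nat_lit 649260, nat_lit 949300, nat_lit 348605, nat_lit 697046, nat_lit 519196, nat_lit 619556, nat_lit 897695, nat_lit 447461, nat_lit 898, nat_lit 451, nat_lit 877529, nat_lit 438638, nat_lit 389882, nat_lit 676703, nat_lit 975932, nat_lit 489492],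
  [nat_lit 775682, nat_lit 370945, nat_lit 1027198, nat_lit 448747, nat_lit 748777, nat_lit 956566, nat_lit 898282, nat_lit 519319, nat_lit 88, nat_lit 244, nat_lit 419038, nat_lit 1046629, nat_lit 908509, nat_lit 697447, nat_lit 497409, nat_lit 879107, nat_lit 351334, nat_lit 976057, nat_lit 441857, nat_lit 1004803],
  [nat_lit 795869, nat_lit 974948, nat_lit 350927, nat_lit 498059, nat_lit 180536, nat_lit 351015, nat_lit 552425, nat_lit 833430, nat_lit 733077, nat_lit 399999, nat_lit 975280, nat_lit 182113, nat_lit 632792, nat_lit 103951, nat_lit 477709, nat_lit 539092, nat_lit 222678, nat_lit 266202, nat_lit 8154, nat_lit 889359],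
  [nat_lit 281134, nat_lit 100511, nat_lit 696263, nat_lit 753478, nat_lit 480493, nat_lit 26411, nat_lit 1010403, nat_lit 807205, nat_lit 808575, nat_lit 589718, nat_lit 549931, nat_lit 671298, nat_lit 810273, nat_lit 670798, nat_lit 655126, nat_lit 960045, nat_lit 671718, nat_lit 69779, nat_lit 293420, nat_lit 365200],
  [nat_lit 897244, nat_lit 675940, nat_lit 517586, nat_lit 4019, nat_lit 518725, nat_lit 517582, nat_lit 954398, nat_lit 516155, nat_lit 956452, nat_lit 619548, nat_lit 897572, nat_lit 676124, nat_lit 317818, nat_lit 12163, nat_lit 994042, nat_lit 730489, nat_lit 378617, nat_lit 444794, nat_lit 53123, nat_lit 240378]]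
noncomputable def tBLa : List ℕ := [nat_lit 56, nat_lit 916, nat_lit 1365, nat_lit 2370, nat_lit 8212, nat_lit 53719, nat_lit 65929, nat_lit 131358, nat_lit 266711, nat_lit 545088, nat_lit 4382, nat_lit 8343]
noncomputable def tBRa : List ℕ := [nat_lit 0, nat_lit 0, nat_lit 0, nat_lit 0, nat_lit 0, nat_lit 1, nat_lit 0, nat_lit 2064, nat_lit 0, nat_lit 2066, nat_lit 4, nat_lit 8, nat_lit 1024, nat_lit 16, nat_lit 0, nat_lit 3120, nat_lit 2128, nat_lit 128, nat_lit 3344, nat_lit 1536]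
noncomputable def tBZ : List ℕ := [nat_lit 0, nat_lit 0, nat_lit 0, nat_lit 0, nat_lit 0, nat_lit 28, nat_lit 0, nat_lit 0, nat_lit 0, nat_lit 339, nat_lit 27, nat_lit 348, nat_lit 0, nat_lit 0, nat_lit 0, nat_lit 0, nat_lit 16467, nat_lit 16402, nat_lit 94, nat_lit 16396]
noncomputable def tBC : List (List ℕ × ℕ × ℕ) := [([], (nat_lit 0), (nat_lit 6)),
  ([], (nat_lit 0), (nat_lit 16396)),
  ([], (nat_lit 0), (nat_lit 16476)),
  ([], (nat_lit 0), (nat_lit 16663)),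
  ([], (nat_lit 0), (nat_lit 16727)),
  ([], (nat_lit 0), (nat_lit 16392)),
  ([], (nat_lit 0), (nat_lit 16387)),
  ([], (nat_lit 0), (nat_lit 16717)),
  ([], (nat_lit 0), (nat_lit 75)),
  ([], (nat_lit 0), (nat_lit 343)),
  ([nat_lit 4], (nat_lit 0), (nat_lit 16720)),
  ([nat_lit 4], (nat_lit 0), (nat_lit 327))]
noncomputable def fP : List ℕ := [nat_lit 4357, nat_lit 16453, nat_lit 370654, nat_lit 657445, nat_lit 5, nat_lit 41931, nat_lit 131361, nat_lit 257, nat_lit 2145, nat_lit 65, nat_lit 74266, nat_lit 1051, nat_lit 33, nat_lit 665, nat_lit 8339, nat_lit 11, nat_lit 1, nat_lit 16, nat_lit 128, nat_lit 2]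
noncomputable def fQ : List ℕ := [nat_lit 65536, nat_lit 524288, nat_lit 65552, nat_lit 622592, nat_lit 131072, nat_lit 69632, nat_lit 66048, nat_lit 262144, nat_lit 65664, nat_lit 958464, nat_lit 165888, nat_lit 70400, nat_lit 65681, nat_lit 999424, nat_lit 66066, nat_lit 352928, nat_lit 156672, nat_lit 69824, nat_lit 191540, nat_lit 70616]
noncomputable def fN : List (List ℕ) := [[nat_lit 25787, nat_lit 60970, nat_lit 146909, nat_lit 114266, nat_lit 255777, nat_lit 146937, nat_lit 453030, nat_lit 178123, nat_lit 717920, nat_lit 79552, nat_lit 514342, nat_lit 720224, nat_lit 359021, nat_lit 978807, nat_lit 749448, nat_lit 720882, nat_lit 599697, nat_lit 531272, nat_lit 341184, nat_lit 70225],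
  [nat_lit 25724, nat_lit 60921, nat_lit 136864, nat_lit 109866, nat_lit 195407, nat_lit 109826, nat_lit 453931, nat_lit 195551, nat_lit 769910, nat_lit 117599, nat_lit 83161, nat_lit 115039, nat_lit 514511, nat_lit 318415, nat_lit 237563, nat_lit 718633, nat_lit 392143, nat_lit 262288, nat_lit 131216, nat_lit 376550],
  [nat_lit 893702, nat_lit 60970, nat_lit 198934, nat_lit 825293, nat_lit 255274, nat_lit 826018, nat_lit 541622, nat_lit 260238, nat_lit 539305, nat_lit 79552, nat_lit 809148, nat_lit 66943, nat_lit 623696, nat_lit 744985, nat_lit 1025426, nat_lit 289944, nat_lit 702327, nat_lit 755727, nat_lit 211368, nat_lit 466745],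
  [nat_lit 873165, nat_lit 60921, nat_lit 253942, nat_lit 816738, nat_lit 194886, nat_lit 250701, nat_lit 303095, nat_lit 949410, nat_lit 562070, nat_lit 117599, nat_lit 358649, nat_lit 569693, nat_lit 731835, nat_lit 997499, nat_lit 319149, nat_lit 568569, nat_lit 671795, nat_lit 764341, nat_lit 417012, nat_lit 123522],
  [nat_lit 784284, nat_lit 848039, nat_lit 714986, nat_lit 293667, nat_lit 708104, nat_lit 288951, nat_lit 326450, nat_lit 566620, nat_lit 981840, nat_lit 1015854, nat_lit 348717, nat_lit 12544, nat_lit 769404, nat_lit 85287, nat_lit 509040, nat_lit 824379, nat_lit 144711, nat_lit 764676, nat_lit 380190, nat_lit 638362],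
  [nat_lit 747220, nat_lit 791492, nat_lit 537248, nat_lit 330067, nat_lit 741975, nat_lit 737753, nat_lit 976427, nat_lit 254960, nat_lit 242468, nat_lit 171810, nat_lit 711933, nat_lit 592263, nat_lit 110377, nat_lit 136205, nat_lit 901798, nat_lit 13515, nat_lit 623249, nat_lit 685414, nat_lit 682178, nat_lit 245776],
  [nat_lit 996921, nat_lit 785972, nat_lit 593756, nat_lit 106756, nat_lit 595563, nat_lit 958797, nat_lit 447627, nat_lit 684636, nat_lit 589396, nat_lit 772824, nat_lit 499859, nat_lit 912517, nat_lit 1014661, nat_lit 148538, nat_lit 579316, nat_lit 166111, nat_lit 40161, nat_lit 309868, nat_lit 1044687, nat_lit 578994],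
  [nat_lit 751135, nat_lit 306207, nat_lit 417137, nat_lit 106764, nat_lit 410706, nat_lit 713034, nat_lit 447691, nat_lit 336117, nat_lit 589652, nat_lit 301809, nat_lit 833181, nat_lit 631970, nat_lit 293259, nat_lit 402461, nat_lit 230650, nat_lit 133343, nat_lit 691951, nat_lit 440940, nat_lit 303846, nat_lit 300437],
  [nat_lit 25664, nat_lit 60882, nat_lit 135338, nat_lit 108301, nat_lit 161023, nat_lit 84725, nat_lit 442369, nat_lit 128, nat_lit 645550, nat_lit 170815, nat_lit 1024, nat_lit 252906, nat_lit 1010862, nat_lit 259050, nat_lit 341994, nat_lit 564202, nat_lit 261502, nat_lit 1010688, nat_lit 173056, nat_lit 601748],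
  [nat_lit 3, nat_lit 2, nat_lit 6, nat_lit 10, nat_lit 18, nat_lit 34, nat_lit 408, nat_lit 651, nat_lit 723, nat_lit 512, nat_lit 2712, nat_lit 1171, nat_lit 4568, nat_lit 11593, nat_lit 45040, nat_lit 24754, nat_lit 66010, nat_lit 188592, nat_lit 531590, nat_lit 269660]]
noncomputable def fUW : List (List ℕ) := [[nat_lit 4, nat_lit 7, nat_lit 2, nat_lit 2, nat_lit 8, nat_lit 0, nat_lit 2, nat_lit 9, nat_lit 8, nat_lit 3, nat_lit 6, nat_lit 8, nat_lit 3, nat_lit 9, nat_lit 8, nat_lit 2, nat_lit 8, nat_lit 2],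
  [nat_lit 7, nat_lit 1, nat_lit 2, nat_lit 2, nat_lit 7, nat_lit 1, nat_lit 5, nat_lit 8, nat_lit 0, nat_lit 3, nat_lit 8, nat_lit 3, nat_lit 9, nat_lit 8, nat_lit 5, nat_lit 8, nat_lit 9, nat_lit 7, nat_lit 8, nat_lit 4],
  [nat_lit 6, nat_lit 5, nat_lit 7, nat_lit 0, nat_lit 7, nat_lit 0, nat_lit 3, nat_lit 8, nat_lit 3, nat_lit 8, nat_lit 1, nat_lit 9, nat_lit 8, nat_lit 3, nat_lit 6, nat_lit 8, nat_lit 5, nat_lit 0],
  [nat_lit 2, nat_lit 7, nat_lit 8, nat_lit 0, nat_lit 2, nat_lit 8, nat_lit 2, nat_lit 6, nat_lit 9, nat_lit 8, nat_lit 5, nat_lit 8, nat_lit 0, nat_lit 6, nat_lit 9, nat_lit 8, nat_lit 0, nat_lit 5, nat_lit 3],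
  [nat_lit 9, nat_lit 3, nat_lit 4, nat_lit 7, nat_lit 8, nat_lit 0, nat_lit 3, nat_lit 9, nat_lit 8, nat_lit 3, nat_lit 6, nat_lit 8, nat_lit 5, nat_lit 9, nat_lit 8, nat_lit 4, nat_lit 7, nat_lit 7],
  [nat_lit 1, nat_lit 8, nat_lit 0, nat_lit 5, nat_lit 8, nat_lit 9, nat_lit 8, nat_lit 0, nat_lit 5, nat_lit 8, nat_lit 1],
  [nat_lit 1, nat_lit 3, nat_lit 0, nat_lit 1, nat_lit 6, nat_lit 1, nat_lit 8, nat_lit 3, nat_lit 8, nat_lit 1, nat_lit 3, nat_lit 9, nat_lit 8, nat_lit 5, nat_lit 6, nat_lit 8, nat_lit 5, nat_lit 9, nat_lit 8],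
  [nat_lit 9, nat_lit 1, nat_lit 4, nat_lit 7, nat_lit 1, nat_lit 8, nat_lit 3, nat_lit 8, nat_lit 9, nat_lit 8, nat_lit 3, nat_lit 8, nat_lit 9, nat_lit 6, nat_lit 3, nat_lit 0],
  [nat_lit 4, nat_lit 7, nat_lit 1, nat_lit 4, nat_lit 6, nat_lit 8, nat_lit 0, nat_lit 2, nat_lit 8, nat_lit 1, nat_lit 6, nat_lit 9, nat_lit 8, nat_lit 5, nat_lit 8, nat_lit 9, nat_lit 2],
  [nat_lit 5, nat_lit 6, nat_lit 1, nat_lit 5, nat_lit 6, nat_lit 4, nat_lit 8, nat_lit 3, nat_lit 8, nat_lit 4, nat_lit 9, nat_lit 8, nat_lit 5, nat_lit 8, nat_lit 1, nat_lit 7, nat_lit 8, nat_lit 1],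
  [nat_lit 1, nat_lit 2, nat_lit 2, nat_lit 8, nat_lit 0, nat_lit 7, nat_lit 9, nat_lit 8, nat_lit 0, nat_lit 7, nat_lit 0, nat_lit 8, nat_lit 5, nat_lit 9, nat_lit 8, nat_lit 6, nat_lit 1, nat_lit 9],
  [nat_lit 0, nat_lit 6, nat_lit 0, nat_lit 1, nat_lit 7, nat_lit 8, nat_lit 0, nat_lit 5, nat_lit 9, nat_lit 8, nat_lit 5, nat_lit 8, nat_lit 9, nat_lit 6, nat_lit 5, nat_lit 7, nat_lit 8, nat_lit 0],
  [nat_lit 7, nat_lit 2, nat_lit 6, nat_lit 3, nat_lit 7, nat_lit 5, nat_lit 8, nat_lit 3, nat_lit 8, nat_lit 9, nat_lit 8, nat_lit 3, nat_lit 8, nat_lit 4, nat_lit 7, nat_lit 9],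
  [nat_lit 5, nat_lit 7, nat_lit 0, nat_lit 6, nat_lit 8, nat_lit 0, nat_lit 4, nat_lit 8, nat_lit 9, nat_lit 8, nat_lit 3, nat_lit 8, nat_lit 4, nat_lit 9, nat_lit 7],
  [nat_lit 0, nat_lit 8, nat_lit 0, nat_lit 2, nat_lit 8, nat_lit 9, nat_lit 8, nat_lit 3, nat_lit 8, nat_lit 0, nat_lit 8],
  []]
noncomputable def fUM : List (List ℕ) := [[nat_lit 1, nat_lit 2, nat_lit 6, nat_lit 8, nat_lit 31, nat_lit 38, nat_lit 72, nat_lit 216, nat_lit 349, nat_lit 989, nat_lit 1076, nat_lit 2487, nat_lit 4992, nat_lit 12060, nat_lit 19297, nat_lit 35468, nat_lit 74531, nat_lit 185185, nat_lit 348868, nat_lit 628763],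
  [nat_lit 1, nat_lit 3, nat_lit 5, nat_lit 9, nat_lit 19, nat_lit 32, nat_lit 65, nat_lit 141, nat_lit 333, nat_lit 655, nat_lit 1030, nat_lit 3202, nat_lit 4491, nat_lit 9577, nat_lit 17735, nat_lit 57474, nat_lit 69076, nat_lit 158539, nat_lit 284190, nat_lit 937946],
  [nat_lit 1, nat_lit 3, nat_lit 7, nat_lit 10, nat_lit 26, nat_lit 44, nat_lit 78, nat_lit 162, nat_lit 366, nat_lit 658, nat_lit 1110, nat_lit 3401, nat_lit 6693, nat_lit 10479, nat_lit 18509, nat_lit 57996, nat_lit 104936, nat_lit 175447, nat_lit 493445, nat_lit 804791],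
  [nat_lit 1, nat_lit 2, nat_lit 6, nat_lit 10, nat_lit 31, nat_lit 36, nat_lit 79, nat_lit 237, nat_lit 365, nat_lit 991, nat_lit 1049, nat_lit 2477, nat_lit 7883, nat_lit 11474, nat_lit 18565, nat_lit 35475, nat_lit 115297, nat_lit 187911, nat_lit 522424, nat_lit 736506],
  [nat_lit 1, nat_lit 3, nat_lit 4, nat_lit 11, nat_lit 30, nat_lit 37, nat_lit 68, nat_lit 250, nat_lit 317, nat_lit 824, nat_lit 1067, nat_lit 3450, nat_lit 7229, nat_lit 9070, nat_lit 18222, nat_lit 60981, nat_lit 114816, nat_lit 143402, nat_lit 412943, nat_lit 1022995],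
  [nat_lit 1, nat_lit 2, nat_lit 4, nat_lit 8, nat_lit 18, nat_lit 34, nat_lit 64, nat_lit 135, nat_lit 261, nat_lit 512, nat_lit 1035, nat_lit 2062, nat_lit 4568, nat_lit 8206, nat_lit 16441, nat_lit 32816, nat_lit 69274, nat_lit 132067, nat_lit 272973, nat_lit 535447],
  [nat_lit 1, nat_lit 2, nat_lit 5, nat_lit 9, nat_lit 19, nat_lit 33, nat_lit 64, nat_lit 141, nat_lit 258, nat_lit 553, nat_lit 1030, nat_lit 2100, nat_lit 5588, nat_lit 9577, nat_lit 17734, nat_lit 32787, nat_lit 93612, nat_lit 159508, nat_lit 284344, nat_lit 757572],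
  [nat_lit 1, nat_lit 2, nat_lit 4, nat_lit 8, nat_lit 16, nat_lit 34, nat_lit 64, nat_lit 139, nat_lit 267, nat_lit 512, nat_lit 1037, nat_lit 2052, nat_lit 4107, nat_lit 8665, nat_lit 16834, nat_lit 32784, nat_lit 66498, nat_lit 134324, nat_lit 269728, nat_lit 532384],
  [nat_lit 1, nat_lit 2, nat_lit 4, nat_lit 9, nat_lit 18, nat_lit 32, nat_lit 64, nat_lit 141, nat_lit 264, nat_lit 565, nat_lit 1031, nat_lit 2075, nat_lit 5465, nat_lit 8454, nat_lit 16681, nat_lit 32802, nat_lit 92513, nat_lit 134996, nat_lit 275050, nat_lit 711411],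
  [nat_lit 1, nat_lit 2, nat_lit 4, nat_lit 8, nat_lit 17, nat_lit 32, nat_lit 65, nat_lit 128, nat_lit 258, nat_lit 524, nat_lit 1024, nat_lit 2058, nat_lit 4182, nat_lit 8309, nat_lit 16500, nat_lit 32802, nat_lit 66802, nat_lit 132221, nat_lit 286827, nat_lit 570473],
  [nat_lit 1, nat_lit 2, nat_lit 4, nat_lit 8, nat_lit 17, nat_lit 33, nat_lit 64, nat_lit 128, nat_lit 257, nat_lit 519, nat_lit 1024, nat_lit 2061, nat_lit 4160, nat_lit 8205, nat_lit 16397, nat_lit 32819, nat_lit 66566, nat_lit 131327, nat_lit 262337, nat_lit 534667],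
  [nat_lit 1, nat_lit 2, nat_lit 4, nat_lit 8, nat_lit 16, nat_lit 33, nat_lit 64, nat_lit 128, nat_lit 256, nat_lit 523, nat_lit 1024, nat_lit 2055, nat_lit 4096, nat_lit 8262, nat_lit 16454, nat_lit 32787, nat_lit 65738, nat_lit 132245, nat_lit 263360, nat_lit 529677],
  [nat_lit 1, nat_lit 2, nat_lit 4, nat_lit 8, nat_lit 16, nat_lit 32, nat_lit 64, nat_lit 129, nat_lit 257, nat_lit 514, nat_lit 1025, nat_lit 2048, nat_lit 4103, nat_lit 8204, nat_lit 16396, nat_lit 32771, nat_lit 65583, nat_lit 131095, nat_lit 263385, nat_lit 526743],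
  [nat_lit 1, nat_lit 2, nat_lit 4, nat_lit 8, nat_lit 16, nat_lit 32, nat_lit 64, nat_lit 129, nat_lit 257, nat_lit 514, nat_lit 1024, nat_lit 2051, nat_lit 4108, nat_lit 8200, nat_lit 16392, nat_lit 32771, nat_lit 65591, nat_lit 131111, nat_lit 263213, nat_lit 527035],
  [nat_lit 1, nat_lit 2, nat_lit 4, nat_lit 8, nat_lit 16, nat_lit 32, nat_lit 64, nat_lit 128, nat_lit 256, nat_lit 512, nat_lit 1024, nat_lit 2048, nat_lit 4096, nat_lit 8192, nat_lit 16385, nat_lit 32771, nat_lit 65547, nat_lit 131076, nat_lit 262214, nat_lit 524700],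
  [nat_lit 1, nat_lit 2, nat_lit 4, nat_lit 8, nat_lit 16, nat_lit 32, nat_lit 64, nat_lit 128, nat_lit 256, nat_lit 512, nat_lit 1024, nat_lit 2048, nat_lit 4096, nat_lit 8192, nat_lit 16384, nat_lit 32768, nat_lit 65536, nat_lit 131072, nat_lit 262144, nat_lit 524288]]
noncomputable def fEW : List (List ℕ) := [[nat_lit 6],
  [nat_lit 0, nat_lit 1],
  [nat_lit 2, nat_lit 8, nat_lit 2, nat_lit 8],
  [nat_lit 0],
  [nat_lit 1],
  [nat_lit 2],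
  [nat_lit 3],
  [nat_lit 4],
  [nat_lit 5],
  [nat_lit 6],
  [nat_lit 7],
  [nat_lit 8],
  [nat_lit 9],
  []]
noncomputable def fEM : List (List ℕ) := [[nat_lit 996921, nat_lit 785972, nat_lit 593756, nat_lit 106756, nat_lit 595563, nat_lit 958797, nat_lit 447627, nat_lit 684636, nat_lit 589396, nat_lit 772824, nat_lit 499859, nat_lit 912517, nat_lit 1014661, nat_lit 148538, nat_lit 579316, nat_lit 166111, nat_lit 40161, nat_lit 309868, nat_lit 1044687, nat_lit 578994],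
  [nat_lit 428496, nat_lit 790549, nat_lit 592429, nat_lit 530056, nat_lit 438732, nat_lit 700815, nat_lit 24752, nat_lit 259858, nat_lit 905300, nat_lit 155837, nat_lit 287392, nat_lit 503421, nat_lit 258939, nat_lit 251927, nat_lit 698071, nat_lit 428107, nat_lit 292236, nat_lit 954974, nat_lit 109426, nat_lit 498503],
  [nat_lit 669812, nat_lit 35498, nat_lit 146755, nat_lit 200177, nat_lit 668156, nat_lit 668532, nat_lit 841176, nat_lit 904478, nat_lit 246301, nat_lit 152256, nat_lit 940613, nat_lit 236615, nat_lit 290676, nat_lit 504382, nat_lit 51046, nat_lit 703181, nat_lit 1042345, nat_lit 638362, nat_lit 380190, nat_lit 588623],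
  [nat_lit 25787, nat_lit 60970, nat_lit 146909, nat_lit 114266, nat_lit 255777, nat_lit 146937, nat_lit 453030, nat_lit 178123, nat_lit 717920, nat_lit 79552, nat_lit 514342, nat_lit 720224, nat_lit 359021, nat_lit 978807, nat_lit 749448, nat_lit 720882, nat_lit 599697, nat_lit 531272, nat_lit 341184, nat_lit 70225],
  [nat_lit 25724, nat_lit 60921, nat_lit 136864, nat_lit 109866, nat_lit 195407, nat_lit 109826, nat_lit 453931, nat_lit 195551, nat_lit 769910, nat_lit 117599, nat_lit 83161, nat_lit 115039, nat_lit 514511, nat_lit 318415, nat_lit 237563, nat_lit 718633, nat_lit 392143, nat_lit 262288, nat_lit 131216, nat_lit 376550],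
  [nat_lit 893702, nat_lit 60970, nat_lit 198934, nat_lit 825293, nat_lit 255274, nat_lit 826018, nat_lit 541622, nat_lit 260238, nat_lit 539305, nat_lit 79552, nat_lit 809148, nat_lit 66943, nat_lit 623696, nat_lit 744985, nat_lit 1025426, nat_lit 289944, nat_lit 702327, nat_lit 755727, nat_lit 211368, nat_lit 466745],
  [nat_lit 873165, nat_lit 60921, nat_lit 253942, nat_lit 816738, nat_lit 194886, nat_lit 250701, nat_lit 303095, nat_lit 949410, nat_lit 562070, nat_lit 117599, nat_lit 358649, nat_lit 569693, nat_lit 731835, nat_lit 997499, nat_lit 319149, nat_lit 568569, nat_lit 671795, nat_lit 764341, nat_lit 417012, nat_lit 123522],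
  [nat_lit 784284, nat_lit 848039, nat_lit 714986, nat_lit 293667, nat_lit 708104, nat_lit 288951, nat_lit 326450, nat_lit 566620, nat_lit 981840, nat_lit 1015854, nat_lit 348717, nat_lit 12544, nat_lit 769404, nat_lit 85287, nat_lit 509040, nat_lit 824379, nat_lit 144711, nat_lit 764676, nat_lit 380190, nat_lit 638362],
  [nat_lit 747220, nat_lit 791492, nat_lit 537248, nat_lit 330067, nat_lit 741975, nat_lit 737753, nat_lit 976427, nat_lit 254960, nat_lit 242468, nat_lit 171810, nat_lit 711933, nat_lit 592263, nat_lit 110377, nat_lit 136205, nat_lit 901798, nat_lit 13515, nat_lit 623249, nat_lit 685414, nat_lit 682178, nat_lit 245776],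
  [nat_lit 996921, nat_lit 785972, nat_lit 593756, nat_lit 106756, nat_lit 595563, nat_lit 958797, nat_lit 447627, nat_lit 684636, nat_lit 589396, nat_lit 772824, nat_lit 499859, nat_lit 912517, nat_lit 1014661, nat_lit 148538, nat_lit 579316, nat_lit 166111, nat_lit 40161, nat_lit 309868, nat_lit 1044687, nat_lit 578994],
  [nat_lit 751135, nat_lit 306207, nat_lit 417137, nat_lit 106764, nat_lit 410706, nat_lit 713034, nat_lit 447691, nat_lit 336117, nat_lit 589652, nat_lit 301809, nat_lit 833181, nat_lit 631970, nat_lit 293259, nat_lit 402461, nat_lit 230650, nat_lit 133343, nat_lit 691951, nat_lit 440940, nat_lit 303846, nat_lit 300437],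
  [nat_lit 25664, nat_lit 60882, nat_lit 135338, nat_lit 108301, nat_lit 161023, nat_lit 84725, nat_lit 442369, nat_lit 128, nat_lit 645550, nat_lit 170815, nat_lit 1024, nat_lit 252906, nat_lit 1010862, nat_lit 259050, nat_lit 341994, nat_lit 564202, nat_lit 261502, nat_lit 1010688, nat_lit 173056, nat_lit 601748],
  [nat_lit 3, nat_lit 2, nat_lit 6, nat_lit 10, nat_lit 18, nat_lit 34, nat_lit 408, nat_lit 651, nat_lit 723, nat_lit 512, nat_lit 2712, nat_lit 1171, nat_lit 4568, nat_lit 11593, nat_lit 45040, nat_lit 24754, nat_lit 66010, nat_lit 188592, nat_lit 531590, nat_lit 269660],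
  [nat_lit 1, nat_lit 2, nat_lit 4, nat_lit 8, nat_lit 16, nat_lit 32, nat_lit 64, nat_lit 128, nat_lit 256, nat_lit 512, nat_lit 1024, nat_lit 2048, nat_lit 4096, nat_lit 8192, nat_lit 16384, nat_lit 32768, nat_lit 65536, nat_lit 131072, nat_lit 262144, nat_lit 524288]]
noncomputable def fT : FT := (.split (.split (.split (.split (.split (.split (.split (.split (.split (.split (.split (.split (.split (.split (.split (.split (.split (.split (.split (.split (.leaf ([], (nat_lit 0), (nat_lit 0))) (.leaf ([nat_lit 1, nat_lit 10], (nat_lit 2), (nat_lit 0)))) (.fuse [nat_lit 4] (.leaf ([nat_lit 2, nat_lit 4, nat_lit 0], (nat_lit 2), (nat_lit 0))))) (.fuse [nat_lit 3] (.fuse [nat_lit 6] (.leaf ([nat_lit 0, nat_lit 2, nat_lit 8, nat_lit 2], (nat_lit 1), (nat_lit 0)))))) (.split (.fuse [nat_lit 4] (.fuse [nat_lit 8] (.leaf ([nat_lit 1, nat_lit 10, nat_lit 2], (nat_lit 1), (nat_lit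 0))))) (.fuse [nat_lit 4] (.fuse [nat_lit 8] (.leaf ([nat_lit 3, nat_lit 10], (nat_lit 1), (nat_lit 0))))))) (.fuse [nat_lit 4] (.fuse [nat_lit 4, nat_lit 2] (.fuse [nat_lit 8] (.fuse [nat_lit 10] (.leaf ([nat_lit 5, nat_lit 2, nat_lit 10], (nat_lit 1), (nat_lit 0)))))))) (.split (.fuse [nat_lit 2] (.fuse [nat_lit 4] (.fuse [nat_lit 7] (.fuse [nat_lit 11] (.leaf ([nat_lit 5, nat_lit 12, nat_lit 2], (nat_lit 1), (nat_lit 0))))))) (.fuse [nat_lit 4] (.fuse [nat_lit 2] (.fuse [nat_lit 8] (.fuse [nat_lit 11] (.leaf ([nat_lit 8, nat_lit 8, nat_lit 0], (nat_lit 1), (nat_lit 0))))))))) (.split (.split (.fuse [nat_lit 3] (.fuse [nat_lit 4] (.split (.fuse [nat_lit 9] (.leaf ([nat_lit 1, nat_lit 8, nat_lit 0], (nat_lit 2), (nat_lit 0)))) (.fuse [nat_lit 9] (.leaf ([nat_lit 1, nat_lit 2, nat_lit 8], (nat_lit 1), (nat_lit 0))))))) (.fuse [nat_lit 4] (.fuse [nat_lit 2] (.fuse [nat_lit 8]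 (.fuse [nat_lit 10] (.leaf ([nat_lit 5, nat_lit 11, nat_lit 6, nat_lit 12], (nat_lit 2), (nat_lit 0)))))))) (.split (.fuse [nat_lit 3] (.fuse [nat_lit 3, nat_lit 0] (.fuse [nat_lit 7] (.fuse [nat_lit 11] (.leaf ([nat_lit 0, nat_lit 1, nat_lit 2, nat_lit 8, nat_lit 4, nat_lit 0], (nat_lit 2), (nat_lit 0))))))) (.fuse [nat_lit 4] (.fuse [nat_lit 3] (.fuse [nat_lit 8] (.fuse [nat_lit 11] (.leaf ([nat_lit 0, nat_lit 11, nat_lit 5, nat_lit 0, nat_lit 12], (nat_lit 2), (nat_lit 0)))))))))) (.fuse [nat_lit 4] (.fuse [nat_lit 2] (.fuse [nat_lit 4, nat_lit 3] (.fuse [nat_lit 8] (.fuse [nat_lit 8, nat_lit 7] (.split (.fuse [nat_lit 13] (.leaf ([nat_lit 10, nat_lit 7], (nat_lit 1), (nat_lit 0)))) (.fuse [nat_lit 13] (.leaf ([nat_lit 2, nat_lit 0, nat_lit 5, nat_lit 0], (nat_lit 2), (nat_lit 0))))))))))) (.split (.fuse [nat_lit 3] (.fuse [nat_lit 4] (.fuse [nat_lit 4, nat_lit 3, nat_lit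 1] (.fuse [nat_lit 8] (.fuse [nat_lit 5] (.fuse [nat_lit 9] (.fuse [nat_lit 13] (.leaf ([nat_lit 2, nat_lit 1, nat_lit 3, nat_lit 0, nat_lit 6], (nat_lit 2), (nat_lit 0)))))))))) (.fuse [nat_lit 4] (.split (.split (.fuse [nat_lit 6] (.fuse [nat_lit 8] (.fuse [nat_lit 9] (.fuse [nat_lit 10] (.leaf ([nat_lit 2, nat_lit 10, nat_lit 2, nat_lit 6, nat_lit 12], (nat_lit 2), (nat_lit 0))))))) (.fuse [nat_lit 6] (.fuse [nat_lit 8] (.fuse [nat_lit 9] (.split (.leaf ([nat_lit 2], (nat_lit 1), (nat_lit 0))) (.leaf ([nat_lit 10, nat_lit 3], (nat_lit 2), (nat_lit 0)))))))) (.split (.fuse [nat_lit 6] (.fuse [nat_lit 8] (.fuse [nat_lit 9] (.fuse [nat_lit 11] (.leaf ([nat_lit 6, nat_lit 7, nat_lit 11, nat_lit 6, nat_lit 10], (nat_lit 2), (nat_lit 0))))))) (.fuse [nat_lit 6] (.fuse [nat_lit 8] (.fuse [nat_lit 9] (.fuse [nat_lit 11] (.leaf ([nat_lit 1, nat_lit 2, nat_lit 0, nat_lit 7, nat_lit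 12], (nat_lit 2), (nat_lit 0)))))))))))) (.fuse [nat_lit 4] (.fuse [nat_lit 4, nat_lit 3] (.split (.fuse [nat_lit 8] (.fuse [nat_lit 8, nat_lit 6] (.fuse [nat_lit 11] (.fuse [nat_lit 10] (.fuse [nat_lit 13] (.split (.leaf ([nat_lit 0, nat_lit 2, nat_lit 0, nat_lit 8], (nat_lit 1), (nat_lit 0))) (.leaf ([nat_lit 2, nat_lit 8, nat_lit 10, nat_lit 8], (nat_lit 2), (nat_lit 0))))))))) (.fuse [nat_lit 8] (.fuse [nat_lit 8, nat_lit 6] (.fuse [nat_lit 11] (.fuse [nat_lit 10] (.fuse [nat_lit 13] (.fuse [nat_lit 11, nat_lit 10, nat_lit 9] (.leaf ([nat_lit 7, nat_lit 2, nat_lit 0, nat_lit 2, nat_lit 10], (nat_lit 2), (nat_lit 0))))))))))))) (.split (.split (.split (.fuse [nat_lit 2] (.fuse [nat_lit 4] (.fuse [nat_lit 3] (.fuse [nat_lit 7] (.fuse [nat_lit 8] (.split (.fuse [nat_lit 12] (.leaf ([nat_lit 0, nat_lit 12, nat_lit 2], (nat_lit 1), (nat_lit 0)))) (.fuse [nat_lit 12] (.leaf ([nat_lit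 4, nat_lit 7, nat_lit 12, nat_lit 10, nat_lit 3], (nat_lit 2), (nat_lit 0)))))))))) (.fuse [nat_lit 4] (.fuse [nat_lit 4, nat_lit 3] (.fuse [nat_lit 9, nat_lit 8, nat_lit 7, nat_lit 6, nat_lit 3, nat_lit 0] (.fuse [nat_lit 8] (.fuse [nat_lit 7] (.split (.fuse [nat_lit 13] (.leaf ([nat_lit 0, nat_lit 2, nat_lit 10], (nat_lit 1), (nat_lit 0)))) (.fuse [nat_lit 13] (.leaf ([nat_lit 2, nat_lit 4, nat_lit 0, nat_lit 4, nat_lit 7], (nat_lit 2), (nat_lit 0))))))))))) (.split (.fuse [nat_lit 3] (.fuse [nat_lit 2] (.fuse [nat_lit 4] (.fuse [nat_lit 8] (.fuse [nat_lit 7] (.fuse [nat_lit 9] (.fuse [nat_lit 13] (.leaf ([nat_lit 0, nat_lit 4, nat_lit 12, nat_lit 10, nat_lit 3], (nat_lit 2), (nat_lit 0)))))))))) (.fuse [nat_lit 4] (.fuse [nat_lit 4, nat_lit 1] (.fuse [nat_lit 3] (.fuse [nat_lit 7] (.fuse [nat_lit 7, nat_lit 6] (.fuse [nat_lit 9] (.fuse [nat_lit 12] (.leaf ([nat_lit 0, nat_lit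 1, nat_lit 6, nat_lit 10, nat_lit 8], (nat_lit 2), (nat_lit 0)))))))))))) (.fuse [nat_lit 4] (.fuse [nat_lit 4, nat_lit 3] (.fuse [nat_lit 4, nat_lit 3, nat_lit 2] (.fuse [nat_lit 8] (.fuse [nat_lit 8, nat_lit 6] (.fuse [nat_lit 11] (.fuse [nat_lit 10] (.fuse [nat_lit 13] (.fuse [nat_lit 13, nat_lit 12] (.leaf ([nat_lit 11, nat_lit 3, nat_lit 0], (nat_lit 1), (nat_lit 0)))))))))))))) (.fuse [nat_lit 4] (.split (.fuse [nat_lit 3] (.split (.split (.fuse [nat_lit 6] (.fuse [nat_lit 8] (.fuse [nat_lit 10] (.fuse [nat_lit 11] (.fuse [nat_lit 13] (.split (.leaf ([nat_lit 6, nat_lit 0, nat_lit 2], (nat_lit 1), (nat_lit 0))) (.leaf ([nat_lit 1, nat_lit 12, nat_lit 2, nat_lit 5, nat_lit 12], (nat_lit 2), (nat_lit 0))))))))) (.fuse [nat_lit 6] (.fuse [nat_lit 8] (.fuse [nat_lit 10] (.fuse [nat_lit 11] (.fuse [nat_lit 13] (.fuse [nat_lit 11, nat_lit 10, nat_lit 9] (.leaf ([nat_lit 2,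 nat_lit 3, nat_lit 2, nat_lit 10], (nat_lit 2), (nat_lit 0)))))))))) (.fuse [nat_lit 4, nat_lit 2] (.fuse [nat_lit 6] (.fuse [nat_lit 8] (.fuse [nat_lit 10] (.fuse [nat_lit 11] (.fuse [nat_lit 13] (.fuse [nat_lit 12] (.leaf ([nat_lit 3, nat_lit 0, nat_lit 2, nat_lit 2], (nat_lit 1), (nat_lit 0)))))))))))) (.fuse [nat_lit 4, nat_lit 2] (.split (.fuse [nat_lit 3] (.fuse [nat_lit 8] (.fuse [nat_lit 6] (.fuse [nat_lit 11] (.fuse [nat_lit 11, nat_lit 10] (.fuse [nat_lit 12] (.fuse [nat_lit 13] (.leaf ([nat_lit 0, nat_lit 1, nat_lit 2, nat_lit 11, nat_lit 7, nat_lit 10], (nat_lit 1), (nat_lit 0)))))))))) (.split (.fuse [nat_lit 8] (.fuse [nat_lit 6] (.fuse [nat_lit 11] (.fuse [nat_lit 11, nat_lit 10] (.fuse [nat_lit 12] (.split (.leaf ([nat_lit 0, nat_lit 2], (nat_lit 1), (nat_lit 0))) (.leaf ([nat_lit 0, nat_lit 5, nat_lit 0, nat_lit 3], (nat_lit 2), (nat_lit 0))))))))) (.fuse [nat_lit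 8] (.fuse [nat_lit 6] (.fuse [nat_lit 11] (.fuse [nat_lit 11, nat_lit 10] (.fuse [nat_lit 12] (.fuse [nat_lit 11, nat_lit 10, nat_lit 9] (.leaf ([nat_lit 6, nat_lit 0, nat_lit 6, nat_lit 12, nat_lit 10], (nat_lit 2), (nat_lit 0))))))))))))))) (.fuse [nat_lit 4] (.fuse [nat_lit 8] (.fuse [nat_lit 4, nat_lit 3] (.fuse [nat_lit 5] (.fuse [nat_lit 8, nat_lit 6] (.fuse [nat_lit 10] (.split (.fuse [nat_lit 10, nat_lit 9] (.fuse [nat_lit 13] (.fuse [nat_lit 12] (.split (.split (.leaf ([nat_lit 0, nat_lit 7, nat_lit 2], (nat_lit 1), (nat_lit 0))) (.leaf ([nat_lit 1, nat_lit 8, nat_lit 6, nat_lit 10, nat_lit 11, nat_lit 12], (nat_lit 2), (nat_lit 0)))) (.fuse [nat_lit 10, nat_lit 9, nat_lit 8, nat_lit 7, nat_lit 6, nat_lit 5, nat_lit 3, nat_lit 2] (.leaf ([nat_lit 2, nat_lit 2, nat_lit 12, nat_lit 10], (nat_lit 2), (nat_lit 0)))))))) (.fuse [nat_lit 10, nat_lit 9] (.fuse [nat_lit 13]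 (.fuse [nat_lit 12] (.fuse [nat_lit 13, nat_lit 12, nat_lit 7] (.fuse [nat_lit 11] (.leaf ([nat_lit 2, nat_lit 2, nat_lit 7, nat_lit 5, nat_lit 0], (nat_lit 1), (nat_lit 0)))))))))))))))) (.split (.fuse [nat_lit 3] (.fuse [nat_lit 6] (.fuse [nat_lit 4] (.fuse [nat_lit 8] (.fuse [nat_lit 8, nat_lit 7] (.fuse [nat_lit 11] (.fuse [nat_lit 11, nat_lit 9] (.split (.fuse [nat_lit 13] (.fuse [nat_lit 13, nat_lit 12] (.fuse [nat_lit 12, nat_lit 5] (.fuse [nat_lit 12, nat_lit 10] (.leaf ([nat_lit 0, nat_lit 1, nat_lit 0, nat_lit 2, nat_lit 6], (nat_lit 1), (nat_lit 0))))))) (.fuse [nat_lit 13] (.fuse [nat_lit 13, nat_lit 12] (.split (.split (.leaf ([nat_lit 8, nat_lit 2, nat_lit 8], (nat_lit 1), (nat_lit 0))) (.leaf ([nat_lit 7, nat_lit 2, nat_lit 0, nat_lit 6], (nat_lit 2), (nat_lit 0)))) (.fuse [nat_lit 13, nat_lit 12, nat_lit 8, nat_lit 3, nat_lit 2] (.leaf ([nat_lit 1, nat_lit 2,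 nat_lit 8, nat_lit 0], (nat_lit 2), (nat_lit 0))))))))))))))) (.fuse [nat_lit 4] (.fuse [nat_lit 8] (.fuse [nat_lit 3] (.fuse [nat_lit 7] (.fuse [nat_lit 6] (.fuse [nat_lit 11] (.fuse [nat_lit 9] (.split (.fuse [nat_lit 12] (.fuse [nat_lit 13] (.split (.split (.leaf ([nat_lit 0, nat_lit 12, nat_lit 0], (nat_lit 2), (nat_lit 0))) (.leaf ([nat_lit 1, nat_lit 0, nat_lit 4, nat_lit 2, nat_lit 12], (nat_lit 2), (nat_lit 0)))) (.fuse [nat_lit 13, nat_lit 12, nat_lit 11, nat_lit 3, nat_lit 2] (.leaf ([nat_lit 0, nat_lit 1, nat_lit 1, nat_lit 0, nat_lit 12], (nat_lit 2), (nat_lit 0))))))) (.fuse [nat_lit 12] (.fuse [nat_lit 13] (.fuse [nat_lit 13, nat_lit 7, nat_lit 5] (.fuse [nat_lit 12, nat_lit 11, nat_lit 10] (.leaf ([nat_lit 6, nat_lit 12, nat_lit 2, nat_lit 6], (nat_lit 1), (nat_lit 0))))))))))))))))) (.split (.split (.fuse [nat_lit 3] (.fuse [nat_lit 6] (.fuse [nat_lit 6, nat_lit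 4] (.fuse [nat_lit 8] (.fuse [nat_lit 8, nat_lit 7] (.fuse [nat_lit 11] (.fuse [nat_lit 11, nat_lit 9] (.split (.fuse [nat_lit 13] (.fuse [nat_lit 13, nat_lit 12] (.fuse [nat_lit 13, nat_lit 11, nat_lit 9, nat_lit 5] (.fuse [nat_lit 14] (.leaf ([nat_lit 1, nat_lit 6, nat_lit 11, nat_lit 12, nat_lit 0], (nat_lit 2), (nat_lit 0))))))) (.fuse [nat_lit 13] (.fuse [nat_lit 13, nat_lit 12] (.split (.fuse [nat_lit 14] (.leaf ([nat_lit 7, nat_lit 2, nat_lit 0], (nat_lit 2), (nat_lit 0)))) (.fuse [nat_lit 14] (.leaf ([nat_lit 7, nat_lit 2, nat_lit 0, nat_lit 7, nat_lit 10], (nat_lit 1), (nat_lit 0))))))))))))))) (.fuse [nat_lit 4] (.fuse [nat_lit 8] (.fuse [nat_lit 8, nat_lit 3] (.fuse [nat_lit 7] (.fuse [nat_lit 6] (.fuse [nat_lit 11] (.fuse [nat_lit 9] (.split (.fuse [nat_lit 12] (.fuse [nat_lit 13] (.fuse [nat_lit 12, nat_lit 9, nat_lit 7, nat_lit 5] (.fuse [nat_lit 14] (.leaf ([nat_lit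 1, nat_lit 2, nat_lit 8, nat_lit 6, nat_lit 12], (nat_lit 2), (nat_lit 0))))))) (.fuse [nat_lit 12] (.fuse [nat_lit 13] (.split (.fuse [nat_lit 14] (.leaf ([nat_lit 3, nat_lit 2, nat_lit 8, nat_lit 12, nat_lit 10], (nat_lit 2), (nat_lit 0)))) (.fuse [nat_lit 14] (.leaf ([nat_lit 2, nat_lit 0, nat_lit 11, nat_lit 3, nat_lit 0], (nat_lit 1), (nat_lit 0)))))))))))))))) (.split (.split (.fuse [nat_lit 4] (.split (.split (.fuse [nat_lit 2] (.split (.fuse [nat_lit 8] (.fuse [nat_lit 7] (.split (.split (.split (.fuse [nat_lit 14] (.leaf ([nat_lit 0, nat_lit 12], (nat_lit 2), (nat_lit 0)))) (.fuse [nat_lit 14] (.leaf ([nat_lit 2, nat_lit 4, nat_lit 0], (nat_lit 2), (nat_lit 0))))) (.fuse [nat_lit 4, nat_lit 3] (.fuse [nat_lit 14] (.leaf ([nat_lit 2, nat_lit 0, nat_lit 4, nat_lit 8, nat_lit 0], (nat_lit 2), (nat_lit 0)))))) (.split (.fuse [nat_lit 4, nat_lit 0] (.fuse [nat_lit 14] (.leaf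 ([nat_lit 1, nat_lit 2, nat_lit 10, nat_lit 1, nat_lit 12], (nat_lit 2), (nat_lit 0))))) (.fuse [nat_lit 4, nat_lit 3] (.fuse [nat_lit 14] (.leaf ([nat_lit 1, nat_lit 2, nat_lit 1, nat_lit 5, nat_lit 12], (nat_lit 2), (nat_lit 0))))))))) (.fuse [nat_lit 8] (.fuse [nat_lit 7] (.fuse [nat_lit 4, nat_lit 3] (.fuse [nat_lit 9, nat_lit 8, nat_lit 7, nat_lit 6, nat_lit 3, nat_lit 0] (.split (.fuse [nat_lit 14] (.leaf ([nat_lit 1, nat_lit 8, nat_lit 0], (nat_lit 2), (nat_lit 0)))) (.fuse [nat_lit 14] (.leaf ([nat_lit 2, nat_lit 0, nat_lit 3, nat_lit 5, nat_lit 12, nat_lit 0], (nat_lit 2), (nat_lit 0))))))))))) (.fuse [nat_lit 2] (.fuse [nat_lit 4, nat_lit 3] (.fuse [nat_lit 8] (.fuse [nat_lit 7] (.fuse [nat_lit 8, nat_lit 6] (.fuse [nat_lit 14, nat_lit 12, nat_lit 8, nat_lit 7, nat_lit 5] (.fuse [nat_lit 9] (.fuse [nat_lit 14] (.leaf ([nat_lit 1, nat_lit 0, nat_lit 11, nat_lit 3,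 nat_lit 0], (nat_lit 2), (nat_lit 0)))))))))))) (.split (.fuse [nat_lit 4, nat_lit 3] (.split (.fuse [nat_lit 5] (.fuse [nat_lit 8] (.fuse [nat_lit 11] (.fuse [nat_lit 10] (.fuse [nat_lit 13] (.fuse [nat_lit 14] (.leaf ([nat_lit 2, nat_lit 0, nat_lit 7, nat_lit 0], (nat_lit 2), (nat_lit 0))))))))) (.fuse [nat_lit 5] (.fuse [nat_lit 8] (.fuse [nat_lit 11] (.fuse [nat_lit 10] (.fuse [nat_lit 13] (.fuse [nat_lit 14] (.leaf ([nat_lit 1, nat_lit 10, nat_lit 2, nat_lit 10, nat_lit 5], (nat_lit 1), (nat_lit 0))))))))))) (.fuse [nat_lit 4, nat_lit 3] (.fuse [nat_lit 2] (.fuse [nat_lit 5] (.fuse [nat_lit 8] (.fuse [nat_lit 11] (.fuse [nat_lit 10] (.fuse [nat_lit 13] (.fuse [nat_lit 14] (.leaf ([nat_lit 1, nat_lit 1, nat_lit 7, nat_lit 12, nat_lit 10], (nat_lit 2), (nat_lit 0)))))))))))))) (.fuse [nat_lit 3] (.split (.fuse [nat_lit 4] (.split (.split (.fuse [nat_lit 8] (.fuse [nat_lit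 7] (.fuse [nat_lit 10] (.fuse [nat_lit 11] (.fuse [nat_lit 13] (.fuse [nat_lit 14] (.leaf ([nat_lit 3, nat_lit 2, nat_lit 12, nat_lit 0, nat_lit 3], (nat_lit 2), (nat_lit 0))))))))) (.fuse [nat_lit 8] (.fuse [nat_lit 7] (.fuse [nat_lit 10] (.fuse [nat_lit 11] (.fuse [nat_lit 13] (.fuse [nat_lit 14] (.leaf ([nat_lit 1, nat_lit 2, nat_lit 4, nat_lit 0, nat_lit 2], (nat_lit 1), (nat_lit 0)))))))))) (.fuse [nat_lit 3, nat_lit 2] (.fuse [nat_lit 8] (.fuse [nat_lit 7] (.fuse [nat_lit 10] (.fuse [nat_lit 11] (.fuse [nat_lit 13] (.fuse [nat_lit 14] (.leaf ([nat_lit 3, nat_lit 11, nat_lit 1, nat_lit 5, nat_lit 10], (nat_lit 2), (nat_lit 0)))))))))))) (.fuse [nat_lit 3, nat_lit 2] (.split (.split (.fuse [nat_lit 6] (.fuse [nat_lit 7] (.fuse [nat_lit 11] (.fuse [nat_lit 11, nat_lit 10] (.fuse [nat_lit 12] (.fuse [nat_lit 14] (.leaf ([nat_lit 1, nat_lit 12, nat_lit 11, nat_lit 3, nat_lit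 0], (nat_lit 2), (nat_lit 0))))))))) (.fuse [nat_lit 6] (.fuse [nat_lit 7] (.fuse [nat_lit 11] (.fuse [nat_lit 11, nat_lit 10] (.fuse [nat_lit 12] (.fuse [nat_lit 14] (.leaf ([nat_lit 0, nat_lit 7, nat_lit 10, nat_lit 11, nat_lit 6], (nat_lit 1), (nat_lit 0)))))))))) (.fuse [nat_lit 4] (.fuse [nat_lit 6] (.fuse [nat_lit 7] (.fuse [nat_lit 11] (.fuse [nat_lit 11, nat_lit 10] (.fuse [nat_lit 12] (.fuse [nat_lit 14] (.leaf ([nat_lit 0, nat_lit 5, nat_lit 5], (nat_lit 2), (nat_lit 0))))))))))))))) (.fuse [nat_lit 4] (.fuse [nat_lit 8] (.fuse [nat_lit 4, nat_lit 3] (.fuse [nat_lit 5] (.fuse [nat_lit 8, nat_lit 6] (.fuse [nat_lit 10] (.split (.fuse [nat_lit 10, nat_lit 9] (.fuse [nat_lit 13] (.fuse [nat_lit 12] (.split (.fuse [nat_lit 14] (.leaf ([nat_lit 1, nat_lit 6, nat_lit 7, nat_lit 2, nat_lit 12], (nat_lit 2), (nat_lit 0)))) (.fuse [nat_lit 14] (.leaf ([nat_lit 0, nat_lit 3,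 nat_lit 5, nat_lit 11, nat_lit 7], (nat_lit 1), (nat_lit 0)))))))) (.fuse [nat_lit 10, nat_lit 9] (.fuse [nat_lit 13] (.fuse [nat_lit 12] (.fuse [nat_lit 12, nat_lit 10, nat_lit 9, nat_lit 7] (.fuse [nat_lit 14] (.leaf ([nat_lit 0, nat_lit 2, nat_lit 11, nat_lit 5, nat_lit 12], (nat_lit 2), (nat_lit 0)))))))))))))))))) (.fuse [nat_lit 4] (.split (.split (.fuse [nat_lit 3] (.split (.fuse [nat_lit 14, nat_lit 7, nat_lit 6, nat_lit 4, nat_lit 3, nat_lit 2] (.split (.split (.split (.fuse [nat_lit 10] (.fuse [nat_lit 11] (.split (.split (.fuse [nat_lit 14] (.split (.leaf ([nat_lit 2, nat_lit 3, nat_lit 10], (nat_lit 2), (nat_lit 0))) (.leaf ([nat_lit 0], (nat_lit 2), (nat_lit 0))))) (.fuse [nat_lit 14] (.fuse [nat_lit 14, nat_lit 11, nat_lit 6] (.leaf ([nat_lit 2, nat_lit 8, nat_lit 2, nat_lit 2, nat_lit 8, nat_lit 0], (nat_lit 2), (nat_lit 0)))))) (.split (.fuse [nat_lit 14] (.fuse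 [nat_lit 14, nat_lit 11, nat_lit 10, nat_lit 8] (.leaf ([nat_lit 1, nat_lit 5, nat_lit 10, nat_lit 6], (nat_lit 2), (nat_lit 0))))) (.fuse [nat_lit 14] (.fuse [nat_lit 14, nat_lit 11, nat_lit 10, nat_lit 8] (.leaf ([nat_lit 2, nat_lit 10, nat_lit 1, nat_lit 11, nat_lit 2, nat_lit 12], (nat_lit 2), (nat_lit 0))))))))) (.fuse [nat_lit 10] (.fuse [nat_lit 11] (.fuse [nat_lit 14, nat_lit 10, nat_lit 7, nat_lit 6, nat_lit 4, nat_lit 3, nat_lit 1] (.fuse [nat_lit 11, nat_lit 10, nat_lit 3, nat_lit 0] (.fuse [nat_lit 14] (.fuse [nat_lit 14, nat_lit 11, nat_lit 10, nat_lit 9] (.leaf ([nat_lit 0, nat_lit 7, nat_lit 6, nat_lit 0, nat_lit 3], (nat_lit 2), (nat_lit 0)))))))))) (.split (.fuse [nat_lit 10] (.fuse [nat_lit 11] (.fuse [nat_lit 11, nat_lit 10, nat_lit 8] (.fuse [nat_lit 14, nat_lit 10, nat_lit 8, nat_lit 7] (.fuse [nat_lit 14] (.fuse [nat_lit 14, nat_lit 13] (.leaf ([nat_lit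 2, nat_lit 0, nat_lit 5, nat_lit 0], (nat_lit 2), (nat_lit 0))))))))) (.fuse [nat_lit 10] (.fuse [nat_lit 11] (.fuse [nat_lit 11, nat_lit 10, nat_lit 8] (.fuse [nat_lit 14, nat_lit 10, nat_lit 8, nat_lit 7] (.fuse [nat_lit 14] (.fuse [nat_lit 14, nat_lit 13] (.leaf ([nat_lit 0, nat_lit 12, nat_lit 2, nat_lit 3, nat_lit 10], (nat_lit 2), (nat_lit 0))))))))))) (.split (.split (.fuse [nat_lit 10] (.fuse [nat_lit 11] (.fuse [nat_lit 11, nat_lit 10, nat_lit 8] (.fuse [nat_lit 10, nat_lit 5] (.fuse [nat_lit 14] (.fuse [nat_lit 14, nat_lit 13] (.leaf ([nat_lit 6, nat_lit 0, nat_lit 5, nat_lit 2, nat_lit 8], (nat_lit 1), (nat_lit 0))))))))) (.fuse [nat_lit 10] (.fuse [nat_lit 11] (.fuse [nat_lit 11, nat_lit 10, nat_lit 8] (.fuse [nat_lit 10, nat_lit 5] (.fuse [nat_lit 14] (.fuse [nat_lit 14, nat_lit 13] (.leaf ([nat_lit 6, nat_lit 8, nat_lit 2, nat_lit 3, nat_lit 12], (nat_lit 2),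 (nat_lit 0)))))))))) (.split (.fuse [nat_lit 10] (.fuse [nat_lit 11] (.fuse [nat_lit 11, nat_lit 6] (.fuse [nat_lit 11, nat_lit 10, nat_lit 8] (.fuse [nat_lit 14] (.split (.leaf ([nat_lit 0, nat_lit 2, nat_lit 8], (nat_lit 1), (nat_lit 0))) (.leaf ([nat_lit 3, nat_lit 8, nat_lit 12, nat_lit 2, nat_lit 0], (nat_lit 2), (nat_lit 0))))))))) (.fuse [nat_lit 10] (.fuse [nat_lit 11] (.fuse [nat_lit 11, nat_lit 6] (.fuse [nat_lit 11, nat_lit 10, nat_lit 8] (.fuse [nat_lit 14] (.fuse [nat_lit 11, nat_lit 10, nat_lit 9] (.leaf ([nat_lit 7, nat_lit 10, nat_lit 2, nat_lit 1, nat_lit 10], (nat_lit 2), (nat_lit 0))))))))))))) (.fuse [nat_lit 14, nat_lit 7, nat_lit 6, nat_lit 4, nat_lit 3, nat_lit 2] (.split (.split (.split (.fuse [nat_lit 10] (.fuse [nat_lit 11] (.fuse [nat_lit 11, nat_lit 7] (.fuse [nat_lit 11, nat_lit 10, nat_lit 8] (.fuse [nat_lit 14] (.fuse [nat_lit 14, nat_lit 12]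 (.leaf ([nat_lit 4, nat_lit 6, nat_lit 2, nat_lit 10], (nat_lit 2), (nat_lit 0))))))))) (.fuse [nat_lit 10] (.fuse [nat_lit 11] (.fuse [nat_lit 11, nat_lit 7] (.fuse [nat_lit 11, nat_lit 10, nat_lit 8] (.fuse [nat_lit 14] (.fuse [nat_lit 14, nat_lit 12] (.leaf ([nat_lit 1, nat_lit 0, nat_lit 3, nat_lit 0, nat_lit 4], (nat_lit 2), (nat_lit 0)))))))))) (.split (.fuse [nat_lit 10] (.fuse [nat_lit 11] (.fuse [nat_lit 11, nat_lit 10, nat_lit 8] (.fuse [nat_lit 11, nat_lit 7] (.fuse [nat_lit 14] (.fuse [nat_lit 14, nat_lit 13] (.leaf ([nat_lit 5, nat_lit 2, nat_lit 7, nat_lit 0, nat_lit 12], (nat_lit 2), (nat_lit 0))))))))) (.fuse [nat_lit 10] (.fuse [nat_lit 11] (.fuse [nat_lit 11, nat_lit 10, nat_lit 8] (.fuse [nat_lit 11, nat_lit 7] (.fuse [nat_lit 14] (.fuse [nat_lit 14, nat_lit 13] (.leaf ([nat_lit 3, nat_lit 2, nat_lit 1, nat_lit 12], (nat_lit 2), (nat_lit 0))))))))))) (.split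 (.split (.fuse [nat_lit 10] (.fuse [nat_lit 11] (.fuse [nat_lit 11, nat_lit 10, nat_lit 8] (.fuse [nat_lit 11, nat_lit 7] (.fuse [nat_lit 14] (.fuse [nat_lit 14, nat_lit 13] (.leaf ([nat_lit 2, nat_lit 4, nat_lit 7, nat_lit 12, nat_lit 0], (nat_lit 2), (nat_lit 0))))))))) (.fuse [nat_lit 10] (.fuse [nat_lit 11] (.fuse [nat_lit 11, nat_lit 10, nat_lit 8] (.fuse [nat_lit 11, nat_lit 7] (.fuse [nat_lit 14] (.fuse [nat_lit 14, nat_lit 13] (.leaf ([nat_lit 6, nat_lit 2, nat_lit 7, nat_lit 0], (nat_lit 1), (nat_lit 0)))))))))) (.split (.fuse [nat_lit 10] (.fuse [nat_lit 11] (.fuse [nat_lit 11, nat_lit 7] (.fuse [nat_lit 7, nat_lit 6] (.fuse [nat_lit 14] (.fuse [nat_lit 14, nat_lit 12] (.leaf ([nat_lit 2, nat_lit 2, nat_lit 0, nat_lit 5], (nat_lit 1), (nat_lit 0))))))))) (.fuse [nat_lit 10] (.fuse [nat_lit 11] (.fuse [nat_lit 11, nat_lit 7] (.fuse [nat_lit 7, nat_lit 6] (.fuse [nat_lit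 14] (.fuse [nat_lit 14, nat_lit 12] (.leaf ([nat_lit 0, nat_lit 7, nat_lit 11, nat_lit 6, nat_lit 0, nat_lit 5], (nat_lit 2), (nat_lit 0))))))))))))))) (.fuse [nat_lit 4, nat_lit 2] (.fuse [nat_lit 8] (.fuse [nat_lit 4, nat_lit 1] (.fuse [nat_lit 5] (.fuse [nat_lit 8, nat_lit 6] (.fuse [nat_lit 10] (.split (.fuse [nat_lit 11] (.fuse [nat_lit 13] (.fuse [nat_lit 12] (.fuse [nat_lit 14] (.split (.leaf ([nat_lit 10, nat_lit 11, nat_lit 12, nat_lit 2], (nat_lit 1), (nat_lit 0))) (.leaf ([nat_lit 0, nat_lit 1, nat_lit 10, nat_lit 12], (nat_lit 2), (nat_lit 0)))))))) (.fuse [nat_lit 11] (.fuse [nat_lit 13] (.fuse [nat_lit 12] (.fuse [nat_lit 14] (.fuse [nat_lit 14, nat_lit 12, nat_lit 10, nat_lit 9] (.leaf ([nat_lit 0, nat_lit 1, nat_lit 2, nat_lit 10], (nat_lit 2), (nat_lit 0)))))))))))))))) (.split (.fuse [nat_lit 4, nat_lit 1] (.fuse [nat_lit 6] (.fuse [nat_lit 6, nat_lit 3] (.fuse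 [nat_lit 8] (.fuse [nat_lit 8, nat_lit 7] (.fuse [nat_lit 11] (.fuse [nat_lit 10] (.split (.fuse [nat_lit 13] (.fuse [nat_lit 13, nat_lit 12] (.fuse [nat_lit 14] (.fuse [nat_lit 14, nat_lit 11, nat_lit 9] (.leaf ([nat_lit 0, nat_lit 2, nat_lit 4, nat_lit 10, nat_lit 6, nat_lit 6], (nat_lit 2), (nat_lit 0))))))) (.fuse [nat_lit 13] (.fuse [nat_lit 13, nat_lit 12] (.fuse [nat_lit 14] (.split (.leaf ([nat_lit 2, nat_lit 10, nat_lit 2, nat_lit 6], (nat_lit 1), (nat_lit 0))) (.leaf ([nat_lit 6, nat_lit 3, nat_lit 11, nat_lit 12], (nat_lit 2), (nat_lit 0))))))))))))))) (.fuse [nat_lit 3] (.fuse [nat_lit 8] (.fuse [nat_lit 8, nat_lit 0] (.fuse [nat_lit 7] (.fuse [nat_lit 6] (.fuse [nat_lit 11] (.fuse [nat_lit 11, nat_lit 10] (.split (.fuse [nat_lit 12] (.fuse [nat_lit 13] (.fuse [nat_lit 14] (.fuse [nat_lit 9] (.leaf ([nat_lit 0, nat_lit 2, nat_lit 6, nat_lit 10, nat_lit 4], (nat_lit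 2), (nat_lit 0))))))) (.fuse [nat_lit 12] (.fuse [nat_lit 13] (.fuse [nat_lit 14] (.split (.leaf ([nat_lit 7, nat_lit 12, nat_lit 2, nat_lit 8], (nat_lit 1), (nat_lit 0))) (.leaf ([nat_lit 0, nat_lit 4, nat_lit 11, nat_lit 4, nat_lit 12], (nat_lit 2), (nat_lit 0))))))))))))))))))) (.fuse [nat_lit 4] (.fuse [nat_lit 8] (.fuse [nat_lit 4, nat_lit 2] (.fuse [nat_lit 4, nat_lit 2, nat_lit 0] (.fuse [nat_lit 5] (.fuse [nat_lit 10] (.fuse [nat_lit 7] (.split (.fuse [nat_lit 11] (.fuse [nat_lit 11, nat_lit 4, nat_lit 3] (.fuse [nat_lit 13] (.fuse [nat_lit 13, nat_lit 12] (.fuse [nat_lit 14] (.split (.fuse [nat_lit 14, nat_lit 13, nat_lit 11, nat_lit 10, nat_lit 9] (.split (.leaf ([nat_lit 0, nat_lit 8, nat_lit 0, nat_lit 3], (nat_lit 2), (nat_lit 0))) (.leaf ([nat_lit 2, nat_lit 1, nat_lit 6, nat_lit 10], (nat_lit 2), (nat_lit 0))))) (.fuse [nat_lit 14, nat_lit 13, nat_lit 11, nat_lit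 10, nat_lit 9] (.fuse [nat_lit 13, nat_lit 12, nat_lit 11, nat_lit 10, nat_lit 8, nat_lit 6] (.leaf ([nat_lit 3, nat_lit 5, nat_lit 2, nat_lit 0, nat_lit 6], (nat_lit 2), (nat_lit 0))))))))))) (.fuse [nat_lit 11] (.split (.fuse [nat_lit 13] (.fuse [nat_lit 13, nat_lit 12] (.fuse [nat_lit 14] (.split (.split (.fuse [nat_lit 14, nat_lit 13, nat_lit 11, nat_lit 10, nat_lit 9] (.leaf ([nat_lit 5, nat_lit 4, nat_lit 10], (nat_lit 2), (nat_lit 0)))) (.fuse [nat_lit 14, nat_lit 13, nat_lit 11, nat_lit 10, nat_lit 9] (.leaf ([nat_lit 3, nat_lit 6, nat_lit 0, nat_lit 11, nat_lit 12], (nat_lit 2), (nat_lit 0))))) (.fuse [nat_lit 14, nat_lit 13, nat_lit 12, nat_lit 11, nat_lit 4, nat_lit 3] (.fuse [nat_lit 14, nat_lit 13, nat_lit 11, nat_lit 10, nat_lit 9] (.leaf ([nat_lit 2, nat_lit 8, nat_lit 1, nat_lit 0, nat_lit 1], (nat_lit 2), (nat_lit 0))))))))) (.fuse [nat_lit 13] (.fuse [nat_lit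 13, nat_lit 12] (.fuse [nat_lit 14] (.split (.fuse [nat_lit 13, nat_lit 12, nat_lit 11, nat_lit 4, nat_lit 3] (.fuse [nat_lit 14, nat_lit 13, nat_lit 12, nat_lit 11, nat_lit 10, nat_lit 8, nat_lit 6] (.leaf ([nat_lit 12, nat_lit 2, nat_lit 11], (nat_lit 1), (nat_lit 0))))) (.split (.split (.leaf ([nat_lit 4, nat_lit 2, nat_lit 12, nat_lit 0, nat_lit 6], (nat_lit 2), (nat_lit 0))) (.leaf ([nat_lit 12, nat_lit 2, nat_lit 11], (nat_lit 1), (nat_lit 0)))) (.fuse [nat_lit 13, nat_lit 12, nat_lit 11, nat_lit 4, nat_lit 3] (.leaf ([nat_lit 4, nat_lit 2, nat_lit 5, nat_lit 0, nat_lit 5], (nat_lit 2), (nat_lit 0)))))))))))))))))))) (.split (.fuse [nat_lit 3] (.fuse [nat_lit 6] (.fuse [nat_lit 4] (.fuse [nat_lit 3, nat_lit 2] (.fuse [nat_lit 8] (.fuse [nat_lit 11] (.fuse [nat_lit 8, nat_lit 7] (.split (.fuse [nat_lit 10] (.split (.fuse [nat_lit 13] (.fuse [nat_lit 12] (.split (.fuse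 [nat_lit 14] (.fuse [nat_lit 8, nat_lit 3, nat_lit 0] (.fuse [nat_lit 8, nat_lit 7, nat_lit 5] (.leaf ([nat_lit 5, nat_lit 1, nat_lit 2], (nat_lit 1), (nat_lit 0)))))) (.fuse [nat_lit 14] (.split (.fuse [nat_lit 14, nat_lit 13, nat_lit 12, nat_lit 6, nat_lit 1] (.leaf ([nat_lit 8, nat_lit 1, nat_lit 2, nat_lit 0, nat_lit 8], (nat_lit 2), (nat_lit 0)))) (.split (.leaf ([nat_lit 2, nat_lit 10, nat_lit 2, nat_lit 12], (nat_lit 2), (nat_lit 0))) (.leaf ([nat_lit 1, nat_lit 2, nat_lit 2], (nat_lit 1), (nat_lit 0))))))))) (.fuse [nat_lit 13] (.fuse [nat_lit 12] (.split (.fuse [nat_lit 14] (.fuse [nat_lit 14, nat_lit 8, nat_lit 3, nat_lit 0] (.fuse [nat_lit 12, nat_lit 11, nat_lit 10, nat_lit 9] (.leaf ([nat_lit 0, nat_lit 2, nat_lit 4, nat_lit 10, nat_lit 5], (nat_lit 2), (nat_lit 0)))))) (.fuse [nat_lit 14] (.split (.fuse [nat_lit 12, nat_lit 11, nat_lit 10, nat_lit 9] (.leaf ([nat_lit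 4, nat_lit 0, nat_lit 7], (nat_lit 1), (nat_lit 0)))) (.fuse [nat_lit 12, nat_lit 11, nat_lit 10, nat_lit 9] (.leaf ([nat_lit 0, nat_lit 5, nat_lit 2, nat_lit 7, nat_lit 0], (nat_lit 2), (nat_lit 0))))))))))) (.fuse [nat_lit 10] (.fuse [nat_lit 6, nat_lit 1] (.fuse [nat_lit 13] (.fuse [nat_lit 12] (.split (.fuse [nat_lit 14] (.fuse [nat_lit 12, nat_lit 11, nat_lit 10, nat_lit 9] (.fuse [nat_lit 14, nat_lit 12, nat_lit 11, nat_lit 10, nat_lit 9, nat_lit 8, nat_lit 7, nat_lit 5] (.leaf ([nat_lit 11, nat_lit 7, nat_lit 6, nat_lit 0, nat_lit 6], (nat_lit 2), (nat_lit 0)))))) (.fuse [nat_lit 14] (.fuse [nat_lit 12, nat_lit 11, nat_lit 10, nat_lit 9] (.split (.leaf ([nat_lit 11, nat_lit 1, nat_lit 0], (nat_lit 2), (nat_lit 0))) (.leaf ([nat_lit 2, nat_lit 6, nat_lit 3, nat_lit 12, nat_lit 2], (nat_lit 1), (nat_lit 0))))))))))))))))))) (.fuse [nat_lit 4] (.fuse [nat_lit 8] (.fuse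 [nat_lit 2] (.fuse [nat_lit 3] (.fuse [nat_lit 7] (.fuse [nat_lit 11] (.fuse [nat_lit 6] (.split (.fuse [nat_lit 11, nat_lit 10] (.split (.fuse [nat_lit 12] (.fuse [nat_lit 13] (.fuse [nat_lit 14] (.split (.split (.split (.leaf ([nat_lit 4, nat_lit 2, nat_lit 10], (nat_lit 1), (nat_lit 0))) (.leaf ([nat_lit 1, nat_lit 11, nat_lit 1, nat_lit 8, nat_lit 12], (nat_lit 2), (nat_lit 0)))) (.fuse [nat_lit 14, nat_lit 8, nat_lit 1] (.leaf ([nat_lit 2, nat_lit 12, nat_lit 0, nat_lit 6], (nat_lit 2), (nat_lit 0))))) (.fuse [nat_lit 13, nat_lit 12, nat_lit 10, nat_lit 7, nat_lit 6, nat_lit 4, nat_lit 0] (.fuse [nat_lit 14, nat_lit 11, nat_lit 10, nat_lit 7, nat_lit 6, nat_lit 5] (.leaf ([nat_lit 2, nat_lit 10, nat_lit 2], (nat_lit 1), (nat_lit 0))))))))) (.fuse [nat_lit 12] (.fuse [nat_lit 13] (.fuse [nat_lit 14] (.split (.split (.fuse [nat_lit 13, nat_lit 12, nat_lit 11, nat_lit 10,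 nat_lit 9] (.leaf ([nat_lit 0, nat_lit 2, nat_lit 6, nat_lit 10, nat_lit 1], (nat_lit 2), (nat_lit 0)))) (.fuse [nat_lit 13, nat_lit 12, nat_lit 11, nat_lit 10, nat_lit 9] (.leaf ([nat_lit 1, nat_lit 2, nat_lit 8, nat_lit 0], (nat_lit 1), (nat_lit 0))))) (.fuse [nat_lit 14, nat_lit 13, nat_lit 12, nat_lit 10, nat_lit 7, nat_lit 6, nat_lit 4, nat_lit 0] (.fuse [nat_lit 13, nat_lit 12, nat_lit 11, nat_lit 10, nat_lit 9] (.leaf ([nat_lit 0, nat_lit 4, nat_lit 7, nat_lit 1, nat_lit 2, nat_lit 10], (nat_lit 2), (nat_lit 0))))))))))) (.fuse [nat_lit 11, nat_lit 10] (.fuse [nat_lit 8, nat_lit 1] (.fuse [nat_lit 12] (.fuse [nat_lit 13] (.fuse [nat_lit 14] (.split (.fuse [nat_lit 13, nat_lit 12, nat_lit 11, nat_lit 10, nat_lit 9] (.split (.leaf ([nat_lit 10, nat_lit 5], (nat_lit 2), (nat_lit 0))) (.leaf ([nat_lit 7, nat_lit 5, nat_lit 0, nat_lit 2], (nat_lit 1), (nat_lit 0))))) (.fuse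 [nat_lit 13, nat_lit 12, nat_lit 11, nat_lit 10, nat_lit 9] (.fuse [nat_lit 13, nat_lit 12, nat_lit 9, nat_lit 7, nat_lit 6, nat_lit 5] (.leaf ([nat_lit 10, nat_lit 2, nat_lit 8, nat_lit 1, nat_lit 0], (nat_lit 2), (nat_lit 0))))))))))))))))))))) (.fuse [nat_lit 4] (.fuse [nat_lit 4, nat_lit 3] (.split (.fuse [nat_lit 9] (.fuse [nat_lit 8] (.fuse [nat_lit 7] (.fuse [nat_lit 14, nat_lit 13, nat_lit 9, nat_lit 7, nat_lit 6, nat_lit 3, nat_lit 2] (.fuse [nat_lit 13] (.fuse [nat_lit 14, nat_lit 12, nat_lit 8, nat_lit 5, nat_lit 4, nat_lit 2, nat_lit 0] (.split (.fuse [nat_lit 13, nat_lit 12] (.fuse [nat_lit 14] (.fuse [nat_lit 13, nat_lit 12, nat_lit 10] (.fuse [nat_lit 12, nat_lit 11] (.split (.split (.split (.fuse [nat_lit 14, nat_lit 12, nat_lit 10, nat_lit 8, nat_lit 7, nat_lit 5] (.leaf ([nat_lit 5, nat_lit 2, nat_lit 8], (nat_lit 1), (nat_lit 0)))) (.fuse [nat_lit 14, nat_lit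 12, nat_lit 10, nat_lit 8, nat_lit 7, nat_lit 5] (.leaf ([nat_lit 2, nat_lit 3, nat_lit 10, nat_lit 2, nat_lit 8], (nat_lit 2), (nat_lit 0))))) (.split (.fuse [nat_lit 13, nat_lit 9, nat_lit 8, nat_lit 6] (.leaf ([nat_lit 0, nat_lit 7, nat_lit 2, nat_lit 2, nat_lit 0], (nat_lit 2), (nat_lit 0)))) (.fuse [nat_lit 13, nat_lit 9, nat_lit 8, nat_lit 6] (.leaf ([nat_lit 0, nat_lit 6, nat_lit 0, nat_lit 2, nat_lit 2], (nat_lit 1), (nat_lit 0)))))) (.split (.split (.fuse [nat_lit 14, nat_lit 13, nat_lit 12, nat_lit 10, nat_lit 9, nat_lit 8, nat_lit 1] (.leaf ([nat_lit 0, nat_lit 11, nat_lit 6, nat_lit 10, nat_lit 5], (nat_lit 2), (nat_lit 0)))) (.split (.leaf ([nat_lit 0, nat_lit 5, nat_lit 2, nat_lit 0, nat_lit 4], (nat_lit 2), (nat_lit 0))) (.leaf ([nat_lit 1, nat_lit 5, nat_lit 2], (nat_lit 1), (nat_lit 0))))) (.split (.fuse [nat_lit 13, nat_lit 9, nat_lit 8, nat_lit 6] (.leaf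 ([nat_lit 0, nat_lit 2, nat_lit 5, nat_lit 10, nat_lit 3], (nat_lit 2), (nat_lit 0)))) (.fuse [nat_lit 13, nat_lit 9, nat_lit 8, nat_lit 6] (.leaf ([nat_lit 2, nat_lit 0, nat_lit 11, nat_lit 3, nat_lit 0], (nat_lit 1), (nat_lit 0))))))))))) (.fuse [nat_lit 13, nat_lit 12] (.fuse [nat_lit 14] (.fuse [nat_lit 13, nat_lit 12, nat_lit 10] (.fuse [nat_lit 12, nat_lit 11] (.fuse [nat_lit 13, nat_lit 9, nat_lit 8, nat_lit 6] (.fuse [nat_lit 14, nat_lit 12, nat_lit 10, nat_lit 8, nat_lit 7, nat_lit 5] (.split (.fuse [nat_lit 13, nat_lit 12, nat_lit 10, nat_lit 9, nat_lit 8, nat_lit 1] (.leaf ([nat_lit 1, nat_lit 12, nat_lit 0, nat_lit 2, nat_lit 10], (nat_lit 2), (nat_lit 0)))) (.split (.leaf ([nat_lit 5, nat_lit 2, nat_lit 7, nat_lit 10, nat_lit 6], (nat_lit 2), (nat_lit 0))) (.leaf ([nat_lit 4, nat_lit 8, nat_lit 0, nat_lit 2, nat_lit 7], (nat_lit 1), (nat_lit 0))))))))))))))))))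 (.fuse [nat_lit 9] (.fuse [nat_lit 8] (.fuse [nat_lit 7] (.split (.fuse [nat_lit 13] (.split (.fuse [nat_lit 14, nat_lit 13, nat_lit 7, nat_lit 6, nat_lit 3, nat_lit 2] (.fuse [nat_lit 13, nat_lit 12] (.fuse [nat_lit 14] (.fuse [nat_lit 14, nat_lit 13, nat_lit 8, nat_lit 7, nat_lit 5] (.fuse [nat_lit 13, nat_lit 9, nat_lit 8, nat_lit 6] (.fuse [nat_lit 12, nat_lit 11] (.fuse [nat_lit 13, nat_lit 12, nat_lit 10] (.split (.split (.leaf ([nat_lit 2, nat_lit 3, nat_lit 10, nat_lit 1], (nat_lit 2), (nat_lit 0))) (.leaf ([nat_lit 2, nat_lit 10, nat_lit 8], (nat_lit 1), (nat_lit 0)))) (.fuse [nat_lit 14, nat_lit 13, nat_lit 11, nat_lit 8, nat_lit 1] (.leaf ([nat_lit 2, nat_lit 3, nat_lit 10, nat_lit 1], (nat_lit 2), (nat_lit 0)))))))))))) (.split (.fuse [nat_lit 13, nat_lit 12] (.fuse [nat_lit 14] (.split (.split (.split (.split (.split (.fuse [nat_lit 12, nat_lit 7, nat_lit 6, nat_lit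 3, nat_lit 2] (.leaf ([nat_lit 2, nat_lit 3, nat_lit 10, nat_lit 1], (nat_lit 2), (nat_lit 0)))) (.split (.leaf ([nat_lit 8, nat_lit 0], (nat_lit 2), (nat_lit 0))) (.leaf ([nat_lit 0, nat_lit 12], (nat_lit 2), (nat_lit 0))))) (.split (.fuse [nat_lit 13, nat_lit 9, nat_lit 8, nat_lit 6] (.leaf ([nat_lit 0, nat_lit 4, nat_lit 2, nat_lit 0, nat_lit 6], (nat_lit 2), (nat_lit 0)))) (.fuse [nat_lit 13, nat_lit 9, nat_lit 8, nat_lit 6] (.leaf ([nat_lit 8, nat_lit 4, nat_lit 10], (nat_lit 2), (nat_lit 0)))))) (.split (.split (.fuse [nat_lit 14, nat_lit 13, nat_lit 8, nat_lit 7, nat_lit 5] (.leaf ([nat_lit 3, nat_lit 2, nat_lit 5, nat_lit 0], (nat_lit 2), (nat_lit 0)))) (.fuse [nat_lit 14, nat_lit 13, nat_lit 8, nat_lit 7, nat_lit 5] (.leaf ([nat_lit 1, nat_lit 8, nat_lit 11, nat_lit 8, nat_lit 10], (nat_lit 2), (nat_lit 0))))) (.split (.fuse [nat_lit 13, nat_lit 9, nat_lit 8, nat_lit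 6] (.leaf ([nat_lit 6, nat_lit 8, nat_lit 10, nat_lit 12], (nat_lit 2), (nat_lit 0)))) (.fuse [nat_lit 13, nat_lit 9, nat_lit 8, nat_lit 6] (.leaf ([nat_lit 1, nat_lit 2, nat_lit 4, nat_lit 12], (nat_lit 2), (nat_lit 0))))))) (.fuse [nat_lit 13, nat_lit 9, nat_lit 7, nat_lit 4, nat_lit 3, nat_lit 0] (.fuse [nat_lit 12, nat_lit 7, nat_lit 6, nat_lit 3, nat_lit 2] (.split (.fuse [nat_lit 13, nat_lit 12, nat_lit 10] (.leaf ([nat_lit 0, nat_lit 11, nat_lit 1, nat_lit 3, nat_lit 0], (nat_lit 2), (nat_lit 0)))) (.fuse [nat_lit 13, nat_lit 12, nat_lit 10] (.leaf ([nat_lit 2, nat_lit 3, nat_lit 7, nat_lit 3, nat_lit 10], (nat_lit 2), (nat_lit 0)))))))) (.split (.fuse [nat_lit 12, nat_lit 7, nat_lit 6, nat_lit 3, nat_lit 2] (.fuse [nat_lit 13, nat_lit 9, nat_lit 7, nat_lit 4, nat_lit 3, nat_lit 0] (.split (.fuse [nat_lit 12, nat_lit 11] (.leaf ([nat_lit 2, nat_lit 3, nat_lit 10, nat_lit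 3, nat_lit 6], (nat_lit 2), (nat_lit 0)))) (.fuse [nat_lit 12, nat_lit 11] (.leaf ([nat_lit 2, nat_lit 10, nat_lit 5, nat_lit 12], (nat_lit 2), (nat_lit 0))))))) (.fuse [nat_lit 12, nat_lit 7, nat_lit 6, nat_lit 3, nat_lit 2] (.fuse [nat_lit 12, nat_lit 8, nat_lit 5, nat_lit 4, nat_lit 2, nat_lit 0] (.split (.fuse [nat_lit 12, nat_lit 11] (.leaf ([nat_lit 2, nat_lit 3, nat_lit 10, nat_lit 4], (nat_lit 2), (nat_lit 0)))) (.fuse [nat_lit 12, nat_lit 11] (.leaf ([nat_lit 2, nat_lit 8, nat_lit 10, nat_lit 7], (nat_lit 2), (nat_lit 0))))))))))) (.fuse [nat_lit 13, nat_lit 12] (.fuse [nat_lit 14] (.split (.split (.fuse [nat_lit 13, nat_lit 9, nat_lit 8, nat_lit 6] (.fuse [nat_lit 14, nat_lit 13, nat_lit 8, nat_lit 7, nat_lit 5] (.split (.fuse [nat_lit 12, nat_lit 11] (.leaf ([nat_lit 1, nat_lit 6, nat_lit 3, nat_lit 2], (nat_lit 1), (nat_lit 0)))) (.fuse [nat_lit 12, nat_lit 11]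 (.leaf ([nat_lit 7, nat_lit 2, nat_lit 3, nat_lit 12], (nat_lit 2), (nat_lit 0))))))) (.fuse [nat_lit 13, nat_lit 9, nat_lit 8, nat_lit 6] (.fuse [nat_lit 14, nat_lit 13, nat_lit 8, nat_lit 7, nat_lit 5] (.split (.fuse [nat_lit 12, nat_lit 11] (.leaf ([nat_lit 1, nat_lit 11, nat_lit 2, nat_lit 8, nat_lit 0], (nat_lit 1), (nat_lit 0)))) (.fuse [nat_lit 12, nat_lit 11] (.leaf ([nat_lit 0, nat_lit 5, nat_lit 0, nat_lit 3, nat_lit 0], (nat_lit 2), (nat_lit 0)))))))) (.split (.fuse [nat_lit 13, nat_lit 9, nat_lit 8, nat_lit 6] (.fuse [nat_lit 14, nat_lit 13, nat_lit 8, nat_lit 7, nat_lit 5] (.split (.split (.leaf ([nat_lit 2, nat_lit 7, nat_lit 0], (nat_lit 1), (nat_lit 0))) (.leaf ([nat_lit 2, nat_lit 2, nat_lit 8, nat_lit 5, nat_lit 10, nat_lit 12], (nat_lit 2), (nat_lit 0)))) (.fuse [nat_lit 12, nat_lit 7, nat_lit 6, nat_lit 3, nat_lit 2] (.leaf ([nat_lit 2, nat_lit 0, nat_lit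 2, nat_lit 6, nat_lit 0], (nat_lit 2), (nat_lit 0))))))) (.fuse [nat_lit 13, nat_lit 9, nat_lit 8, nat_lit 6] (.fuse [nat_lit 14, nat_lit 13, nat_lit 8, nat_lit 7, nat_lit 5] (.split (.fuse [nat_lit 13, nat_lit 12, nat_lit 10] (.leaf ([nat_lit 0, nat_lit 7, nat_lit 11, nat_lit 3, nat_lit 10, nat_lit 1], (nat_lit 2), (nat_lit 0)))) (.fuse [nat_lit 13, nat_lit 12, nat_lit 10] (.leaf ([nat_lit 0, nat_lit 2, nat_lit 1, nat_lit 7, nat_lit 10, nat_lit 8], (nat_lit 1), (nat_lit 0)))))))))))))) (.fuse [nat_lit 13] (.split (.fuse [nat_lit 14, nat_lit 7, nat_lit 6, nat_lit 3, nat_lit 2] (.fuse [nat_lit 13, nat_lit 12] (.fuse [nat_lit 14] (.fuse [nat_lit 13, nat_lit 9, nat_lit 8, nat_lit 6] (.fuse [nat_lit 12, nat_lit 9, nat_lit 7, nat_lit 6, nat_lit 5] (.fuse [nat_lit 12, nat_lit 11] (.fuse [nat_lit 13, nat_lit 11, nat_lit 10] (.split (.split (.leaf ([nat_lit 6, nat_lit 7, nat_lit 10],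 (nat_lit 2), (nat_lit 0))) (.leaf ([nat_lit 0, nat_lit 3, nat_lit 11, nat_lit 1, nat_lit 0, nat_lit 6], (nat_lit 1), (nat_lit 0)))) (.fuse [nat_lit 13, nat_lit 12, nat_lit 11, nat_lit 8, nat_lit 1] (.leaf ([nat_lit 0, nat_lit 3, nat_lit 2, nat_lit 2, nat_lit 8, nat_lit 0], (nat_lit 2), (nat_lit 0)))))))))))) (.fuse [nat_lit 14, nat_lit 9, nat_lit 7, nat_lit 4, nat_lit 3, nat_lit 0] (.fuse [nat_lit 13, nat_lit 12] (.fuse [nat_lit 14] (.fuse [nat_lit 13, nat_lit 9, nat_lit 8, nat_lit 6] (.fuse [nat_lit 14, nat_lit 13, nat_lit 8, nat_lit 7, nat_lit 5] (.fuse [nat_lit 13, nat_lit 12, nat_lit 10] (.fuse [nat_lit 12, nat_lit 11] (.split (.fuse [nat_lit 14, nat_lit 12, nat_lit 11, nat_lit 7, nat_lit 6, nat_lit 3, nat_lit 2] (.leaf ([nat_lit 0, nat_lit 2, nat_lit 2, nat_lit 8, nat_lit 10, nat_lit 3], (nat_lit 2), (nat_lit 0)))) (.split (.leaf ([nat_lit 2, nat_lit 2, nat_lit 3, nat_lit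 0, nat_lit 7], (nat_lit 2), (nat_lit 0))) (.leaf ([nat_lit 0, nat_lit 6, nat_lit 1, nat_lit 2, nat_lit 7], (nat_lit 1), (nat_lit 0)))))))))))))))))))))) (.fuse [nat_lit 4] (.fuse [nat_lit 8] (.fuse [nat_lit 8, nat_lit 6] (.fuse [nat_lit 9] (.split (.fuse [nat_lit 10] (.fuse [nat_lit 11] (.fuse [nat_lit 13] (.fuse [nat_lit 14, nat_lit 13, nat_lit 12, nat_lit 11, nat_lit 9, nat_lit 6, nat_lit 3] (.fuse [nat_lit 13, nat_lit 12] (.fuse [nat_lit 14] (.fuse [nat_lit 13, nat_lit 11, nat_lit 9, nat_lit 7, nat_lit 4, nat_lit 3, nat_lit 2] (.split (.fuse [nat_lit 13, nat_lit 12, nat_lit 10, nat_lit 5] (.fuse [nat_lit 13, nat_lit 11, nat_lit 7] (.split (.split (.fuse [nat_lit 13, nat_lit 11, nat_lit 9, nat_lit 8, nat_lit 5, nat_lit 3, nat_lit 0] (.split (.leaf ([nat_lit 0, nat_lit 8, nat_lit 0, nat_lit 3], (nat_lit 2), (nat_lit 0))) (.leaf ([nat_lit 2, nat_lit 1, nat_lit 6, nat_lit 10],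 (nat_lit 2), (nat_lit 0))))) (.fuse [nat_lit 13, nat_lit 11, nat_lit 10, nat_lit 8, nat_lit 7, nat_lit 6, nat_lit 5, nat_lit 4, nat_lit 3, nat_lit 1] (.split (.leaf ([nat_lit 2, nat_lit 0, nat_lit 2, nat_lit 8, nat_lit 11], (nat_lit 1), (nat_lit 0))) (.leaf ([nat_lit 5, nat_lit 1, nat_lit 2, nat_lit 4, nat_lit 10], (nat_lit 2), (nat_lit 0)))))) (.split (.split (.split (.leaf ([nat_lit 1, nat_lit 3, nat_lit 6, nat_lit 2, nat_lit 10, nat_lit 4], (nat_lit 2), (nat_lit 0))) (.leaf ([nat_lit 8, nat_lit 11, nat_lit 12], (nat_lit 2), (nat_lit 0)))) (.split (.leaf ([nat_lit 4, nat_lit 2, nat_lit 5, nat_lit 12], (nat_lit 2), (nat_lit 0))) (.leaf ([nat_lit 0, nat_lit 2, nat_lit 5], (nat_lit 1), (nat_lit 0))))) (.fuse [nat_lit 13, nat_lit 11, nat_lit 10, nat_lit 8, nat_lit 7, nat_lit 6, nat_lit 5, nat_lit 4, nat_lit 3, nat_lit 1] (.split (.leaf ([nat_lit 3, nat_lit 5, nat_lit 2, nat_lit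 0, nat_lit 7], (nat_lit 2), (nat_lit 0))) (.leaf ([nat_lit 10, nat_lit 2, nat_lit 7], (nat_lit 1), (nat_lit 0))))))))) (.fuse [nat_lit 13, nat_lit 12, nat_lit 10, nat_lit 5] (.fuse [nat_lit 13, nat_lit 11, nat_lit 7] (.fuse [nat_lit 13, nat_lit 11, nat_lit 10, nat_lit 8, nat_lit 7, nat_lit 6, nat_lit 5, nat_lit 4, nat_lit 3, nat_lit 1] (.fuse [nat_lit 13, nat_lit 11, nat_lit 9, nat_lit 8, nat_lit 5, nat_lit 3, nat_lit 0] (.split (.split (.leaf ([nat_lit 0, nat_lit 2, nat_lit 4, nat_lit 10, nat_lit 5], (nat_lit 2), (nat_lit 0))) (.leaf ([nat_lit 0, nat_lit 5, nat_lit 0, nat_lit 2, nat_lit 2], (nat_lit 1), (nat_lit 0)))) (.split (.leaf ([nat_lit 0, nat_lit 2, nat_lit 0, nat_lit 11, nat_lit 8, nat_lit 10], (nat_lit 2), (nat_lit 0))) (.leaf ([nat_lit 2, nat_lit 2, nat_lit 6, nat_lit 10], (nat_lit 2), (nat_lit 0))))))))))))))))) (.fuse [nat_lit 10] (.fuse [nat_lit 11] (.fuse [nat_lit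 13] (.split (.fuse [nat_lit 13, nat_lit 12] (.fuse [nat_lit 14] (.split (.fuse [nat_lit 13, nat_lit 11, nat_lit 9, nat_lit 6, nat_lit 3] (.fuse [nat_lit 14, nat_lit 12, nat_lit 11, nat_lit 9, nat_lit 7, nat_lit 4, nat_lit 3, nat_lit 2] (.fuse [nat_lit 12, nat_lit 11, nat_lit 8, nat_lit 7, nat_lit 6, nat_lit 4, nat_lit 3, nat_lit 1] (.fuse [nat_lit 14, nat_lit 13, nat_lit 11, nat_lit 7] (.fuse [nat_lit 13, nat_lit 12, nat_lit 10, nat_lit 5] (.split (.split (.leaf ([nat_lit 1, nat_lit 5, nat_lit 10, nat_lit 11, nat_lit 12], (nat_lit 2), (nat_lit 0))) (.leaf ([nat_lit 0, nat_lit 5, nat_lit 2, nat_lit 6], (nat_lit 1), (nat_lit 0)))) (.split (.leaf ([nat_lit 5, nat_lit 8, nat_lit 6, nat_lit 10], (nat_lit 2), (nat_lit 0))) (.leaf ([nat_lit 4, nat_lit 10, nat_lit 1, nat_lit 10], (nat_lit 2), (nat_lit 0)))))))))) (.split (.split (.split (.fuse [nat_lit 13, nat_lit 11, nat_lit 9, nat_lit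 6, nat_lit 3] (.fuse [nat_lit 14, nat_lit 13, nat_lit 4, nat_lit 2] (.fuse [nat_lit 13, nat_lit 12, nat_lit 10, nat_lit 5] (.split (.leaf ([nat_lit 0, nat_lit 2, nat_lit 11, nat_lit 7, nat_lit 12, nat_lit 10], (nat_lit 2), (nat_lit 0))) (.leaf ([nat_lit 0, nat_lit 2, nat_lit 10, nat_lit 2, nat_lit 0], (nat_lit 2), (nat_lit 0))))))) (.split (.split (.fuse [nat_lit 14, nat_lit 13, nat_lit 4, nat_lit 2] (.split (.leaf ([nat_lit 0, nat_lit 4, nat_lit 10, nat_lit 6, nat_lit 6], (nat_lit 2), (nat_lit 0))) (.leaf ([nat_lit 10, nat_lit 5, nat_lit 5], (nat_lit 2), (nat_lit 0))))) (.fuse [nat_lit 13, nat_lit 11, nat_lit 9, nat_lit 6, nat_lit 3] (.split (.leaf ([nat_lit 0, nat_lit 12, nat_lit 2, nat_lit 0, nat_lit 12], (nat_lit 2), (nat_lit 0))) (.leaf ([nat_lit 11, nat_lit 6, nat_lit 0], (nat_lit 2), (nat_lit 0)))))) (.split (.fuse [nat_lit 13, nat_lit 11, nat_lit 9, nat_lit 6, nat_lit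 3] (.split (.leaf ([nat_lit 7, nat_lit 0], (nat_lit 2), (nat_lit 0))) (.leaf ([nat_lit 3, nat_lit 12, nat_lit 0, nat_lit 6], (nat_lit 2), (nat_lit 0))))) (.split (.split (.leaf ([nat_lit 8, nat_lit 4, nat_lit 10], (nat_lit 2), (nat_lit 0))) (.leaf ([nat_lit 3], (nat_lit 2), (nat_lit 0)))) (.split (.leaf ([nat_lit 0, nat_lit 3, nat_lit 12, nat_lit 2], (nat_lit 1), (nat_lit 0))) (.leaf ([nat_lit 0, nat_lit 11, nat_lit 3, nat_lit 0, nat_lit 8], (nat_lit 2), (nat_lit 0)))))))) (.split (.fuse [nat_lit 13, nat_lit 11, nat_lit 9, nat_lit 6, nat_lit 3] (.fuse [nat_lit 14, nat_lit 12, nat_lit 11, nat_lit 9, nat_lit 7, nat_lit 4, nat_lit 3, nat_lit 2] (.fuse [nat_lit 14, nat_lit 13, nat_lit 11, nat_lit 7] (.split (.leaf ([nat_lit 4, nat_lit 10, nat_lit 5, nat_lit 1], (nat_lit 2), (nat_lit 0))) (.leaf ([nat_lit 0, nat_lit 2, nat_lit 0, nat_lit 12], (nat_lit 2), (nat_lit 0))))))) (.fuse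 [nat_lit 14, nat_lit 13, nat_lit 4, nat_lit 2] (.fuse [nat_lit 13, nat_lit 11, nat_lit 9, nat_lit 6, nat_lit 3] (.fuse [nat_lit 14, nat_lit 13, nat_lit 11, nat_lit 7] (.split (.leaf ([nat_lit 0, nat_lit 11, nat_lit 3, nat_lit 0, nat_lit 8], (nat_lit 2), (nat_lit 0))) (.leaf ([nat_lit 2, nat_lit 4, nat_lit 0, nat_lit 2, nat_lit 12], (nat_lit 2), (nat_lit 0))))))))) (.split (.split (.fuse [nat_lit 14, nat_lit 13, nat_lit 4, nat_lit 2] (.fuse [nat_lit 14, nat_lit 12, nat_lit 11, nat_lit 8, nat_lit 7, nat_lit 5, nat_lit 2, nat_lit 1] (.fuse [nat_lit 13, nat_lit 12, nat_lit 10, nat_lit 5] (.split (.leaf ([nat_lit 0, nat_lit 6, nat_lit 7, nat_lit 2], (nat_lit 1), (nat_lit 0))) (.leaf ([nat_lit 6, nat_lit 11, nat_lit 3, nat_lit 12, nat_lit 0], (nat_lit 2), (nat_lit 0))))))) (.fuse [nat_lit 13, nat_lit 11, nat_lit 9, nat_lit 6, nat_lit 3] (.fuse [nat_lit 14, nat_lit 12, nat_lit 11,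 nat_lit 9, nat_lit 7, nat_lit 4, nat_lit 3, nat_lit 2] (.split (.split (.leaf ([nat_lit 5, nat_lit 4, nat_lit 10], (nat_lit 2), (nat_lit 0))) (.leaf ([nat_lit 4, nat_lit 0, nat_lit 6, nat_lit 10], (nat_lit 2), (nat_lit 0)))) (.split (.leaf ([nat_lit 0, nat_lit 1, nat_lit 2, nat_lit 2], (nat_lit 1), (nat_lit 0))) (.leaf ([nat_lit 0, nat_lit 2, nat_lit 1, nat_lit 0, nat_lit 7], (nat_lit 2), (nat_lit 0)))))))) (.split (.fuse [nat_lit 14, nat_lit 11, nat_lit 8, nat_lit 6, nat_lit 4, nat_lit 1] (.fuse [nat_lit 13, nat_lit 11, nat_lit 9, nat_lit 6, nat_lit 3] (.fuse [nat_lit 14, nat_lit 13, nat_lit 11, nat_lit 7] (.split (.leaf ([nat_lit 0, nat_lit 4, nat_lit 2, nat_lit 11], (nat_lit 1), (nat_lit 0))) (.leaf ([nat_lit 10, nat_lit 2, nat_lit 5, nat_lit 7, nat_lit 10], (nat_lit 2), (nat_lit 0))))))) (.fuse [nat_lit 13, nat_lit 11, nat_lit 9, nat_lit 6, nat_lit 3] (.fuse [nat_lit 12,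 nat_lit 11, nat_lit 10, nat_lit 9, nat_lit 8, nat_lit 3, nat_lit 0] (.fuse [nat_lit 14, nat_lit 13, nat_lit 11, nat_lit 7] (.split (.leaf ([nat_lit 2, nat_lit 0, nat_lit 5, nat_lit 10, nat_lit 2], (nat_lit 1), (nat_lit 0))) (.leaf ([nat_lit 5, nat_lit 2, nat_lit 8, nat_lit 12, nat_lit 0], (nat_lit 2), (nat_lit 0))))))))))))) (.fuse [nat_lit 13, nat_lit 12] (.fuse [nat_lit 14] (.split (.fuse [nat_lit 13, nat_lit 11, nat_lit 9, nat_lit 6, nat_lit 3] (.fuse [nat_lit 14, nat_lit 13, nat_lit 4, nat_lit 2] (.fuse [nat_lit 12, nat_lit 11, nat_lit 10, nat_lit 9, nat_lit 8, nat_lit 3, nat_lit 0] (.fuse [nat_lit 13, nat_lit 12, nat_lit 10, nat_lit 5] (.fuse [nat_lit 14, nat_lit 13, nat_lit 11, nat_lit 7] (.split (.split (.leaf ([nat_lit 8, nat_lit 4, nat_lit 10], (nat_lit 2), (nat_lit 0))) (.leaf ([nat_lit 8, nat_lit 4, nat_lit 10], (nat_lit 2), (nat_lit 0)))) (.split (.leaf ([nat_lit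 0, nat_lit 2, nat_lit 2, nat_lit 1, nat_lit 7, nat_lit 12], (nat_lit 2), (nat_lit 0))) (.leaf ([nat_lit 0, nat_lit 2, nat_lit 8, nat_lit 10, nat_lit 2], (nat_lit 1), (nat_lit 0)))))))))) (.fuse [nat_lit 14, nat_lit 13, nat_lit 4, nat_lit 2] (.fuse [nat_lit 14, nat_lit 11, nat_lit 8, nat_lit 6, nat_lit 4, nat_lit 1] (.fuse [nat_lit 13, nat_lit 11, nat_lit 9, nat_lit 6, nat_lit 3] (.fuse [nat_lit 14, nat_lit 13, nat_lit 11, nat_lit 7] (.fuse [nat_lit 12, nat_lit 11, nat_lit 10, nat_lit 7, nat_lit 5] (.split (.split (.leaf ([nat_lit 4, nat_lit 11, nat_lit 7, nat_lit 10], (nat_lit 2), (nat_lit 0))) (.leaf ([nat_lit 2, nat_lit 3, nat_lit 12, nat_lit 10, nat_lit 3], (nat_lit 2), (nat_lit 0)))) (.split (.leaf ([nat_lit 0, nat_lit 6, nat_lit 7, nat_lit 2, nat_lit 0, nat_lit 12], (nat_lit 2), (nat_lit 0))) (.leaf ([nat_lit 7, nat_lit 2, nat_lit 7, nat_lit 0], (nat_lit 1), (nat_lit 0)))))))))))))))))))))))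

theorem tAc : CkC ML tAW tAM 10 4 3 := by decide +kernel
theorem tA1 : allZ (fun i => Nat.xor (tp i) (Nat.xor (Nat.xor (ap tALa (ap tARa (tp i)))
      (Nat.xor (ap (nth [] tAM 4) (ap tAWm (tp i))) (ap tAWm (tp i)))) (sx [((nth [] tAM 4), tAZ)] (tp i)))) 0 20 = true ∧
      ltAll (2 ^ 8) tARa = 0 ∧ ltAll (2 ^ 20) tALa = 0 ∧ ltAll (2 ^ 20) tAWm = 0 := by decide +kernel
theorem tA3 : allZ (fun u => leaf (nth [] tAM 4) tAM 4 3 (ap tALa u) (nth ([], 0, 0) tAC u)) 0 (2 ^ 8) = true := by decide +kernel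
theorem tCc : CkC ML tCW tCM 10 1 1 := by decide +kernel
theorem tC1 : allZ (fun i => Nat.xor (tp i) (Nat.xor (Nat.xor (ap tCLa (ap tCRa (tp i)))
      (Nat.xor (ap (nth [] tCM 1) (ap tCWm (tp i))) (ap tCWm (tp i)))) (sx [((nth [] tCM 1), tCZ)] (tp i)))) 0 20 = true ∧
      ltAll (2 ^ 0) tCRa = 0 ∧ ltAll (2 ^ 20) tCLa = 0 ∧ ltAll (2 ^ 20) tCWm = 0 := by decide +kernel
theorem tC3 : allZ (fun u => leaf (nth [] tCM 1) tCM 1 1 (ap tCLa u) (nth ([], 0, 0) tCC u)) 0 (2 ^ 0) = true := by decide +kernel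
theorem tDc : CkC ML tDW tDM 11 3 3 := by decide +kernel
theorem tD1 : allZ (fun i => Nat.xor (tp i) (Nat.xor (Nat.xor (ap tDLa (ap tDRa (tp i)))
      (Nat.xor (ap (nth [] tDM 3) (ap tDWm (tp i))) (ap tDWm (tp i)))) (sx [((nth [] tDM 3), tDZ)] (tp i)))) 0 20 = true ∧
      ltAll (2 ^ 8) tDRa = 0 ∧ ltAll (2 ^ 20) tDLa = 0 ∧ ltAll (2 ^ 20) tDWm = 0 := by decide +kernel
theorem tD3 : allZ (fun u => leaf (nth [] tDM 3) tDM 3 3 (ap tDLa u) (nth ([], 0, 0) tDC u)) 0 (2 ^ 8) = true := by decide +kernel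
theorem tEc : CkC ML tEW tEM 11 1 1 := by decide +kernel
theorem tE1 : allZ (fun i => Nat.xor (tp i) (Nat.xor (Nat.xor (ap tELa (ap tERa (tp i)))
      (Nat.xor (ap (nth [] tEM 1) (ap tEWm (tp i))) (ap tEWm (tp i)))) (sx [((nth [] tEM 1), tEZ)] (tp i)))) 0 20 = true ∧
      ltAll (2 ^ 0) tERa = 0 ∧ ltAll (2 ^ 20) tELa = 0 ∧ ltAll (2 ^ 20) tEWm = 0 := by decide +kernel
theorem tE3 : allZ (fun u => leaf (nth [] tEM 1) tEM 1 1 (ap tELa u) (nth ([], 0, 0) tEC u)) 0 (2 ^ 0) = true := by decide +kernel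
theorem tBc : CkC ML tBW tBM 10 6 3 := by decide +kernel
theorem tB1 : kerC [((nth [] tBM 6), tBZ)] tBLa tBRa 12 = true ∧ ltAll (2 ^ 20) tBLa = 0 ∧ 0 < 3 ∧
      allZ (fun i => Nat.xor (ap (nth [] tBM 6) (ap tBLa (tp i))) (ap tBLa (tp i))) 0 12 = true ∧
      allZ (fun i => Nat.xor (ap tBRa (ap tBLa (tp i))) (tp i)) 0 12 = true ∧
      allZ (fun i => leaf (nth [] tBM 6) tBM 6 3 (ap tBLa (tp i)) (nth ([], 0, 0) tBC i)) 0 12 = true := by decide +kernel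
theorem fc : (ltAll (2 ^ 20) fP = 0 ∧ ltAll (2 ^ 20) fQ = 0 ∧
    allZ (fun i => Nat.xor (ap fQ (ap fP (tp i))) (tp i)) 0 20 = true ∧
    allZ (fun i => Nat.xor (ap fP (ap fQ (tp i))) (tp i)) 0 20 = true) ∧ allL (ltAll (2 ^ 20)) fN = true ∧
      allZ2 (fun k i => Nat.xor (ap (nth [] ML k) (ap fP (tp i))) (ap fP (ap (nth [] fN k) (tp i)))) 10 20 = true := by decide +kernel
theorem fUc : CkC fN fUW fUM 10 15 0 := by decide +kernel
theorem fEc : CkC fN fEW fEM 10 13 3 := by decide +kernel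
theorem ftri : allZ2 (fun j i => Nat.shiftRight (ap (nth [] fUM j) (tp i)) (Nat.succ i)) 15 20 = true := by decide +kernel
theorem fTc : fT.chk (nth [] fEM 13) fEM fUM 13 3 15 20 0 = 0 := by decide +kernel

theorem tA {G V : Type*} [Group G] [AddCommGroup V] [DistribMulAction G V] {b : ℕ → V} {e : ℕ → G}
    (m : Mo b e ML 10 9196830720) (v : V) (f : evA e [0] • v = v) : Gd (evA e [0]) v :=
  (m.ck tAc).tate tA1 (allZ_sound0 tA3) f
theorem tC {G V : Type*} [Group G] [AddCommGroup V] [DistribMulAction G V] {b : ℕ → V} {e : ℕ → G}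
    (m : Mo b e ML 10 9196830720) (v : V) (f : evA e [0, 6, 0, 7, 9] • v = v) : Gd (evA e [0, 6, 0, 7, 9]) v :=
  (m.ck tCc).tate tC1 (allZ_sound0 tC3) f
theorem tD {G V : Type*} [Group G] [AddCommGroup V] [DistribMulAction G V] {b : ℕ → V} {e : ℕ → G}
    (m : Mo b e ML 11 18393661440) (v : V) (f : evA e [4, 7, 1, 4, 8, 5, 8, 9, 6, 10] • v = v) : Gd (evA e [4, 7, 1, 4, 8, 5, 8, 9, 6, 10]) v :=
  (m.ck tDc).tate tD1 (allZ_sound0 tD3) f
theorem tE {G V : Type*} [Group G] [AddCommGroup V] [DistribMulAction G V] {b : ℕ → V} {e : ℕ → G}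
    (m : Mo b e ML 11 18393661440) (v : V) (f : evA e [10] • v = v) : Gd (evA e [10]) v :=
  (m.ck tEc).tate tE1 (allZ_sound0 tE3) f
theorem tB {G V : Type*} [Group G] [AddCommGroup V] [DistribMulAction G V] {b : ℕ → V} {e : ℕ → G}
    (m : Mo b e ML 10 9196830720) : (Gd (evA e [0, 9]) (0 : V) ∧ Nat.card (Fi V (evA e [0, 9])) = 2 ^ 12) ∧
      ∀ I : AddSubgroup V, (∀ v ∈ Fi V (evA e [0, 9]), Gd (evA e [0, 9]) v → v ∈ I) → Fi V (evA e [0, 9]) ≤ I :=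
  (m.ck tBc).bad tB1
theorem f2 {G V : Type*} [Group G] [AddCommGroup V] [DistribMulAction G V] {b : ℕ → V} {e : ℕ → G}
    (m : Mo b e ML 10 9196830720) (v : V) : Gd (1 : G) v := by
  obtain ⟨x, hx, rfl⟩ := (m.chg fc).bas.surj v
  have u := (m.chg fc).ck fUc
  exact FT.sound ((m.chg fc).ck fEc) ⟨u.1, ((m.chg fc).ck fEc).2, u.3, u.4, u.5⟩ ftri fT 20 le_rfl 0 fTc x hx (Nat.shiftRight_eq_zero _ _ hx)

end H10.SE.D
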