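import Cfsg.Agent.H10.SE.D0
import Cfsg.Agent.H16.L.U62
import Cfsg.Agent.S0815

/-! The module of order `2 ^ 20` of `U₆(2)` and of `U₆(2).2`. -/

set_option autoImplicit false
set_option linter.unusedSectionVars false

namespace H10.SE
open H16 H0.TR D

variable {G V Ω : Type*} [Group G] [AddCommGroup V] [DistribMulAction G V] [MulAction G Ω] {g : ℕ → G} {pt : ℕ → Ω}

/-- the nine generators -/
noncomputable def ee (g : ℕ → G) : ℕ → G := wds (wds g X_W) E_W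

theorem wvec {x : ℕ → G} (hE : ∀ U W, Eq0 U W = 0 → evA x U = evA x W) (h2 : ∀ v : V, v + v = 0)
    (hc : Nat.card V = 2 ^ 20) {u : V} (nt : x 7 • u ≠ u) :
    ∃ v : V, v ≠ 0 ∧ Nm (x 7) v = 0 ∧ ∀ k ∈ [8, 9, 14, 1, 2, 4, 15, 16], x k • v = v := by
  have : Finite V := Nat.finite_of_card_ne_zero (by rw [hc]; decide)
  have c (i j) (h : Eq0 [i, j] [j, i] = 0) : Commute (x j) (x i) := by simpa [commute_iff_eq] using hE _ _ h
  have o (i) (h : Eq0 [i, i, i] [] = 0) : x i ^ 3 = 1 := by simpa [pow_three'] using hE _ _ h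
  have r (U W i) (h : Eq0 (U ++ [i]) (W ++ U) = 0) : x i * evA x U = evA x U * evA x W := by
    simpa [evA_append] using hE _ _ h
  have z3 := o 7 (by decide +kernel)
  obtain ⟨hz, v, h0, h, f1, f2, j, hj, f3⟩ := wt h2 hc (y := x 10) (y' := x 11) z3 (o 8 (by decide +kernel))
    (o 9 (by decide +kernel)) (o 12 (by decide +kernel)) (c 8 7 (by decide +kernel)) (c 10 7 (by decide +kernel))
    (by simpa using hE [10, 8] [8, 10, 7] (by decide +kernel)) (c 9 7 (by decide +kernel)) (c 11 7 (by decide +kernel))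
    (by simpa using hE [11, 9] [9, 11, 7] (by decide +kernel)) (c 9 8 (by decide +kernel)) (c 11 8 (by decide +kernel))
    (c 12 7 (by decide +kernel)) (c 12 8 (by decide +kernel)) (c 12 9 (by decide +kernel)) nt
  have e : x 12 * x 7 ^ j = x (12 + j) := by
    have := hE (List.replicate j 7 ++ [12]) [12 + j] (by interval_cases j <;> decide +kernel)
    simpa [evA_append, H16.evA_rep] using this
  have m (W : List ℕ) (h : ∀ k ∈ W, k ∈ [8, 9, 12 + j]) : evA x W ∈ St (x 7) v :=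
    evA_mem x fun k hk => (by simp [f1, f2, ← e, f3] : ∀ k ∈ [8, 9, 12 + j], x k ∈ St (x 7) v) k (h k hk)
  have w (P A R B) (h1 : (∀ k ∈ A, k ∈ [8, 9, 12 + j]) ∧ (∀ k ∈ B, k ∈ [8, 9, 12 + j]) ∧ Eq0 (P ++ [7]) (A ++ P) = 0 ∧
      Eq0 (R ++ A) (A ++ R) = 0 ∧ Eq0 (R ++ [7]) (B ++ R) = 0) : False :=
    wrong h2 h h0 (fiA h2 h h0 hz (r _ _ _ h1.2.2.1) (m _ h1.1)) (m _ h1.1)
      (by simpa [evA_append] using hE _ _ h1.2.2.2.1) (r _ _ _ h1.2.2.2.2) (m _ h1.2.1)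
  interval_cases j
  · exact (w [3, 2] [8, 8, 9, 9, 12, 12] [3, 4, 3, 2] [8, 8, 9, 12, 12] (by decide +kernel)).elim
  · exact (w [2] [8, 8, 13, 13] [1, 2, 1] [8, 13, 13] (by decide +kernel)).elim
  have a := m [14, 14] (by decide)
  have s := fiA h2 h h0 hz (r [0, 1, 2] _ _ (by decide +kernel)) a
  have t (k B) (h1 : (∀ k ∈ B, k ∈ [8, 9, 14]) ∧ Eq0 [k, 14, 14] [14, 14, k] = 0 ∧ Eq0 [7, k] (B ++ [k, 7]) = 0 ∧
      Eq0 [k, k] [] = 0) : x k ∈ St (x 7) v :=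
    tau h2 z3 h h0 s a (by simpa [mul_assoc] using hE _ _ h1.2.1) (by simpa [evA_append] using hE _ _ h1.2.2.1) (m _ h1.1)
      (by simpa using hE _ _ h1.2.2.2)
  obtain ⟨v, a0, a1, a2, a3⟩ := sig h2 z3 h h0 s a (σ := x 16)
    (by simpa [mul_assoc] using hE [16, 14, 14] [14, 14, 14, 14, 16] (by decide +kernel))
    (by simpa [mul_assoc] using hE [7, 16] [8, 8, 9, 9, 14, 14, 16, 7, 7] (by decide +kernel))
    (m [8, 8, 9, 9, 14, 14] (by decide))
  refine ⟨v, a0, a1, ?_⟩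
  simp only [List.forall_mem_cons]
  exact ⟨(a2 f1).1, (a2 f2).1, (a2 (e ▸ f3)).1, (a2 (t 1 [] (by decide +kernel))).1,
    (a2 (t 2 [8, 14] (by decide +kernel))).1, (a2 (t 4 [] (by decide +kernel))).1,
    (a2 (t 15 [9, 14] (by decide +kernel))).1, a3, List.forall_mem_nil _⟩

theorem ident (M : Md g pt U62.P 672 10 U62.B 9196830720) (h2 : ∀ v : V, v + v = 0) (hc : Nat.card V = 2 ^ 20) {u : V}
    (nt : wds g X_W 7 • u ≠ u) : ∃ b : ℕ → V, Bas b ∧ AcF b (ee g) ME 9 := by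
  have hE : ∀ U W, Eq0 U W = 0 → evA (wds g X_W) U = evA (wds g X_W) W := fun _ _ => M.eq_of (X_act M)
  obtain ⟨v, h0, h, f⟩ := wvec hE h2 hc nt
  have a := tab h2 hE h h0 (yl := nth 8 [8, 9, 14, 1, 2, 4, 15, 16]) (fun k => f _
    ((nth_mem 8 _ k).elim (fun e => e.symm ▸ List.mem_cons_self) id)) injc.2.2 tabc
  have hb := bas_of h2 hc a ⟨injc.1, injc.2.1⟩ fun a ha j hj => by
    rw [vec_cd h2 h h0 ha hj]; exact (smul_ne_zero_iff_ne _).2 h0
  have hg U W (h : EqF U W = 0) : wds g X_W 17 * evA (wds g X_W) U = evA (wds g X_W) W * wds g X_W 17 := by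
    simpa [evA_append] using hE _ _ h
  obtain ⟨u0, l0, e0⟩ := span_of hb a hg F0c
  obtain ⟨u1, l1, e1⟩ := span_of hb a hg F1c
  obtain ⟨u2, l2, e2⟩ := span_of hb a hg F2c
  obtain ⟨c, l, rfl, rfl, rfl⟩ : ∃ c < 256, c % 16 = u0 ∧ c / 16 % 4 = u1 ∧ c / 64 = u2 :=
    ⟨u0 + 16 * (u1 + 4 * u2), by omega⟩
  have a' := a.snoc rfl (af_cols hb a hg (S := Sd) (n := sel c) (fun t => match t with
    | 0 => ⟨by decide, ap_lt (M := F0a) (by decide +kernel) _, e0⟩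
    | 1 => ⟨by decide, ap_lt (M := F1a) (by decide +kernel) _, e1⟩
    | 2 => ⟨by decide, ap_lt (M := F1a) (by decide +kernel) _, e2⟩
    | _ + 3 => ⟨Nat.two_pow_pos 20, Nat.two_pow_pos 20, by simp [Sd, sel, vec_zero]⟩) TFc (X := nth [] CM c)
      (allL_sound cm1.2 _ (nth_mem_of_lt _ _ (l.trans_eq (by decide +kernel)))) (allZ2_sound cm1.1 c l))
  have := allZ_sound0 cm2.1 c l
  rw [kil_one hb a' hE cm2.2, ifz_eq] at this
  rw [neL_zero (by simpa using this : neL (nth [] CM c) MF = 0)] at a'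
  exact ⟨_, hb, a'.wds E_lt (allZ2_sound mec)⟩

theorem outer {b : ℕ → V} {e : ℕ → G} (hb : Bas b) (a : AcF b e ME 9) {u : G} (h : Tp e (fun k => e (sg k)) 9 u) :
    Af b u (ap MO) := by
  have hg U W (q : EqP U W = 0) : u * evA e U = evA e W * u := by
    obtain ⟨q1, q2⟩ := Nat.add_eq_zero_iff.1 q
    rw [h.ev (ltAll_zero q1), ← neL_zero q2, evA_eq_prod, evA_eq_prod, ← List.map_reverse, List.map_map]; rfl
  obtain ⟨w, l, q⟩ := span_of hb a hg P0c
  have : u • vec b 1 = vec b 1 := by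
    interval_cases w
    · rw [(ap_xl _).zero, vec_zero, smul_eq_zero_iff_eq, ← vec_zero (b := b)] at q
      exact absurd (hb.inj _ (by decide) _ (by decide) q) (by decide)
    · exact q
  exact af_cols hb a hg (S := fun _ => 1) (n := fun _ => 1) (fun _ => ⟨by decide, by decide, this⟩) TPc TPd.1
    (allZ_sound0 TPd.2)

/-- a faithful module with known matrices -/
structure Mo (b : ℕ → V) (e : ℕ → G) (Ms : List (List ℕ)) (r c : ℕ) : Prop where
  bas : Bas b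
  ac : AcF b e Ms r
  top : gen e r = ⊤
  card : Nat.card G = c
  ff : ∀ g : G, (∀ v : V, g • v = v) → g = 1

theorem Mo.cj {b : ℕ → V} {e : ℕ → G} {Ms : List (List ℕ)} {r c : ℕ} (h : Mo b e Ms r c) (a : G) :
    Mo (fun i => a • b i) (cj a e) Ms r c :=
  ⟨h.bas.smul a, h.ac.cj a, by rw [gen_cj, h.top, Subgroup.map_top_of_surjective _ (MulAut.conj a).surjective], h.card, h.ff⟩

theorem etop (M : Md g pt U62.P 672 10 U62.B 9196830720) : gen (ee g) 9 = ⊤ := top_le_iff.1 (M.top ▸ Etop M)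

theorem mo0 (M : Md g pt U62.P 672 10 U62.B 9196830720) (h2 : ∀ v : V, v + v = 0) (hc : Nat.card V = 2 ^ 20)
    (ff : ∀ g : G, (∀ v : V, g • v = v) → g = 1) : ∃ b : ℕ → V, Mo b (ee g) ME 9 9196830720 := by
  obtain ⟨u, nt⟩ : ∃ u : V, wds g X_W 7 • u ≠ u := by
    by_contra! n
    simpa [ff _ n] using M.nrel (X_act M) (U := [7]) (V := []) 1 (by decide +kernel)
  obtain ⟨b, hb, a⟩ := ident M h2 hc nt
  exact ⟨b, hb, a, etop M, M.card, ff⟩

theorem beta [IsSimpleGroup G] (M : Md g pt U62.P 672 10 U62.B 9196830720) :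
    ∃ β : MulAut G, (∀ k < 9, β (ee g k) = ee g (sg k)) ∧ β ∉ Cfsg.Inn G ∧ β ^ 2 = 1 := by
  have : IsSimpleGroup (gen g 10) := M.top ▸ Subgroup.topEquiv.isSimpleGroup
  have c1 : Nat.card (gen g 10) = 9196830720 := by rw [M.top, Subgroup.card_top, M.card]
  have := M.fin
  obtain ⟨f, hf⟩ := U62.bound.exists_equiv_of_simple (Grel M) c1 (Drel M) (j := 0) (by decide) (by simpa using Dne M)
  have q : gen (wds g Dl_W) 10 = ⊤ :=
    Subgroup.eq_top_of_card_eq _ ((Nat.card_congr f.toEquiv).symm.trans (c1.trans M.card.symm))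
  obtain ⟨β, hβ⟩ : ∃ β : MulAut G, ∀ W, ltAll 10 W = 0 → β (evA g W) = evA (wds g Dl_W) W :=
    ⟨Subgroup.topEquiv.symm.trans ((MulEquiv.subgroupCongr M.top.symm).trans
      (f.trans ((MulEquiv.subgroupCongr q).trans Subgroup.topEquiv))),
    fun W hW => (map_evA _ _ W).trans (evA_congr _ fun k hk => congrArg Subtype.val (hf k (ltAll_zero hW k hk)))⟩
  have e : ∀ k < 9, β (ee g k) = ee g (sg k) := fun k hk => by
    obtain ⟨h1, h2⟩ := Nat.add_eq_zero_iff.1 (allZ_sound0 bet k hk)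
    obtain ⟨h0, h1⟩ := Nat.add_eq_zero_iff.1 h1
    refine .trans ?_ (M.eqw (Dl_act M) (E_act M) (ltAll_zero h0 _ List.mem_cons_self) (Nat.add_eq_zero_iff.2 ⟨h1, h2⟩)).1.symm
    rw [← hβ _ h1, evA_flat]; rfl
  refine ⟨β, e, ?_, MulEquiv.ext fun a => ?_⟩
  · rintro ⟨c, rfl⟩
    refine ncj M c trivial fun k hk => mul_inv_eq_iff_eq_mul.1 ?_
    change MulAut.conj c (wds (ee g) X3_W k) = wds (ee g) Y3_W k
    interval_cases k <;> simp [wds, X3_W, Y3_W, e, sg, -MulAut.conj_apply]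
  refine (gen_le (A := (β ^ 2).toMonoidHom.eqLocus (MonoidHom.id G))).2 (fun k hk => ?_) (etop M ▸ Subgroup.mem_top a)
  change β (β _) = _
  rw [e k hk, e _ (by revert k; decide +kernel), show sg (sg k) = k by revert k; decide +kernel]; rfl

theorem out_conj {A : Type*} [Group A] (I : Subgroup A) [I.Normal] (h : I.index = 6) {β τ : A} (h1 : β ∉ I) (h2 : β ^ 2 ∈ I)
    (h3 : τ ∉ I) (h4 : τ ^ 2 ∈ I) : ∃ ξ, ξ * β * ξ⁻¹ * τ⁻¹ ∈ I := by
  have : Finite (A ⧸ I) := Nat.finite_of_card_ne_zero (h ▸ (by decide : 6 ≠ 0) :)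
  have o {a : A} (h1 : a ∉ I) (h2 : a ^ 2 ∈ I) : orderOf (a : A ⧸ I) = 2 :=
    orderOf_eq_prime ((QuotientGroup.eq_one_iff _).2 h2) (mt (QuotientGroup.eq_one_iff _).1 h1)
  obtain ⟨γ, k, k2, k0, e⟩ := sylow_cyc Nat.prime_two (by rw [show Nat.card (A ⧸ I) = 6 from h]; decide) (o h3 h4) (o h1 h2)
  obtain ⟨ξ, rfl⟩ := QuotientGroup.mk_surjective γ
  obtain rfl : k = 1 := by omega
  exact ⟨ξ, (QuotientGroup.eq_one_iff _).1 (by simp [e])⟩

theorem md_aut {P : ℕ → ℕ → ℕ} {N K c : ℕ} {B : List ℕ} (M : Md g pt P N K B c) (ξ : MulAut G) :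
    ∃ _ : MulAction G Ω, Md (fun k => ξ (g k)) pt P N K B c :=
  ⟨MulAction.compHom Ω ξ.symm.toMonoidHom, @Md.mk _ _ _ (_) _ _ _ _ _ _ _
    (fun k hk i hi => ⟨(M.act k hk i hi).1, (congrArg (· • pt i) (ξ.symm_apply_apply _)).trans (M.act k hk i hi).2⟩) M.inj
    ((map_gen ξ.toMonoidHom g K).symm.trans (by rw [M.top]; exact Subgroup.map_top_of_surjective _ ξ.surjective)) M.card M.fin
    (fun a _ h => ξ.symm.map_eq_one_iff.1 (M.base _ trivial h)) M.ltB⟩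

omit [MulAction G Ω] in
theorem mo1 (K : Subgroup G) [K.Normal] [IsSimpleGroup K] (hi : K.index = 2) (hC : Subgroup.centralizer (K : Set G) = ⊥)
    [MulAction K Ω] {g : ℕ → K} (M : Md g pt U62.P 672 10 U62.B 9196830720) (hA : (Cfsg.Inn K).index = 6)
    (h2 : ∀ v : V, v + v = 0) (hc : Nat.card V = 2 ^ 20) (ff : ∀ g : K, (∀ v : V, g • v = v) → g = 1) :
    ∃ (b : ℕ → V) (e : ℕ → G), Mo b e (ME ++ [MO]) 10 (2 * 9196830720) ∧ ∀ k < 9, e k ∈ K := by
  obtain ⟨t, ht⟩ : ∃ t, t ∉ K := by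
    by_contra! n
    simp [Subgroup.index_eq_one.2 ((Subgroup.eq_top_iff' K).2 n)] at hi
  obtain ⟨β, e, h1, h3⟩ := beta M
  have z {a : G} (h : ∀ k : K, a * k * a⁻¹ = k) : a = 1 :=
    Subgroup.mem_bot.1 (hC ▸ fun k hk => (mul_inv_eq_iff_eq_mul.1 (h ⟨k, hk⟩)).symm)
  obtain ⟨ξ, c, hξ⟩ := out_conj _ hA h1 (h3 ▸ one_mem _) (τ := MulAut.conjNormal t) (by
    rintro ⟨c, e⟩
    refine ht (inv_mul_eq_one.1 (z (a := c.1⁻¹ * t) fun k => ?_) ▸ c.2)
    have : c.1 * k * c.1⁻¹ = t * k * t⁻¹ := congrArg (fun f : MulAut K => (f k).1) e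
    rw [mul_inv_rev, mul_assoc _ t, mul_assoc, ← mul_assoc (t * k), ← this]; group)
    ⟨⟨t ^ 2, K.sq_mem_of_index_two hi t⟩, by ext; simp [pow_two, mul_assoc]⟩
  obtain ⟨_, M'⟩ := md_aut M ξ
  obtain ⟨b, m⟩ := mo0 M' h2 hc ff
  have ex (k) : ee (fun k => ξ (g k)) k = ξ (ee g k) := by
    simp only [ee, wds, map_evA]; rfl
  have a : AcF b (fun k => if k = 9 then c * t else (ee (fun k => ξ (g k)) k : K)) ME 9 := fun k hk => by
    simp only [if_neg hk.ne]; exact m.ac k hk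
  refine ⟨b, _, ⟨m.bas, a.snoc rfl (outer m.bas a fun k hk => ?_), ?_, ?_, fun a f => z fun k => ?_⟩,
    fun k hk => by simp [if_neg hk.ne]⟩
  · beta_reduce
    rw [if_pos rfl, if_neg hk.ne, if_neg (by revert k; decide +kernel), ex, ex, ← e k hk, ← mul_inv_eq_iff_eq_mul]
    have := congrArg (fun f : MulAut K => (f (ξ (ee g k))).1) (eq_mul_inv_iff_mul_eq.1 hξ)
    simpa [mul_assoc] using this
  · set L : Subgroup G := gen _ 10
    have l : K ≤ L := by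
      rw [← K.range_subtype, MonoidHom.range_eq_map, ← m.top, map_gen]
      exact gen_le.2 fun k hk => by
        convert mem_gen _ (hk.trans (by decide : 9 < 10)); simp [hk.ne]
    have q : t ∈ L := (L.mul_mem_cancel_left (l c.2)).1 (mem_gen _ (by decide : 9 < 10))
    refine (L.eq_top_iff').2 fun a => by_cases (fun m => l m) fun n => (L.mul_mem_cancel_left q).1 (l ?_)
    exact (K.mul_mem_iff_of_index_two hi).2 (iff_of_false ht n)
  · rw [← K.index_mul_card, hi, m.card]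
  · have := ff ⟨a * k * a⁻¹ * k.1⁻¹, K.mul_mem (Subgroup.Normal.conj_mem ‹_› _ k.2 a) (K.inv_mem k.2)⟩ fun v => by
      change (_ : G) • v = v
      rw [mul_smul, mul_smul, mul_smul, f, (inv_smul_eq_iff.2 (f _).symm), smul_inv_smul]
    exact mul_inv_eq_one.1 (congrArg Subtype.val this)

end H10.SE
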