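import Cfsg.Agent.H10.SE.I

/-! Certificates for fixed spaces of involutions and of pairs of involutions. -/

set_option autoImplicit false
set_option linter.unusedSectionVars false

namespace H10.SE
open H16 H0.TR MulAction

variable {G V : Type*} [Group G] [AddCommGroup V] [DistribMulAction G V] {b : ℕ → V} {e : ℕ → G}
  {Ms : List (List ℕ)} {r c : ℕ}

theorem Mo.all (m : Mo b e Ms r c) {W : List ℕ} {P : G → Prop}
    (h : ∀ (b : ℕ → V) (e : ℕ → G), Mo b e Ms r c → P (evA e W)) {k : G} (hk : IsConj k (evA e W)) : P k := by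
  obtain ⟨a, rfl⟩ := isConj_iff.1 hk.symm
  exact evA_cj a e W ▸ h _ _ (m.cj a)

theorem Mo.chg (m : Mo b e Ms r c) {Ms' : List (List ℕ)} {Pm Qm : List ℕ} (h : (ltAll (2 ^ 20) Pm = 0 ∧ ltAll (2 ^ 20) Qm = 0 ∧
    allZ (fun i => Nat.xor (ap Qm (ap Pm (tp i))) (tp i)) 0 20 = true ∧
    allZ (fun i => Nat.xor (ap Pm (ap Qm (tp i))) (tp i)) 0 20 = true) ∧ allL (ltAll (2 ^ 20)) Ms' = true ∧
      allZ2 (fun k i => Nat.xor (ap (nth [] Ms k) (ap Pm (tp i))) (ap Pm (ap (nth [] Ms' k) (tp i)))) r 20 = true) :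
    Mo (fun i => vec b (ap Pm (tp i))) e Ms' r c :=
  ⟨m.bas.chg h.1, m.ac.chg m.bas.h2 ⟨h.1.1, h.2⟩, m.top, m.card, m.ff⟩

theorem Mo.sub (m : Mo b e Ms r c) {Ws Mw Vs : List (List ℕ)} {n : ℕ} (h : allL (ltAll r) Ws = true ∧
    allZ2 (matE Ms Ws Mw) n 20 = true ∧ allL (ltAll n) Vs = true ∧ allZ2 (matE Mw Vs Ms) r 20 = true) :
    Mo b (wds e Ws) Mw n c := by
  have a := m.ac.wds h.1 (allZ2_sound h.2.1)
  refine ⟨m.bas, a, top_le_iff.1 (m.top ▸ gen_le.2 fun k hk => ?_), m.card, m.ff⟩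
  refine inv_mul_eq_one.1 (m.ff ((H16.wds (H16.wds e Ws) Vs k)⁻¹ * e k) fun v => ?_) ▸ evA_mem_gen _ (nth_lt h.2.2.1 k)
  obtain ⟨x, hx, rfl⟩ := m.bas.surj v
  rw [mul_smul, inv_smul_eq_iff, (m.ac k hk x hx).2, (a.wds h.2.2.1 (allZ2_sound h.2.2.2) k hk x hx).2]

theorem Mo.fin (m : Mo b e Ms r c) (h : c ≠ 0) : Finite G := Nat.finite_of_card_ne_zero (m.card ▸ h)

/-- the check for a family of elements centralizing its last member -/
def CkC (Ms Ws Mw : List (List ℕ)) (r n s : ℕ) : Prop :=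
  allL (ltAll r) Ws = true ∧ allZ2 (matE Ms Ws Mw) (n + 1) 20 = true ∧
  allZ2 (fun j i => Nat.xor (apM Mw [n, j] (tp i)) (apM Mw [j, n] (tp i))) n 20 = true ∧ s ≤ n ∧
  allZ2 (fun j i => Nat.xor (apM Mw [j, j, j] (tp i)) (apM Mw [] (tp i))) s 20 = true ∧
  ∀ j < s, ∃ i < 20, ap (nth [] Mw j) (tp i) ≠ tp i

noncomputable instance (Ms Ws Mw : List (List ℕ)) (r n s : ℕ) : Decidable (CkC Ms Ws Mw r n s) := by
  unfold CkC; infer_instance

theorem Mo.ck (m : Mo b e Ms r c) {Ws Mw : List (List ℕ)} {n s : ℕ} (h : CkC Ms Ws Mw r n s) :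
    Ck b (wds e Ws n) (nth [] Mw n) (wds e Ws) Mw n s := by
  obtain ⟨h1, h2, h3, h4, h5, h6⟩ := h
  have a := m.ac.wds h1 (allZ2_sound h2)
  have q {U W : List ℕ} (l : ltAll (n + 1) U = 0) (l' : ltAll (n + 1) W = 0)
      (h : ∀ i < 20, Nat.xor (apM Mw U (tp i)) (apM Mw W (tp i)) = 0) : evA (wds e Ws) U = evA (wds e Ws) W := by
    refine inv_mul_eq_one.1 (m.ff _ fun v => ?_)
    obtain ⟨x, hx, rfl⟩ := m.bas.surj v
    rw [mul_smul, inv_smul_eq_iff, (a.word l x hx).2, (a.word l' x hx).2]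
    exact congrArg _ (lin_ind (S := fun x => apM Mw W x = apM Mw U x) ((apM_xl _ _).zero.trans (apM_xl _ _).zero.symm)
      (fun a c ha hc => by rw [apM_xl, apM_xl, ha, hc]) (fun i hi => tp_eq i ▸ (xz (h i hi)).symm) x hx)
  refine ⟨m.bas, a.af n.lt_succ_self, Act.mono a n.le_succ, fun j hj => ?_, fun j hj => ⟨by omega, ?_, fun q => ?_⟩⟩
  · simpa using q (ltAll_of (by simp; omega)) (ltAll_of (by simp; omega)) (allZ2_sound h3 j hj)
  · simpa [pow_three'] using q (ltAll_of (by simp; omega)) rfl (allZ2_sound h5 j hj)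
  obtain ⟨i, hi, l⟩ := h6 j hj
  exact l ((m.bas.fix (a.af (by omega)) ((tp_eq _).trans_lt (Nat.pow_lt_pow_right one_lt_two hi))).1 (by rw [q, one_smul]))

theorem Ck.bad {k : G} {K La Ra Z : List ℕ} {n s : ℕ} (h : Ck b k K e Ms n s) {C : List (List ℕ × ℕ × ℕ)}
    (c : kerC [(K, Z)] La Ra 12 = true ∧ ltAll (2 ^ 20) La = 0 ∧ 0 < s ∧
      allZ (fun i => Nat.xor (ap K (ap La (tp i))) (ap La (tp i))) 0 12 = true ∧
      allZ (fun i => Nat.xor (ap Ra (ap La (tp i))) (tp i)) 0 12 = true ∧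
      allZ (fun i => leaf K Ms n s (ap La (tp i)) (nth ([], 0, 0) C i)) 0 12 = true) :
    (Gd k (0 : V) ∧ Nat.card (Fi V k) = 2 ^ 12) ∧
      ∀ I : AddSubgroup V, (∀ v ∈ Fi V k, Gd k v → v ∈ I) → Fi V k ≤ I := by
  obtain ⟨c1, c2, c3, c4, c5, c6⟩ := c
  have l : ∀ v ∈ Fi V k, ∃ u < 2 ^ 12, v = vec b (ap La u) := fun v hv => by
    obtain ⟨x, hx, rfl⟩ := h.bas.surj v
    obtain ⟨u, hu, rfl⟩ := kerle c1 hx (by simpa using (h.bas.fix h.ak hx).1 hv)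
    exact ⟨u, hu, rfl⟩
  have f : ∀ u < 2 ^ 12, vec b (ap La u) ∈ Fi V k := fun u hu =>
    (h.bas.fix h.ak (ap_lt c2 u)).2 (((ap_xl K).comp (ap_xl La)).ext (ap_xl La) c4 u hu)
  obtain ⟨j1, j2, j3⟩ := h.o3 0 c3
  have : Finite (Fi V k) := Finite.of_surjective (fun u : Fin (2 ^ 12) => (⟨_, f u u.2⟩ : Fi V k)) fun v => by
    obtain ⟨u, hu, q⟩ := l v v.2; exact ⟨⟨u, hu⟩, Subtype.ext q.symm⟩
  refine ⟨⟨⟨_, 0, j2, j3, h.cm 0 j1, by simp⟩, (card_le_of _ l).antisymm ((Nat.card_fin _).ge.trans (Nat.card_le_card_of_injective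
    (fun u : Fin (2 ^ 12) => (⟨_, f u u.2⟩ : Fi V k)) fun u w q => Fin.ext ?_))⟩, fun I hI v hv => ?_⟩
  · have x := ((ap_xl Ra).comp (ap_xl La)).ext XL.id c5
    rw [← x u u.2, ← x w w.2, h.bas.inj _ (ap_lt c2 _) _ (ap_lt c2 _) (congrArg Subtype.val q)]
  obtain ⟨u, hu, rfl⟩ := l v hv
  refine lin_ind (S := fun u => vec b (ap La u) ∈ I) (by rw [(ap_xl _).zero, vec_zero]; exact I.zero_mem)
    (fun a c ha hc => by rw [ap_xl, vec_xor h.bas.h2]; exact I.add_mem ha hc) (fun i hi => ?_) u hu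
  exact hI _ (f _ (Nat.pow_lt_pow_right one_lt_two hi)) (tp_eq i ▸ h.lf (ap_lt c2 _) (allZ_sound0 c6 i hi))

/-- the fixed vectors of a subgroup -/
abbrev Fs (V : Type*) [AddCommGroup V] [DistribMulAction G V] (D : Subgroup G) : AddSubgroup V := ⨅ d ∈ D, Fi V d

/-- bounds for the fixed space of a group containing a pure four-group -/
def Tq (V : Type*) [AddCommGroup V] [DistribMulAction G V] (k d : G) (m : ℕ) : Prop :=
  d ≠ k → IsConj d k → IsConj (k * d) k → ∀ D : Subgroup G, k ∈ D → d ∈ D →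
    Nat.card (Fs V D) ≤ 2 ^ (m + 1) ∧ (4 < Nat.card D → Nat.card (Fs V D) ≤ 2 ^ m)

theorem ker2 (hb : Bas b) {k d : G} {K M Z Z' La Ra : List ℕ} {m : ℕ} (hk : Af b k (ap K)) (hd : Af b d (ap M))
    (c : kerC [(K, Z), (M, Z')] La Ra m = true) : Nat.card (Fi V k ⊓ Fi V d :) ≤ 2 ^ m :=
  card_le_of (f := fun u => vec b (ap La u)) _ fun v hv => by
    obtain ⟨x, hx, rfl⟩ := hb.surj v
    obtain ⟨u, hu, rfl⟩ := kerle c hx (by simpa using ⟨(hb.fix hk hx).1 hv.1, (hb.fix hd hx).1 hv.2⟩)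
    exact ⟨u, hu, rfl⟩

theorem fs_le {k d : G} {D : Subgroup G} (hk : k ∈ D) (hd : d ∈ D) : Fs V D ≤ Fi V k ⊓ Fi V d :=
  le_inf (iInf₂_le k hk) (iInf₂_le d hd)

theorem tq_ker [Finite V] {k d : G} {m : ℕ} (h : Nat.card (Fi V k ⊓ Fi V d :) ≤ 2 ^ m) : Tq V k d m := fun _ _ _ _ hk hd =>
  have := (AddSubgroup.card_le_of_le (fs_le hk hd)).trans h
  ⟨this.trans (Nat.pow_le_pow_right two_pos m.le_succ), fun _ => this⟩

theorem tq_stab [Finite V] [Finite G] {k d : G} {m N : ℕ} (h : Nat.card (Fi V k ⊓ Fi V d :) ≤ 2 ^ (m + 1)) {t : ℕ → G}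
    {pt : ℕ → V} {L : List Lev} {Bf : List ℕ} (S : Stage ⊤ t pt N L Bf) (c : chainCard L = 4)
    (f : ∀ i ∈ Bf, pt i ∈ Fi V k ⊓ Fi V d) : Tq V k d m := fun _ _ _ D hk hd => by
  refine ⟨(AddSubgroup.card_le_of_le (fs_le hk hd)).trans h, fun l => ?_⟩
  obtain ⟨j, hj⟩ := AddSubgroup.card_dvd_of_le (fs_le (V := V) hk hd)
  have : j ≠ 1 := fun q => l.not_ge <| by
    have := AddSubgroup.eq_of_le_of_card_ge (fs_le (V := V) hk hd) (by rw [hj, q, mul_one])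
    rw [← c, ← (S.ch.card S.inj).2, gen_gi]
    exact Subgroup.card_le_of_le fun g hg => (S.fix g).2 ⟨trivial, fun i hi => (iInf₂_le g hg : Fs V D ≤ _) (this.ge (f i hi))⟩
  have : j ≠ 0 := by rintro rfl; exact Nat.card_pos.ne' hj
  have : 2 ≤ j := by omega
  nlinarith [pow_succ 2 m]

theorem tq_cnt {Ω : Type*} [MulAction G Ω] {pt : ℕ → Ω} {P : ℕ → ℕ → ℕ} {N m : ℕ} {B : List ℕ} (M : Md e pt P N r B c)
    {k d : G} {f g : ℕ → ℕ} (hk : Rp k pt N f) (hd : Rp d pt N g)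
    (h : cnt g N ≠ cnt f N ∨ cnt (fun i => f (g i)) N ≠ cnt f N) : Tq V k d m := fun _ h1 h2 => by
  obtain ⟨_, q⟩ := fix_cnt M
  rw [← q _ _ hk, ← q _ _ hd, ← q _ _ (hk.mul hd)] at h
  exact (h.elim (· (fix_conj h1)) (· (fix_conj h2))).elim

theorem pure_card {Ω : Type*} [MulAction G Ω] {pt : ℕ → Ω} {P : ℕ → ℕ → ℕ} {B : List ℕ} (M : Md e pt P 891 r B c)
    {k : G} {f : ℕ → ℕ} (hk : Rp k pt 891 f) (h : cnt f 891 = 75) {D : Subgroup G}
    (hD : ∀ d ∈ D, d * d = 1 ∧ (d ≠ 1 → IsConj d k)) : Nat.card D ∣ 16 := by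
  obtain ⟨_, q⟩ := fix_cnt M
  have := M.fin
  obtain ⟨n, hn⟩ := IsPGroup.iff_card.1 (fun d => ⟨1, Subtype.ext (by simpa [pow_two] using (hD d d.2).1)⟩ : IsPGroup 2 D)
  have := Homog.count (Ω := Fin 891) (A := D) (m := 2 ^ n - 1) (y := k)
    ⟨by rw [hn, Nat.sub_add_cancel Nat.one_le_two_pow], fun a ha n => ((hD a ha).2 n).symm⟩
  rw [q _ _ hk, h, Nat.sub_add_cancel Nat.one_le_two_pow, Fintype.card_fin] at this
  refine hn ▸ (Nat.Coprime.pow_left n (by decide : Nat.Coprime 2 51)).dvd_of_dvd_mul_left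
    ((Nat.dvd_add_left (dvd_mul_right (2 ^ n) 75)).1 ⟨Nat.card (orbitRel.Quotient D (Fin 891)), ?_⟩)
  rw [mul_comm _ (Nat.card _), this]
  have := Nat.one_le_two_pow (n := n); omega

theorem pu_of [Finite G] {k : G} {w : ℕ → G} {D : Subgroup G} (hk : k ∈ D) (h16 : Nat.card D ∣ 16) (h4 : 4 ≤ Nat.card D)
    (hD : ∀ d ∈ D, d * d = 1 ∧ (d ≠ 1 → IsConj d k))
    (h : ∀ d ∈ D, d = 1 ∨ Tq V k d 8 ∨ Tq V k d 9 ∧ ∃ j < 6, d = w j) : Nat.card D * Nat.card (Fs V D) ≤ 2 ^ 12 := by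
  classical
  have t {d m} (hd : d ∈ D) (h1 : d ≠ 1) (h2 : d ≠ k) (q : Tq V k d m) := q h2 ((hD d hd).2 h1)
    ((hD _ (D.mul_mem hk hd)).2 fun e => h2 (by rw [← mul_one d, ← (hD k hk).1, ← mul_assoc, mul_eq_one_comm.1 e, one_mul]))
    D hk hd
  have x (s : Finset G) (l : s.card < Nat.card D) : ∃ d ∈ D, d ∉ s := by
    by_contra! n
    exact l.not_ge ((Set.ncard_le_ncard (fun d hd => n d hd : (D : Set G) ⊆ s)).trans_eq (Set.ncard_coe_finset s))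
  by_cases l : Nat.card D = 16
  · obtain ⟨d, hd, n⟩ := x (insert 1 (insert k ((Finset.range 6).image w))) <| (Finset.card_insert_le _ _).trans_lt <| by
      have := (Finset.card_insert_le k _).trans (Nat.succ_le_succ (Finset.card_image_le (s := Finset.range 6) (f := w)))
      simp at this; omega
    simp only [Finset.mem_insert, Finset.mem_image, Finset.mem_range, not_or, not_exists, not_and] at n
    rcases h d hd with q | q | ⟨-, j, hj, q⟩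
    · exact (n.1 q).elim
    · have := (t hd n.1 n.2.1 q).2 (by omega); rw [l]; omega
    · exact (n.2.2 j hj q.symm).elim
  obtain ⟨d, hd, n⟩ := x {1, k} (Finset.card_le_two.trans_lt (by omega))
  simp only [Finset.mem_insert, Finset.mem_singleton, not_or] at n
  have q : Nat.card D = 4 ∨ Nat.card D = 8 := by
    have := Nat.le_of_dvd (by decide) h16
    generalize Nat.card D = a at h4 h16 l this; interval_cases a <;> simp_all
  rcases h d hd with e | e | ⟨e, -⟩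
  · exact (n.1 e).elim
  all_goals have := t hd n.1 n.2 e; rcases q with q | q <;> rw [q] at this ⊢ <;> omega

end H10.SE
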